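import Cfsg.Agent.Lib.SDCyclic.PGLShape
import Cfsg.Agent.Lib.AutPSL.Group
import Cfsg.Agent.Lib.AutPSLOrder.Main
import Cfsg.Agent.Lib.PSL2.Classes
import Cfsg.Agent.Lib.PSL2.SmallIso
import Cfsg.Agent.S2119
import Cfsg.Agent.Lib.GW.KType

/-!
# Recognition of `PGL₂(q)`

`exists_pgl_equiv`: a finite group with dihedral Sylow 2-subgroups, known sections, trivial odd
core, cyclic odd Sylow subgroups, not a 2-group and with two classes of involutions is `PGL₂(q)`
for an odd prime `q`.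
-/

set_option autoImplicit false
set_option linter.style.haveILetI false
set_option linter.unusedSectionVars false

namespace Cfsg.Agent.SDCyclic

open Matrix
open scoped MatrixGroups

section AutPSL

variable {q : ℕ} [hq : Fact q.Prime]

local notation "𝔽" => ZMod q

variable (q) in
/-- `PGL₂` acting on `PSL₂`. -/
noncomputable def pglAct : PGL(2, 𝔽) →* MulAut PSL(2, 𝔽) :=
  Matrix.ProjGenLinGroup.lift (AutPSL.conjP (n := 2)) (MonoidHom.ext fun c => AutPSL.conjP_scalar c)

theorem pglAct_mk (A : GL (Fin 2) 𝔽) :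
    pglAct q (Matrix.ProjGenLinGroup.mk A) = AutPSL.conjP A := rfl

theorem pglAct_injective : Function.Injective (pglAct q) := by
  refine (injective_iff_map_eq_one _).2 fun y hy => ?_
  induction y using Matrix.ProjGenLinGroup.induction_on with | mk A => ?_
  rw [pglAct_mk] at hy
  obtain ⟨c, rfl⟩ := (AutPSL.conjP_eq_one_iff (m := 1) le_rfl A).1 hy
  exact Matrix.ProjGenLinGroup.mk_scalar c

theorem pglAct_surjective : Function.Surjective (pglAct q) := by
  intro β
  obtain ⟨A, σ, γ, hγ, rfl⟩ := AutPSL.exists_decomposition (m := 1) le_rfl β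
  haveI : Subsingleton (𝔽 ≃+* 𝔽) := inferInstance
  rw [Subsingleton.elim σ 1, AutPSL.fieldP_one, mul_one]
  rcases hγ with rfl | rfl
  · exact ⟨Matrix.ProjGenLinGroup.mk A, by rw [pglAct_mk, mul_one]⟩
  · obtain ⟨J, hJ⟩ := AutPSLOrder.invP_eq_conjP (F := 𝔽)
    exact ⟨Matrix.ProjGenLinGroup.mk A * Matrix.ProjGenLinGroup.mk J, by
      rw [map_mul, pglAct_mk, pglAct_mk, ← hJ]⟩

variable (q) in
/-- `Aut PSL₂(q) ≅ PGL₂(q)`. -/
noncomputable def autEquiv : MulAut PSL(2, 𝔽) ≃* PGL(2, 𝔽) :=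
  (MulEquiv.ofBijective (pglAct q) ⟨pglAct_injective, pglAct_surjective⟩).symm

theorem autEquiv_conj (x : PSL(2, 𝔽)) : autEquiv q (MulAut.conj x) = PSL2.Maximal.psi x := by
  apply (autEquiv q).symm.injective
  rw [MulEquiv.symm_apply_apply]
  show MulAut.conj x = pglAct q (PSL2.Maximal.psi x)
  obtain ⟨A, hA⟩ := Matrix.ProjGenLinGroup.mk_surjective (PSL2.Maximal.psi x)
  rw [← hA, pglAct_mk]
  ext y
  apply PSL2.Maximal.psi_injective
  rw [PSL2.Maximal.psi_conjP, hA, MulAut.conj_apply, map_mul, map_mul, map_inv]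

/-- A group containing `PSL₂(q)` as a self-centralizing normal subgroup embeds in `PGL₂(q)`. -/
theorem exists_embedding {L : Type*} [Group L] (E : Subgroup L) [E.Normal]
    (hE : Subgroup.centralizer (E : Set L) = ⊥) (ε : E ≃* PSL(2, 𝔽)) :
    ∃ f : L →* PGL(2, 𝔽), Function.Injective f ∧ ∀ x : E, f x = PSL2.Maximal.psi (ε x) := by
  refine ⟨(autEquiv q).toMonoidHom.comp ((MulAut.congr ε).toMonoidHom.comp MulAut.conjNormal),
    (autEquiv q).injective.comp ((MulAut.congr ε).injective.comp ?_), fun x => ?_⟩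
  · refine (injective_iff_map_eq_one _).2 fun g hg => ?_
    have hmem : g ∈ Subgroup.centralizer (E : Set L) := by
      rw [Subgroup.mem_centralizer_iff]
      intro e he
      have := congrArg Subtype.val (DFunLike.congr_fun hg ⟨e, he⟩)
      rw [MulAut.conjNormal_apply] at this
      simp at this
      exact (mul_inv_eq_iff_eq_mul.1 this).symm
    rwa [hE, Subgroup.mem_bot] at hmem
  · show autEquiv q (MulAut.congr ε (MulAut.conjNormal (x : L))) = _
    rw [← autEquiv_conj]
    congr 1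
    ext y
    show ε (MulAut.conjNormal (x : L) (ε.symm y)) = _
    rw [show MulAut.conjNormal (x : L) (ε.symm y) = x * ε.symm y * x⁻¹ from
      Subtype.ext (MulAut.conjNormal_apply _ _), map_mul, map_mul, map_inv,
      MulEquiv.apply_symm_apply, MulAut.conj_apply]

end AutPSL

section Cyclic

variable {L : Type*} [Group L] [Finite L]

theorem card_le_of_cyclic {p : ℕ} (hp : p.Prime) {Q : Subgroup L} (hQ : IsCyclic Q)
    {T : Type*} [Fintype T] (ι : T → L) (hι : Function.Injective ι) (hmem : ∀ t, ι t ∈ Q)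
    (hpow : ∀ t, ι t ^ p = 1) : Fintype.card T ≤ p := by
  classical
  haveI : Fintype Q := Fintype.ofFinite _
  refine le_trans ?_ (IsCyclic.card_pow_eq_one_le (α := Q) hp.pos)
  refine Finset.card_le_card_of_injOn (fun t => (⟨ι t, hmem t⟩ : Q)) ?_ ?_
  · intro t _
    simp only [Finset.coe_filter, Set.mem_setOf_eq, Finset.mem_univ, true_and]
    exact Subtype.ext (by rw [Subgroup.coe_pow]; exact hpow t)
  · intro t _ t' _ h
    exact hι (congrArg Subtype.val h)

theorem four_isConj : ∀ a b : alternatingGroup (Fin 4), a * a = 1 → a ≠ 1 → b * b = 1 → b ≠ 1 →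
    ∃ c, c * a * c⁻¹ = b := by decide

theorem seven_three : ∃ a b : alternatingGroup (Fin 7), a ^ 3 = 1 ∧ b ^ 3 = 1 ∧ a * b = b * a ∧
    a ≠ 1 ∧ b ≠ 1 ∧ b ≠ a ∧ b ≠ a * a := by
  refine ⟨⟨Equiv.swap 0 1 * Equiv.swap 1 2, ?_⟩, ⟨Equiv.swap 3 4 * Equiv.swap 4 5, ?_⟩,
    ?_, ?_, ?_, ?_, ?_, ?_, ?_⟩
  all_goals first | decide | (rw [Equiv.Perm.mem_alternatingGroup]; decide)

theorem not_isKnown_seven (hcyc : ∀ p, p.Prime → p ≠ 2 → ∀ Q : Subgroup L, IsPGroup p Q → IsCyclic Q)
    (E : Subgroup L) (e : E ≃* alternatingGroup (Fin 7)) : False := by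
  obtain ⟨a, b, ha, hb, hab, ha1, hb1, hba, hbaa⟩ := seven_three
  haveI : Fact (Nat.Prime 3) := ⟨Nat.prime_three⟩
  set φ : alternatingGroup (Fin 7) →* L := E.subtype.comp e.symm.toMonoidHom with hφ
  have hφi : Function.Injective φ := E.subtype_injective.comp e.symm.injective
  set H := Subgroup.zpowers a ⊔ Subgroup.zpowers b with hH
  have hnorm : Subgroup.zpowers b ≤ Subgroup.normalizer (Subgroup.zpowers a : Set _) := by
    rw [Subgroup.zpowers_le]
    refine Subgroup.mem_normalizer_iff.2 fun g => ?_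
    have hc : ∀ k : ℤ, b * a ^ k * b⁻¹ = a ^ k := fun k => by
      rw [((Commute.symm hab).zpow_right k).eq, mul_inv_cancel_right]
    constructor
    · rintro ⟨k, rfl⟩; exact ⟨k, (hc k).symm⟩
    · rintro ⟨k, hk⟩
      refine ⟨k, ?_⟩
      have := hc k
      rw [show a ^ k = b * g * b⁻¹ from hk] at this
      exact hk.trans (by
        have h2 := congrArg (fun v => b⁻¹ * v * b) this
        simpa [mul_assoc] using h2)
  have hp : ∀ v : alternatingGroup (Fin 7), v ^ 3 = 1 → IsPGroup 3 (Subgroup.zpowers v) := fun v hv => by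
    rintro ⟨g, k, rfl⟩
    exact ⟨1, Subtype.ext (by
      show (v ^ k) ^ 3 ^ 1 = 1
      rw [pow_one, ← zpow_natCast, ← _root_.zpow_mul, mul_comm, _root_.zpow_mul, zpow_natCast, hv,
        _root_.one_zpow])⟩
  have hHp : IsPGroup 3 H := IsPGroup.to_sup_of_normal_left' (hp a ha) (hp b hb) hnorm
  have hcard := card_le_of_cyclic Nat.prime_three (hcyc 3 Nat.prime_three (by norm_num) _ (hHp.map φ))
    (fun i : Fin 4 => φ (![1, a, a * a, b] i)) ?_ ?_ ?_
  · simp at hcard
  · refine hφi.comp ?_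
    have haa1 : a * a ≠ 1 := fun h => ha1 (by
      rw [pow_succ, pow_two, h, one_mul] at ha; exact ha)
    have haaa : a * a ≠ a := fun h => ha1 (mul_eq_left.1 h)
    intro i j hij
    fin_cases i <;> fin_cases j <;>
      simp_all [Ne.symm ha1, Ne.symm hb1, Ne.symm hba, Ne.symm hbaa, Ne.symm haa1, Ne.symm haaa]
  · intro i
    refine Subgroup.mem_map_of_mem φ ?_
    have hma : a ∈ H := Subgroup.mem_sup_left (Subgroup.mem_zpowers a)
    fin_cases i
    exacts [one_mem _, hma, mul_mem hma hma, Subgroup.mem_sup_right (Subgroup.mem_zpowers b)]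
  · intro i
    rw [← map_pow]
    refine (congrArg φ ?_).trans (map_one φ)
    fin_cases i
    exacts [one_pow _, ha, by
      show (a * a) ^ 3 = 1
      rw [(Commute.refl a).mul_pow, ha, one_mul], hb]

/-- The field of a known `PSL₂` is a prime field. -/
theorem card_field_eq_prime {F : Type} [Field F] [Fintype F] (hodd : Odd (Fintype.card F))
    (hcyc : ∀ p, p.Prime → p ≠ 2 → ∀ Q : Subgroup L, IsPGroup p Q → IsCyclic Q)
    (E : Subgroup L) (e : E ≃* PSL(2, F)) : (Fintype.card F).Prime := by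
  obtain ⟨p, hchar⟩ := CharP.exists F
  obtain ⟨n, hp, hcard⟩ := FiniteField.card F p
  haveI : Fact p.Prime := ⟨hp⟩
  have hp2 : p ≠ 2 := fun h => by
    rw [hcard, h] at hodd
    exact Nat.not_even_iff_odd.2 hodd (Nat.even_pow.2 ⟨even_two, n.pos.ne'⟩)
  have h01 : (0 : Fin 2) ≠ 1 := by decide
  set r : Multiplicative F →* PSL(2, F) :=
    MonoidHom.mk' (fun t => AutPSL.xel (m := 1) 0 1 h01 t.toAdd) (fun s t => AutPSL.xel_mul h01 _ _)
    with hr
  set φ : Multiplicative F →* L := E.subtype.comp (e.symm.toMonoidHom.comp r) with hφ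
  have hpow : ∀ t : Multiplicative F, t ^ p = 1 := fun t => by
    apply Multiplicative.toAdd.injective
    rw [toAdd_pow, toAdd_one, nsmul_eq_mul, CharP.cast_eq_zero, zero_mul]
  have hpg : IsPGroup p φ.range := by
    rintro ⟨_, t, rfl⟩
    exact ⟨1, Subtype.ext (by
      show φ t ^ p ^ 1 = 1
      rw [pow_one, ← map_pow, hpow, map_one])⟩
  have hle : Fintype.card F ≤ p := card_le_of_cyclic hp (hcyc p hp hp2 _ hpg)
    (fun t : F => φ (Multiplicative.ofAdd t))
    (E.subtype_injective.comp (e.symm.injective.comp (AutPSL.xel_injective h01)))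
    (fun t => ⟨_, rfl⟩) (fun t => by rw [← map_pow, hpow, map_one])
  have : p = Fintype.card F := le_antisymm (by rw [hcard]; exact Nat.le_self_pow n.pos.ne' p) hle
  exact this ▸ hp

/-- Recognition of `PGL₂(q)`. -/
theorem exists_pgl_equiv (hd : GW.SubDihedral L) (hk : GW.KnownSections L)
    (hO : Cfsg.oddCore L = ⊥)
    (hcyc : ∀ p, p.Prime → p ≠ 2 → ∀ Q : Subgroup L, IsPGroup p Q → IsCyclic Q)
    (h2g : ¬ IsPGroup 2 L) {v w : L} (hv : orderOf v = 2) (hw : orderOf w = 2) (hvw : ¬ IsConj v w) :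
    ∃ (q : ℕ) (_ : Fact q.Prime), q ≠ 2 ∧ ∃ f : L →* PGL(2, ZMod q), Function.Bijective f := by
  rcases GW.structure_of_oddCore_eq_bot hd hk hO with h | ⟨⟨e⟩⟩ | ⟨⟨e⟩⟩ | ⟨E, hEn, -, hEk, hEc⟩
  · exact absurd h h2g
  · exfalso
    have key : ∀ u : L, orderOf u = 2 → e u * e u = 1 ∧ e u ≠ 1 := fun u hu =>
      ⟨by rw [← map_mul, ← pow_two]; rw [← hu, pow_orderOf_eq_one, map_one],
        fun h => by rw [e.injective (h.trans (map_one e).symm), orderOf_one] at hu; omega⟩
    obtain ⟨c, hc⟩ := four_isConj _ _ (key v hv).1 (key v hv).2 (key w hw).1 (key w hw).2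
    exact hvw (isConj_iff.2 ⟨e.symm c, by
      apply e.injective
      rw [map_mul, map_mul, map_inv, MulEquiv.apply_symm_apply, hc]⟩)
  · haveI : Fact (Nat.Prime 3) := ⟨Nat.prime_three⟩
    haveI : Finite PGL(2, ZMod 3) := PSL2.pgl_finite
    obtain ⟨ε⟩ := PSL2.psl_three_iso (F := ZMod 3) (ZMod.card 3)
    set θ : Equiv.Perm (Fin 4) →* MulAut PSL(2, ZMod 3) :=
      (MulAut.congr ε.symm).toMonoidHom.comp MulAut.conjNormal with hθ
    have hθi : Function.Injective θ :=
      (MulAut.congr ε.symm).injective.comp (Cfsg.Agent.S2119.result 4 le_rfl (by norm_num)).injective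
    refine ⟨3, inferInstance, by norm_num,
      (autEquiv 3).toMonoidHom.comp (θ.comp e.toMonoidHom), ?_⟩
    rw [Nat.bijective_iff_injective_and_card]
    refine ⟨(autEquiv 3).injective.comp (hθi.comp e.injective), ?_⟩
    rw [Nat.card_congr e.toEquiv, Nat.card_perm, PSL2.Maximal.card_pgl_eq (by rw [ZMod.card]; decide),
      Nat.card_congr ε.toEquiv, Nat.card_eq_fintype_card, Nat.card_eq_fintype_card,
      Fintype.card_fin]
    decide
  · haveI := hEn
    rcases hEk with ⟨F, iF, iF', hodd, -, ⟨e⟩⟩ | ⟨⟨e⟩⟩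
    swap
    · exact (not_isKnown_seven hcyc E e).elim
    obtain ⟨q, hq⟩ : ∃ q, Fintype.card F = q := ⟨_, rfl⟩
    haveI hqF : Fact q.Prime := ⟨hq ▸ card_field_eq_prime hodd hcyc E e⟩
    have hq2 : q ≠ 2 := fun h => by rw [hq, h] at hodd; exact absurd hodd (by decide)
    obtain ⟨ε, -⟩ : ∃ ε : E ≃* PSL(2, ZMod q), True :=
      ⟨e.trans (PSL2.pslCongr (ZMod.ringEquivOfPrime F hqF.out hq).symm), trivial⟩
    obtain ⟨f, hfi, hfE⟩ := exists_embedding E hEc ε
    refine ⟨q, hqF, hq2, f, hfi, ?_⟩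
    haveI : Finite PGL(2, ZMod q) := PSL2.pgl_finite
    set P := sqPart (ZMod q) with hP
    have hle : P ≤ f.range := by
      rintro _ ⟨y, rfl⟩
      obtain ⟨x, rfl⟩ := ε.surjective y
      exact ⟨x, hfE x⟩
    rw [← MonoidHom.range_eq_top]
    by_contra hne
    have hidx : P.index = 2 := PSL2.Maximal.index_range_psi (odd_card hq2)
    have heq : f.range = P := by
      have h1 : f.range.index ∣ 2 := (Subgroup.index_dvd_of_le hle).trans hidx.dvd
      rcases (Nat.dvd_prime Nat.prime_two).1 h1 with h | h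
      · exact absurd (Subgroup.index_eq_one.1 h) hne
      · refine (Subgroup.eq_of_le_of_card_ge hle ?_).symm
        have e1 := P.card_mul_index
        have e2 := f.range.card_mul_index
        rw [hidx] at e1
        rw [h] at e2
        omega
    have hmem : ∀ u : L, orderOf u = 2 → ∃ x : PSL(2, ZMod q),
        orderOf x = 2 ∧ PSL2.Maximal.psi x = f u := by
      intro u hu
      obtain ⟨x, hx⟩ : f u ∈ P := heq ▸ ⟨u, rfl⟩
      exact ⟨x, by rw [← orderOf_injective _ PSL2.Maximal.psi_injective, hx,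
        orderOf_injective _ hfi, hu], hx⟩
    obtain ⟨x, hx, hxv⟩ := hmem v hv
    obtain ⟨y, hy, hyw⟩ := hmem w hw
    obtain ⟨c, hc⟩ := isConj_iff.1 (PSL2.psl_involutions_isConj hx hy)
    obtain ⟨d, hd'⟩ : PSL2.Maximal.psi c ∈ f.range := heq ▸ ⟨c, rfl⟩
    refine hvw (isConj_iff.2 ⟨d, hfi ?_⟩)
    rw [map_mul, map_mul, map_inv, hd', ← hxv, ← hyw, ← hc, map_mul, map_mul, map_inv]

end Cyclic

end Cfsg.Agent.SDCyclic
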