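import Cfsg.Agent.Lib.AutPSL.Main
import Cfsg.Agent.Lib.AutPSL.Group
import Cfsg.Agent.Lib.AutPSLOrder.Main
import Cfsg.Agent.Lib.PSL2.Sylow
import Cfsg.Agent.Lib.PSL2.PGLHom

/-!
# `PSL(2, F)` with cyclic Sylow subgroup in the characteristic, and its automorphisms

* `card_prime_of_cyclic`: if the `p`-subgroups of `PSL(2, F)` are cyclic then `|F| = p`;
* `card_mulAut_le_two`: `|Aut PSL(2, p)| ≤ 2 |PSL(2, p)|`.
-/

set_option autoImplicit false
set_option linter.style.haveILetI false
set_option linter.unusedSectionVars false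

namespace Cfsg.Agent.SDCyclic

open AutPSL AutPSLOrder
open scoped MatrixGroups

variable {F : Type} [Field F] [Fintype F]

/-- The field is prime. -/
theorem card_prime_of_cyclic (hodd : Odd (Fintype.card F))
    (hc : ∀ p : ℕ, p.Prime → p ≠ 2 → ∀ Q : Subgroup (Matrix.ProjectiveSpecialLinearGroup (Fin 2) F),
      IsPGroup p Q → IsCyclic Q) :
    (Fintype.card F).Prime := by
  classical
  obtain ⟨n, hp, hcard⟩ := FiniteField.card F (ringChar F)
  haveI := Fact.mk hp
  haveI : CharP F (ringChar F) := inferInstance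
  have hp2 : ringChar F ≠ 2 := by
    intro h
    rw [h] at hcard
    rw [hcard, Nat.odd_iff, Nat.pow_mod] at hodd
    simp [n.pos.ne'] at hodd
  set f : Multiplicative F →* Matrix.ProjectiveSpecialLinearGroup (Fin 2) F :=
    (QuotientGroup.mk' _).comp PSL2.uuHom with hf
  have hinj : Function.Injective f := by
    rw [injective_iff_map_eq_one]
    intro t ht
    rcases PSL2.mk_eq_one.1 ht with h | h
    · have h1 : (PSL2.uu (Multiplicative.toAdd t)) 0 1 = (1 : SL(2, F)) 0 1 := by
        rw [show PSL2.uu (Multiplicative.toAdd t) = 1 from h]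
      exact Multiplicative.toAdd.injective h1
    · have h1 : (PSL2.uu (Multiplicative.toAdd t)) 0 0 = (-1 : SL(2, F)) 0 0 := by
        rw [show PSL2.uu (Multiplicative.toAdd t) = -1 from h]
      simp only [PSL2.uu00, Matrix.SpecialLinearGroup.coe_neg, Matrix.SpecialLinearGroup.coe_one,
        Matrix.neg_apply, Matrix.one_apply_eq] at h1
      exact absurd (by linear_combination h1) (PSL2.odd_card_iff.1 hodd)
  have hpG : IsPGroup (ringChar F) f.range := by
    refine IsPGroup.of_surjective ?_ f.rangeRestrict f.rangeRestrict_surjective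
    exact IsPGroup.of_card (n := (n : ℕ)) (by
      rw [Nat.card_eq_fintype_card, Fintype.card_multiplicative, hcard])
  haveI := hc _ hp hp2 f.range hpG
  haveI : IsCyclic (Multiplicative F) :=
    isCyclic_of_injective f.rangeRestrict fun x y h => hinj (congrArg Subtype.val h)
  obtain ⟨t, ht⟩ := IsCyclic.exists_generator (α := Multiplicative F)
  have h1 : Nat.card (Multiplicative F) ≤ ringChar F := by
    rw [← orderOf_eq_card_of_forall_mem_zpowers ht]
    refine Nat.le_of_dvd hp.pos (orderOf_dvd_of_pow_eq_one ?_)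
    refine Multiplicative.toAdd.injective ?_
    rw [toAdd_pow, nsmul_eq_mul, CharP.cast_eq_zero, zero_mul, toAdd_one]
  rw [Nat.card_eq_fintype_card, Fintype.card_multiplicative, hcard] at h1
  have h2 : (n : ℕ) = 1 := by
    by_contra h
    have : ringChar F ^ 1 < ringChar F ^ (n : ℕ) :=
      Nat.pow_lt_pow_right hp.one_lt (by have := n.pos; omega)
    rw [pow_one] at this
    omega
  rw [hcard, h2, pow_one]
  exact hp

/-- The automorphism group of `PSL(2, p)` is at most twice as large. -/
theorem card_mulAut_le_two (hodd : Odd (Fintype.card F)) (hp : (Fintype.card F).Prime) :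
    Finite (MulAut (Matrix.ProjectiveSpecialLinearGroup (Fin 2) F)) ∧
    Nat.card (MulAut (Matrix.ProjectiveSpecialLinearGroup (Fin 2) F)) ≤
      2 * Nat.card (Matrix.ProjectiveSpecialLinearGroup (Fin 2) F) := by
  classical
  haveI := Fact.mk hp
  haveI : CharP F (Fintype.card F) := by
    obtain ⟨n, hpr, hcard⟩ := FiniteField.card F (ringChar F)
    have h1 : ringChar F = Fintype.card F :=
      (Nat.prime_dvd_prime_iff_eq hpr hp).1 (hcard ▸ dvd_pow_self _ n.pos.ne')
    exact ringChar.of_eq h1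
  have hσ : ∀ σ : F ≃+* F, σ = 1 := fun σ => RingEquiv.ext fun x => by
    have e := ZMod.ringEquiv F (rfl : Fintype.card F = Fintype.card F)
    obtain ⟨y, rfl⟩ := e.surjective x
    have : (σ.toRingHom.comp e.toRingHom) = e.toRingHom := Subsingleton.elim _ _
    exact DFunLike.congr_fun this y
  let P := Matrix.ProjectiveSpecialLinearGroup (Fin (1 + 1)) F
  obtain ⟨J, hJ⟩ := invP_eq_conjP (F := F)
  have hsurj : Function.Surjective (conjP : GL (Fin (1 + 1)) F →* MulAut P) := by
    intro φ
    obtain ⟨g, σ, γ, hγ, rfl⟩ := exists_decomposition (m := 1) le_rfl φ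
    rw [hσ σ, show (fieldP (1 : F ≃+* F) : MulAut P) = 1 from (fieldPHom (F := F) (m := 1)).map_one,
      mul_one]
    rcases hγ with rfl | rfl
    · exact ⟨g, (mul_one _).symm⟩
    · exact ⟨g * J, by rw [map_mul, hJ]⟩
  haveI : Finite (MulAut P) := Finite.of_surjective _ hsurj
  refine ⟨this, ?_⟩
  set k := (conjP : GL (Fin (1 + 1)) F →* MulAut P).ker
  have h1 : Nat.card (MulAut P) * Nat.card k = Nat.card (GL (Fin (1 + 1)) F) := by
    rw [← k.card_mul_index, mul_comm, Subgroup.index_ker, MonoidHom.range_eq_top.2 hsurj,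
      Subgroup.card_top]
  have h2 : Nat.card (GL (Fin (1 + 1)) F) = Nat.card SL(2, F) * Nat.card Fˣ := by
    have hd : Function.Surjective
        (Matrix.GeneralLinearGroup.det : GL (Fin (1 + 1)) F →* Fˣ) := fun u =>
      ⟨Matrix.GeneralLinearGroup.mk' !![(u : F), 0; 0, 1] (by
        simpa using (IsUnit.mk0 _ (Units.ne_zero u)).invertible), Units.ext (by simp)⟩
    have hk : Nat.card (Matrix.GeneralLinearGroup.det : GL (Fin (1 + 1)) F →* Fˣ).ker =
        Nat.card SL(2, F) := by
      refine (Nat.card_congr (Equiv.ofBijective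
        (fun s : SL(2, F) => (⟨Matrix.SpecialLinearGroup.toGL s, Units.ext s.2⟩ :
          (Matrix.GeneralLinearGroup.det : GL (Fin (1 + 1)) F →* Fˣ).ker)) ⟨?_, ?_⟩)).symm
      · intro s t h
        exact Subtype.ext (congrArg (fun x : (Matrix.GeneralLinearGroup.det :
          GL (Fin (1 + 1)) F →* Fˣ).ker =>
            ((x.1 : GL (Fin (1 + 1)) F) : Matrix (Fin (1 + 1)) (Fin (1 + 1)) F)) h)
      · rintro ⟨x, hx⟩
        exact ⟨⟨(x : Matrix (Fin (1 + 1)) (Fin (1 + 1)) F), congrArg Units.val hx⟩,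
          Subtype.ext (Units.ext rfl)⟩
    rw [← Subgroup.card_mul_index (Matrix.GeneralLinearGroup.det :
      GL (Fin (1 + 1)) F →* Fˣ).ker, hk, Subgroup.index_ker, MonoidHom.range_eq_top.2 hd,
      Subgroup.card_top]
  have h3 : Nat.card Fˣ ≤ Nat.card k := by
    refine Nat.card_le_card_of_injective
      (fun c : Fˣ => (⟨Matrix.GeneralLinearGroup.scalar (Fin (1 + 1)) c,
        MonoidHom.mem_ker.2 (conjP_scalar c)⟩ : k)) fun c c' h => ?_
    have := congrArg (fun x : k =>
      ((x : GL (Fin (1 + 1)) F) : Matrix (Fin (1 + 1)) (Fin (1 + 1)) F) 0 0) h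
    exact Units.ext (by simpa [Matrix.GeneralLinearGroup.scalar] using this)
  have h4 : Nat.card SL(2, F) = 2 * Nat.card (Matrix.ProjectiveSpecialLinearGroup (Fin 2) F) := by
    rw [PSL2.card_SL, PSL2.two_mul_card_PSL (PSL2.odd_card_iff.1 hodd)]
  rw [← h4]
  refine Nat.le_of_mul_le_mul_right (c := Nat.card Fˣ) ?_ Nat.card_pos
  rw [← h2, ← h1]
  exact Nat.mul_le_mul_left _ h3

end Cfsg.Agent.SDCyclic
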