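import Cfsg.Agent.Lib.Fusion.DihedralAut
import Mathlib.GroupTheory.SpecificGroups.Dihedral

/-!
# Subgroups with dihedral generators

The statement of `RankOneP.nonempty_dihedral`, proved here again to keep the imports of the
semidihedral development small (the original file imports the odd order development).
-/

set_option autoImplicit false
set_option linter.style.haveILetI false

namespace Cfsg.Agent.SDCyclic

open Subgroup DihedralGroup

/-- A subgroup with dihedral generators is a dihedral group. -/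
theorem nonempty_dihedral {G : Type*} [Group G] {S : Subgroup G} {x t : G} {k : ℕ}
    (h : Fusion.Dihedral.DihedralGen S x t k) : Nonempty (S ≃* DihedralGroup (2 ^ k)) := by
  haveI : NeZero (2 ^ k) := ⟨by positivity⟩
  have hx : ∀ a b : ℤ, (a : ZMod (2 ^ k)) = b ↔ x ^ a = x ^ b := fun a b => by
    rw [ZMod.intCast_eq_intCast_iff, zpow_eq_zpow_iff_modEq, h.order]
  have hc : ∀ a : ZMod (2 ^ k), ((a.val : ℤ) : ZMod (2 ^ k)) = a := fun a => by
    rw [Int.cast_natCast, ZMod.natCast_zmod_val]
  have hti : t⁻¹ = t := inv_eq_of_mul_eq_one_right h.ht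
  have htx : ∀ i : ℤ, x ^ i * t = t * x ^ (-i) := fun i => by
    have h1 : t * x ^ (-i) * t⁻¹ = x ^ i := by
      rw [← conj_zpow, h.inv, zpow_neg, inv_zpow, inv_inv]
    rw [← h1, inv_mul_cancel_right]
  let f : DihedralGroup (2 ^ k) →* G :=
    { toFun := fun d => match d with
        | r a => x ^ (a.val : ℤ)
        | sr a => t * x ^ (a.val : ℤ)
      map_one' := by
        show x ^ ((0 : ZMod (2 ^ k)).val : ℤ) = 1
        simp
      map_mul' := by
        rintro (a | a) (b | b)
        · rw [r_mul_r]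
          show x ^ ((a + b).val : ℤ) = _
          rw [← zpow_add]
          exact (hx _ _).1 (by rw [Int.cast_add, hc, hc, hc])
        · rw [r_mul_sr]
          show t * x ^ ((b - a).val : ℤ) = x ^ (a.val : ℤ) * (t * x ^ (b.val : ℤ))
          rw [← mul_assoc, htx, mul_assoc, ← zpow_add]
          exact congrArg (t * ·) ((hx _ _).1 (by rw [Int.cast_add, Int.cast_neg, hc, hc, hc]; ring))
        · rw [sr_mul_r]
          show t * x ^ ((a + b).val : ℤ) = t * x ^ (a.val : ℤ) * x ^ (b.val : ℤ)
          rw [mul_assoc, ← zpow_add]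
          exact congrArg (t * ·) ((hx _ _).1 (by rw [Int.cast_add, hc, hc, hc]))
        · rw [sr_mul_sr]
          show x ^ ((b - a).val : ℤ) = t * x ^ (a.val : ℤ) * (t * x ^ (b.val : ℤ))
          rw [mul_assoc t, ← mul_assoc (x ^ (a.val : ℤ)), htx, ← mul_assoc, ← mul_assoc, h.ht,
            one_mul, ← zpow_add]
          exact (hx _ _).1 (by rw [Int.cast_add, Int.cast_neg, hc, hc, hc]; ring) }
  have hinj : Function.Injective f := by
    rw [← MonoidHom.ker_eq_bot_iff, eq_bot_iff]
    rintro (a | a) ha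
    · rw [MonoidHom.mem_ker] at ha
      have : ((a.val : ℤ) : ZMod (2 ^ k)) = ((0 : ℤ) : ZMod (2 ^ k)) :=
        (hx _ _).2 (by rw [zpow_zero]; exact ha)
      rw [hc, Int.cast_zero] at this
      rw [mem_bot, this, r_zero]
    · rw [MonoidHom.mem_ker] at ha
      exact absurd (mem_zpowers_iff.2 ⟨-(a.val : ℤ), by
        rw [zpow_neg, inv_eq_iff_mul_eq_one]
        have := ha
        change t * x ^ (a.val : ℤ) = 1 at this
        exact mul_eq_one_iff_eq_inv.2 (by rw [eq_inv_iff_mul_eq_one]; exact mul_eq_one_comm.1 this)⟩)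
        h.t_not_mem
  have hrange : f.range = S := by
    refine le_antisymm ?_ ?_
    · rintro _ ⟨a | a, rfl⟩
      · exact zpow_mem h.x_mem _
      · exact mul_mem h.t_mem (zpow_mem h.x_mem _)
    · intro s hs
      rcases h.cases hs with ⟨i, rfl⟩ | ⟨i, rfl⟩
      · exact ⟨r (i : ZMod (2 ^ k)), (hx _ _).1 (hc _)⟩
      · refine ⟨sr ((-i : ℤ) : ZMod (2 ^ k)), ?_⟩
        rw [htx]
        exact congrArg (t * ·) ((hx _ _).1 (hc _))
  exact ⟨(MulEquiv.subgroupCongr hrange).symm.trans (MonoidHom.ofInjective hinj).symm⟩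

end Cfsg.Agent.SDCyclic
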