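import Cfsg.Agent.Lib.SDCyclic.Perfect

/-!
# Nonsolvable groups with almost cyclic Sylow subgroups

`almost_structure`: a normal subgroup of index at most two is `X × L` with `X` of odd order and `L`
perfect, `PSL(2, p)` or `SL(2, p)`, given the second part of Gorenstein-Walter and the exclusion
of semidihedral Sylow 2-subgroups.
-/

set_option autoImplicit false
set_option linter.style.haveILetI false
set_option linter.unusedSectionVars false

namespace Cfsg.Agent.SDCyclic

open Subgroup
open scoped MatrixGroups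

universe u

variable {G : Type u} [Group G] [Finite G]

/-- The last term of the derived series. -/
theorem exists_perfect_normal (hns : ¬ Group.IsSolvable G) :
    ∃ N : Subgroup G, N.Normal ∧ N ≠ ⊥ ∧ Group.IsPerfect N ∧
      ∀ H : Subgroup G, ⁅H, H⁆ = H → H ≤ N := by
  classical
  have hanti : Antitone (derivedSeries G) := antitone_nat_of_succ_le fun n => by
    rw [derivedSeries_succ]
    exact commutator_le_self _
  obtain ⟨N, ⟨n, rfl⟩, hmin⟩ := (Set.toFinite (Set.range (derivedSeries G))).exists_minimal
    (Set.range_nonempty _)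
  have hstab : ⁅derivedSeries G n, derivedSeries G n⁆ = derivedSeries G n := by
    rw [← derivedSeries_succ]
    exact le_antisymm (hanti n.le_succ) (hmin ⟨_, rfl⟩ (hanti n.le_succ))
  refine ⟨_, inferInstance, fun h => hns ((Group.isSolvable_def G).2 ⟨n, h⟩), ⟨?_⟩, fun H hH => ?_⟩
  · refine map_injective (derivedSeries G n).subtype_injective ?_
    rw [map_subtype_commutator, hstab, ← MonoidHom.range_eq_map, range_subtype]
  · have h : ∀ k, H ≤ derivedSeries G k := by
      intro k
      induction k with
      | zero => exact le_top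
      | succ k ih => rw [derivedSeries_succ, ← hH]; exact commutator_mono ih ih
    exact h n

/-- In a 2-group with a cyclic subgroup of index two there are no three independent commuting
involutions. -/
theorem false_of_three_invol {T : Type u} [Group T] [Finite T] (h : CycIndexTwo T) {a b c : T}
    (ha : a * a = 1) (hb : b * b = 1) (hc : c * c = 1) (ha1 : a ≠ 1) (hb1 : b ≠ 1) (hc1 : c ≠ 1)
    (hba : b ≠ a) (hca : c ≠ a) (hcb : c ≠ b) (hcab : c ≠ a * b)
    (hab : a * b = b * a) (hac : a * c = c * a) (hbc : b * c = c * b) : False := by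
  classical
  obtain ⟨C, hC, hCi⟩ := h
  haveI := Fintype.ofFinite C
  have huniq : ∀ x y : T, x ∈ C → y ∈ C → x * x = 1 → y * y = 1 → x ≠ 1 → y ≠ 1 → x = y := by
    intro x y hx hy hx2 hy2 hx1 hy1
    by_contra hxy
    have h2 := IsCyclic.card_pow_eq_one_le (α := C) (n := 2) two_pos
    have h3 : ({1, ⟨x, hx⟩, ⟨y, hy⟩} : Finset C) ⊆ Finset.univ.filter fun w => w ^ 2 = 1 := by
      intro w hw
      simp only [Finset.mem_insert, Finset.mem_singleton] at hw
      simp only [Finset.mem_filter, Finset.mem_univ, true_and, pow_two]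
      rcases hw with rfl | rfl | rfl
      · exact one_mul 1
      · exact Subtype.ext hx2
      · exact Subtype.ext hy2
    have h4 := Finset.card_le_card h3
    rw [Finset.card_eq_three.2 ⟨_, _, _, fun e => hx1 (congrArg Subtype.val e).symm,
      fun e => hy1 (congrArg Subtype.val e).symm, fun e => hxy (congrArg Subtype.val e), rfl⟩] at h4
    omega
  have hmul : ∀ x y : T, x ∉ C → y ∉ C → x * y ∈ C := by
    intro x y hx hy
    rcases (Nat.dvd_prime Nat.prime_two).1 hCi with h | h
    · rw [index_eq_one] at h; exact h ▸ mem_top _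
    · exact (mul_mem_iff_of_index_two h).2
        ⟨fun h' => absurd h' hx, fun h' => absurd h' hy⟩
  -- one of `x, y, x y` lies in `C`
  have hone : ∀ x y : T, x * x = 1 → y * y = 1 → x * y = y * x → x ≠ 1 → y ≠ 1 → x ≠ y →
      ∃ w, w ∈ C ∧ w * w = 1 ∧ w ≠ 1 ∧ (w = x ∨ w = y ∨ w = x * y) := by
    intro x y hx hy hxy hx1 hy1 hne
    by_cases h1 : x ∈ C
    · exact ⟨x, h1, hx, hx1, Or.inl rfl⟩
    by_cases h2 : y ∈ C
    · exact ⟨y, h2, hy, hy1, Or.inr (Or.inl rfl)⟩
    refine ⟨x * y, hmul x y h1 h2, ?_, fun h => hne ?_, Or.inr (Or.inr rfl)⟩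
    · calc x * y * (x * y) = x * (y * x) * y := by group
        _ = x * x * (y * y) := by rw [← hxy]; group
        _ = 1 := by rw [hx, hy, one_mul]
    · rw [← inv_eq_of_mul_eq_one_right hy]
      exact eq_inv_of_mul_eq_one_left h
  obtain ⟨u, hu, hu2, hu1, hu'⟩ := hone a b ha hb hab ha1 hb1 hba.symm
  obtain ⟨v, hv, hv2, hv1, hv'⟩ := hone a c ha hc hac ha1 hc1 hca.symm
  obtain ⟨w, hw, hw2, hw1, hw'⟩ := hone b c hb hc hbc hb1 hc1 hcb.symm
  obtain rfl := huniq v u hv hu hv2 hu2 hv1 hu1
  obtain rfl := huniq w v hw hu hw2 hu2 hw1 hu1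
  have hua : w = a := by
    rcases hu' with h | h | h
    · exact h
    · exfalso
      rcases hv' with h' | h' | h'
      · exact hba (h.symm.trans h')
      · exact hcb (h'.symm.trans h)
      · refine hcab ?_
        rw [← h, h', ← mul_assoc, ha, one_mul]
    · exfalso
      rcases hv' with h' | h' | h'
      · exact hb1 (mul_eq_left.1 (h.symm.trans h'))
      · exact hcab (h'.symm.trans h)
      · exact hcb (mul_left_cancel (h'.symm.trans h))
  rcases hw' with h | h | h
  · exact hba (h.symm.trans hua)
  · exact hca (h.symm.trans hua)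
  · refine hcab ?_
    rw [hab, ← hua, h, ← mul_assoc, hb, one_mul]

/-- Nothing commutes with a quaternion pair except the central involution. -/
theorem eq_of_commute_quaternion {T : Type u} [Group T] [Finite T] (h : CycIndexTwo T) {i j c : T}
    (hij : i * j ≠ j * i) (hi : i ^ 4 = 1) (hj : j * j = i * i)
    (hij2 : i * j * (i * j) = i * i) (hc : c ^ 4 = 1) (hci : Commute c i) (hcj : Commute c j) :
    c = 1 ∨ c = i * i := by
  classical
  obtain ⟨C, hC, hCi⟩ := h
  haveI := Fintype.ofFinite C
  have hi2 : i * i ≠ 1 := fun h2 => hij (by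
    have hj' : j⁻¹ = j := inv_eq_of_mul_eq_one_right (hj.trans h2)
    have hi' : i⁻¹ = i := inv_eq_of_mul_eq_one_right h2
    have hk : (i * j)⁻¹ = i * j := inv_eq_of_mul_eq_one_right (hij2.trans h2)
    rw [mul_inv_rev, hi', hj'] at hk
    exact hk.symm)
  have hmul : ∀ x y : T, x ∉ C → y ∉ C → x * y ∈ C := by
    intro x y hx hy
    rcases (Nat.dvd_prime Nat.prime_two).1 hCi with h | h
    · rw [index_eq_one] at h; exact h ▸ mem_top _
    · exact (mul_mem_iff_of_index_two h).2
        ⟨fun h' => absurd h' hx, fun h' => absurd h' hy⟩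
  -- the elements of exponent four of `C` are the powers of each one of order four
  have hpow : ∀ x y : T, x ∈ C → y ∈ C → x ^ 4 = 1 → x * x ≠ 1 → y ^ 4 = 1 →
      ∃ k : ℕ, y = x ^ k := by
    intro x y hx hy hx4 hx2 hy4
    have hxo : orderOf (⟨x, hx⟩ : C) = 4 := by
      rw [Subgroup.orderOf_mk, show 4 = 2 ^ (1 + 1) from rfl]
      exact orderOf_eq_prime_pow (by rw [pow_one, pow_two]; exact hx2) hx4
    have h1 : (Finset.univ.filter fun w : C => w ^ 4 = 1) =
        (Finset.range 4).image fun k => (⟨x, hx⟩ : C) ^ k := by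
      refine (Finset.eq_of_subset_of_card_le (fun w hw => ?_) ?_).symm
      · obtain ⟨k, -, rfl⟩ := Finset.mem_image.1 hw
        simp only [Finset.mem_filter, Finset.mem_univ, true_and]
        rw [← pow_mul, mul_comm, pow_mul, ← hxo, pow_orderOf_eq_one, one_pow]
      · refine (IsCyclic.card_pow_eq_one_le (by norm_num)).trans (le_of_eq ?_)
        rw [Finset.card_image_of_injOn, Finset.card_range]
        intro k hk k' hk' he
        simp only [Finset.coe_range, Set.mem_Iio] at hk hk'
        exact pow_injOn_Iio_orderOf (by rw [hxo]; exact hk) (by rw [hxo]; exact hk') he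
    have h2 : (⟨y, hy⟩ : C) ∈ (Finset.range 4).image fun k => (⟨x, hx⟩ : C) ^ k := by
      rw [← h1]
      simp only [Finset.mem_filter, Finset.mem_univ, true_and]
      exact Subtype.ext hy4
    obtain ⟨k, -, hk⟩ := Finset.mem_image.1 h2
    exact ⟨k, (congrArg Subtype.val hk).symm.trans (by simp)⟩
  -- the argument for a pair with the first element in `C`
  have key : ∀ x y : T, x ∈ C → x * y ≠ y * x → x ^ 4 = 1 → x * x = i * i → y ^ 4 = 1 →
      Commute c x → Commute c y → c = 1 ∨ c = i * i := by
    intro x y hx hxy hx4 hxx hy4 hcx hcy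
    have hx2 : x * x ≠ 1 := hxx ▸ hi2
    have hpx : ∀ k : ℕ, Commute (x ^ k) x := fun k => (Commute.refl x).pow_left k
    by_cases hcC : c ∈ C
    · obtain ⟨k, rfl⟩ := hpow x c hx hcC hx4 hx2 hc
      rcases Nat.even_or_odd' k with ⟨e, rfl | rfl⟩
      · rcases Nat.even_or_odd' e with ⟨e', rfl | rfl⟩
        · left
          rw [show 2 * (2 * e') = 4 * e' by ring, pow_mul, hx4, one_pow]
        · right
          rw [show 2 * (2 * e' + 1) = 4 * e' + 2 by ring, pow_add, pow_mul, hx4, one_pow, one_mul,
            pow_two, hxx]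
      · exfalso
        refine hxy ?_
        have h2 := hcy.pow_left (2 * e + 1)
        rw [← pow_mul, show (2 * e + 1) * (2 * e + 1) = 4 * (e * e + e) + 1 by ring, pow_add,
          pow_mul, hx4, one_pow, one_mul, pow_one] at h2
        exact h2.eq
    · exfalso
      refine hxy ?_
      have hyC : y ∉ C := fun hyC => by
        obtain ⟨k, rfl⟩ := hpow x y hx hyC hx4 hx2 hy4
        exact hxy ((hpx k).eq).symm
      obtain ⟨k, hk⟩ := hpow x (c * y) hx (hmul c y hcC hyC) hx4 hx2
        (by rw [hcy.mul_pow, hc, hy4, one_mul])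
      have h2 : Commute x (c * y) := by rw [hk]; exact (hpx k).symm
      have h3 : Commute x (c⁻¹ * (c * y)) := hcx.symm.inv_right.mul_right h2
      rw [inv_mul_cancel_left] at h3
      exact h3.eq
  have hj4 : j ^ 4 = 1 := by rw [show 4 = 2 * 2 from rfl, pow_mul, pow_two j, hj, ← pow_two, ← pow_mul, hi]
  by_cases h1 : i ∈ C
  · exact key i j h1 hij hi rfl hj4 hci hcj
  by_cases h2 : j ∈ C
  · exact key j i h2 (Ne.symm hij) hj4 hj hi hcj hci
  · refine key (i * j) j (hmul i j h1 h2) (fun h => hij ?_) ?_ hij2 hj4 (hci.mul_right hcj) hcj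
    · exact mul_right_cancel (h.trans (mul_assoc j i j).symm)
    · rw [show 4 = 2 * 2 from rfl, pow_mul, pow_two (i * j), hij2, ← pow_two, ← pow_mul, hi]

/-- The automorphisms of the simple quotient. -/
noncomputable def quotAut (L : Type u) [Group L] : MulAut L →* MulAut (L ⧸ center L) where
  toFun α := QuotientGroup.congr (center L) (center L) α (PSL2.map_center_equiv α)
  map_one' := MulEquiv.ext fun x => by
    induction x using QuotientGroup.induction_on with
    | _ y => rfl
  map_mul' α β := MulEquiv.ext fun x => by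
    induction x using QuotientGroup.induction_on with
    | _ y => rfl

/-- **The structure theorem.** -/
theorem almost_structure (h2 : GW.PartTwo.{u}) (hSD : SDExcluded.{u})
    (hns : ¬ Group.IsSolvable G) (hc : CycSylow G)
    (hS : ∀ S : Sylow 2 G, CycIndexTwo (S : Subgroup G)) :
    ∃ G₀ : Subgroup G, G₀.Normal ∧ G₀.index ∣ 2 ∧
      ∃ X L : Subgroup ↥G₀, X.Normal ∧ L.Normal ∧ X ⊓ L = ⊥ ∧ X ⊔ L = ⊤ ∧
        (Nat.card X).Coprime (Nat.card L) ∧
        Odd (Nat.card X) ∧ (∃ (C : Subgroup ↥X) (_ : C.Normal), IsCyclic C ∧ IsCyclic (↥X ⧸ C)) ∧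
        ∃ (p : ℕ) (_ : Fact p.Prime), 5 ≤ p ∧
          (Nonempty (↥L ≃* Matrix.ProjectiveSpecialLinearGroup (Fin 2) (ZMod p)) ∨
           Nonempty (↥L ≃* Matrix.SpecialLinearGroup (Fin 2) (ZMod p))) := by
  haveI : Fact (Nat.Prime 2) := ⟨Nat.prime_two⟩
  obtain ⟨L, hLn, hLne, hLp, -⟩ := exists_perfect_normal hns
  haveI := hLn
  haveI := hLp
  haveI : Nontrivial L := (Subgroup.nontrivial_iff_ne_bot L).2 hLne
  obtain ⟨p, hp, h5, hsh⟩ := perfect_structure h2 hSD (hc.of_injective L.subtype L.subtype_injective)
    (sylowIndexTwo_of_injective hS L.subtype L.subtype_injective)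
  set P := Matrix.ProjectiveSpecialLinearGroup (Fin 2) (ZMod p)
  set C := centralizer (L : Set G) with hCdef
  haveI : C.Normal := ⟨fun x hx g => by
    rw [hCdef, mem_centralizer_iff] at hx ⊢
    intro y hy
    have h1 := hx _ (hLn.conj_mem' y hy g)
    calc y * (g * x * g⁻¹) = g * ((g⁻¹ * y * g) * x) * g⁻¹ := by group
      _ = g * (x * (g⁻¹ * y * g)) * g⁻¹ := by rw [h1]
      _ = _ := by group⟩
  have hcomm : ∀ x ∈ C, ∀ y ∈ L, Commute x y := fun x hx y hy =>
    (mem_centralizer_iff.1 hx y hy).symm
  have hCL : ∀ x, ∀ hx : x ∈ L, x ∈ C → (⟨x, hx⟩ : L) ∈ center L := fun x hx hxC =>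
    mem_center_iff.2 fun y => Subtype.ext (hcomm x hxC y y.2).symm
  have hcen2 : Nat.card (center L) ∣ 2 := by
    cases hsh with
    | psl h _ _ => rw [h, Subgroup.card_bot]; exact one_dvd 2
    | sl h _ _ _ => rw [h]
  -- the 2-elements of `C` lie in `L`
  have h2C : ∀ x ∈ C, ∀ k : ℕ, x ^ 2 ^ k = 1 → x ∈ L := by
    intro x hx k hk
    -- `x` and a 2-subgroup of `L` generate a 2-group
    have hjoin : ∀ T : Subgroup G, T ≤ L → IsPGroup 2 T →
        ∃ S : Sylow 2 G, T ≤ (S : Subgroup G) ∧ x ∈ (S : Subgroup G) := by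
      intro T hTL hT
      have hx2 : IsPGroup 2 (zpowers x) := by
        obtain ⟨i, -, hi⟩ := (Nat.dvd_prime_pow Nat.prime_two).1 (orderOf_dvd_of_pow_eq_one hk)
        exact IsPGroup.of_card (n := i) (by rw [Nat.card_zpowers, hi])
      have hnorm : zpowers x ≤ normalizer (T : Set G) := by
        rw [zpowers_le, mem_normalizer_iff]
        intro y
        constructor
        · intro hy
          have h1 := (hcomm x hx y (hTL hy)).eq
          rwa [h1, mul_inv_cancel_right]
        · intro hy
          have h1 := (hcomm x hx _ (hTL hy)).eq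
          have h2 : x * y * x⁻¹ = y := by
            refine mul_left_cancel (a := x) ?_
            calc x * (x * y * x⁻¹) = x * y * x⁻¹ * x := h1
              _ = x * y := by group
          rwa [h2] at hy
      obtain ⟨S, hS'⟩ := (hx2.to_sup_of_normal_right' hT hnorm).exists_le_sylow
      exact ⟨S, le_sup_right.trans hS', hS' (mem_sup_left (mem_zpowers x))⟩
    induction k generalizing x with
    | zero => rw [pow_zero, pow_one] at hk; rw [hk]; exact one_mem L
    | succ k ih =>
      by_contra hxL
      have hsqL : x ^ 2 ∈ L := ih (x ^ 2) (pow_mem hx 2) (by rw [← pow_mul, ← pow_succ']; exact hk)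
        fun T hTL hT => by
          obtain ⟨S, h1, h2⟩ := hjoin T hTL hT
          exact ⟨S, h1, pow_mem h2 2⟩
      have hz : (⟨x ^ 2, hsqL⟩ : L) ∈ center L := hCL _ hsqL (pow_mem hx 2)
      cases hsh with
      | psl hbot _ hfour =>
        obtain ⟨a, b, ha, hb, ha1, hb1, hba, hab⟩ := hfour
        have hx2 : x * x = 1 := by
          rw [hbot, mem_bot] at hz
          rw [← pow_two]; exact congrArg Subtype.val hz
        have hT : IsPGroup 2 ((closure ({a, b} : Set L)).map L.subtype) := by
          refine IsPGroup.map ?_ _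
          intro w
          refine ⟨1, Subtype.ext ?_⟩
          have hw : ∀ y ∈ closure ({a, b} : Set L), y * y = 1 ∧ y * a = a * y ∧ y * b = b * y := by
            intro y hy
            refine closure_induction (p := fun y _ => y * y = 1 ∧ y * a = a * y ∧ y * b = b * y)
              ?_ ?_ ?_ ?_ hy
            · rintro y (rfl | rfl)
              · exact ⟨ha, rfl, hab⟩
              · exact ⟨hb, hab.symm, rfl⟩
            · exact ⟨one_mul 1, by simp, by simp⟩
            · rintro y y' hy hy' ⟨e, f, g⟩ ⟨e', f', g'⟩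
              have hcm : Commute y y' := by
                refine closure_induction (p := fun w _ => Commute y w) ?_ (Commute.one_right y)
                  (fun _ _ _ _ h h' => h.mul_right h') (fun _ _ h => h.inv_right) hy'
                rintro w (rfl | rfl)
                · exact f
                · exact g
              refine ⟨?_, (Commute.mul_left (f : Commute y a) (f' : Commute y' a)).eq,
                (Commute.mul_left (g : Commute y b) (g' : Commute y' b)).eq⟩
              calc y * y' * (y * y') = y * (y' * y) * y' := by group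
                _ = y * y * (y' * y') := by rw [← hcm.eq]; group
                _ = 1 := by rw [e, e', one_mul]
            · rintro y - ⟨e, f, g⟩
              rw [inv_eq_of_mul_eq_one_right e]
              exact ⟨e, f, g⟩
          rw [pow_one, pow_two]
          exact congrArg Subtype.val (Subtype.ext (hw w w.2).1 : (w * w : closure ({a, b} : Set L)) = 1)
        obtain ⟨S, hTS, hxS⟩ := hjoin _ (map_subtype_le _) hT
        have haS : (a : G) ∈ (S : Subgroup G) := hTS ⟨a, subset_closure (Set.mem_insert _ _), rfl⟩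
        have hbS : (b : G) ∈ (S : Subgroup G) :=
          hTS ⟨b, subset_closure (Set.mem_insert_of_mem _ rfl), rfl⟩
        refine false_of_three_invol (hS S) (a := ⟨(a : G), haS⟩) (b := ⟨(b : G), hbS⟩)
          (c := ⟨x, hxS⟩) ?_ ?_ (Subtype.ext hx2) ?_ ?_ ?_ ?_ ?_ ?_ ?_ ?_ ?_ ?_
        · exact Subtype.ext (congrArg Subtype.val ha :)
        · exact Subtype.ext (congrArg Subtype.val hb :)
        · exact fun h => ha1 (Subtype.ext (congrArg Subtype.val h :))
        · exact fun h => hb1 (Subtype.ext (congrArg Subtype.val h :))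
        · exact fun h => hxL (by
            have e : x = 1 := congrArg Subtype.val h
            rw [e]; exact one_mem L)
        · exact fun h => hba (Subtype.ext (congrArg Subtype.val h :))
        · exact fun h => hxL (by
            have e : x = (a : G) := congrArg Subtype.val h
            rw [e]; exact a.2)
        · exact fun h => hxL (by
            have e : x = (b : G) := congrArg Subtype.val h
            rw [e]; exact b.2)
        · exact fun h => hxL (by
            have e : x = (a : G) * b := congrArg Subtype.val h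
            rw [e]; exact mul_mem a.2 b.2)
        · exact Subtype.ext (congrArg Subtype.val hab :)
        · exact Subtype.ext (hcomm x hx a a.2).symm.eq
        · exact Subtype.ext (hcomm x hx b b.2).symm.eq
      | sl hcard _ _ hq =>
        obtain ⟨i, j, hij, hi, hj, hijj, hQ⟩ := hq
        have hx4 : x ^ 4 = 1 := by
          have h1 : (⟨⟨x ^ 2, hsqL⟩, hz⟩ : center L) ^ 2 = 1 := by
            have h0 := pow_card_eq_one' (x := (⟨⟨x ^ 2, hsqL⟩, hz⟩ : center L))
            rwa [hcard] at h0
          have h2 := congrArg (fun w : center L => ((w : L) : G)) h1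
          simp only [SubmonoidClass.coe_pow, OneMemClass.coe_one] at h2
          rw [show 4 = 2 * 2 from rfl, pow_mul]
          exact h2
        obtain ⟨S, hTS, hxS⟩ := hjoin _ (map_subtype_le _) (hQ.map L.subtype)
        have hiS : (i : G) ∈ (S : Subgroup G) := hTS ⟨i, subset_closure (Set.mem_insert _ _), rfl⟩
        have hjS : (j : G) ∈ (S : Subgroup G) :=
          hTS ⟨j, subset_closure (Set.mem_insert_of_mem _ rfl), rfl⟩
        rcases eq_of_commute_quaternion (hS S) (i := ⟨(i : G), hiS⟩) (j := ⟨(j : G), hjS⟩)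
          (c := ⟨x, hxS⟩) (fun h => hij (Subtype.ext (congrArg Subtype.val h :)))
          (Subtype.ext (congrArg Subtype.val hi :)) (Subtype.ext (congrArg Subtype.val hj :))
          (Subtype.ext (congrArg Subtype.val hijj :)) (Subtype.ext hx4)
          (Subtype.ext (hcomm x hx i i.2).eq) (Subtype.ext (hcomm x hx j j.2).eq) with h | h
        · refine hxL ?_
          have e : x = 1 := congrArg Subtype.val h
          rw [e]; exact one_mem L
        · refine hxL ?_
          have e : x = (i : G) * i := congrArg Subtype.val h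
          rw [e]; exact mul_mem i.2 i.2
  -- the odd part of `C`
  obtain ⟨PC⟩ : Nonempty (Sylow 2 C) := inferInstance
  have hPCin : ∀ w ∈ (PC : Subgroup C), (w : G) ∈ L := fun w hw => by
    obtain ⟨k, hk⟩ := PC.2 ⟨w, hw⟩
    exact h2C _ w.2 k (congrArg (fun v : (PC : Subgroup C) => ((v : C) : G)) hk)
  have hPC2 : Nat.card (PC : Subgroup C) ∣ 2 := by
    refine Dvd.dvd.trans ?_ hcen2
    exact Subgroup.card_dvd_of_injective
      ({ toFun := fun w => ⟨⟨((w : C) : G), hPCin w w.2⟩, hCL _ (hPCin w w.2) (w : C).2⟩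
         map_one' := rfl
         map_mul' := fun _ _ => rfl } : (PC : Subgroup C) →* center L)
      fun v w h => Subtype.ext (Subtype.ext (congrArg (fun e : center L => ((e : L) : G)) h :))
  haveI : IsCyclic (PC : Subgroup C) := by
    rcases (Nat.dvd_prime Nat.prime_two).1 hPC2 with h | h
    · haveI := (Nat.card_eq_one_iff_unique.1 h).1
      exact isCyclic_of_subsingleton
    · exact isCyclic_of_prime_card h
  obtain ⟨PC', N, hN, hcompl⟩ := GW.hasNormalPComplement_of_cyclic_two PC inferInstance
  have hPC' : ∀ w ∈ (PC' : Subgroup C), (w : G) ∈ L := fun w hw => by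
    obtain ⟨k, hk⟩ := PC'.2 ⟨w, hw⟩
    exact h2C _ w.2 k (congrArg (fun v : (PC' : Subgroup C) => ((v : C) : G)) hk)
  have hNodd : Odd (Nat.card N) := by
    rw [← hcompl.index_eq_card]
    exact Nat.odd_iff.2 (Nat.two_dvd_ne_zero.1 PC'.not_dvd_index)
  set X₁ : Subgroup G := N.map C.subtype
  have hX1odd : Odd (Nat.card X₁) := by
    rwa [Nat.card_congr (N.equivMapOfInjective C.subtype C.subtype_injective).toEquiv.symm]
  have hsup : X₁ ⊔ L = C ⊔ L := by
    refine le_antisymm (sup_le_sup_right (map_subtype_le N) L) (sup_le (fun c hc' => ?_) le_sup_right)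
    obtain ⟨⟨n, hn⟩, ⟨w, hw⟩, e⟩ : ∃ n : N, ∃ w : (PC' : Subgroup C), (n : C) * w = ⟨c, hc'⟩ := by
      obtain ⟨⟨n, w⟩, e⟩ := hcompl.2 ⟨c, hc'⟩
      exact ⟨n, w, e⟩
    have e' : (n : G) * w = c := congrArg Subtype.val e
    rw [← e']
    exact mul_mem (mem_sup_left ⟨n, hn, rfl⟩) (mem_sup_right (hPC' w hw))
  set G₀ := X₁ ⊔ L
  have hG₀ : G₀.Normal := hsup ▸ Subgroup.sup_normal C L
  haveI := hG₀
  have hinf : ∀ x ∈ X₁, x ∈ L → x = 1 := by
    intro x hx hxL
    have hxC : x ∈ C := map_subtype_le N hx
    have h1 : orderOf (⟨⟨x, hxL⟩, hCL x hxL hxC⟩ : center L) ∣ 2 :=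
      (_root_.orderOf_dvd_natCard _).trans hcen2
    rw [Subgroup.orderOf_mk, Subgroup.orderOf_mk] at h1
    refine orderOf_eq_one_iff.1 (Nat.eq_one_of_dvd_coprimes (Nat.coprime_two_right.2 hX1odd)
      (Subgroup.orderOf_dvd_natCard X₁ hx) h1)
  refine ⟨G₀, hG₀, ?_, X₁.subgroupOf G₀, L.subgroupOf G₀, ?_, inferInstance, ?_, ?_, ?_, ?_, ?_,
    p, hp, h5, ?_⟩
  · -- the index
    let φ : G →* MulAut (L ⧸ center L) := (quotAut L).comp MulAut.conjNormal
    have hker : φ.ker = C := by
      ext g
      rw [MonoidHom.mem_ker]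
      constructor
      · intro hg
        have hz : ∀ x : L, MulAut.conjNormal g x * x⁻¹ ∈ center L := fun x => by
          have h1 : QuotientGroup.mk (s := center L) (MulAut.conjNormal g x) = QuotientGroup.mk x :=
            DFunLike.congr_fun hg (QuotientGroup.mk x)
          rw [← QuotientGroup.eq_one_iff, QuotientGroup.mk_mul, QuotientGroup.mk_inv, h1,
            mul_inv_cancel]
        let ζ : L →* center L :=
          { toFun := fun x => ⟨MulAut.conjNormal g x * x⁻¹, hz x⟩
            map_one' := Subtype.ext (by simp)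
            map_mul' := fun x y => Subtype.ext (by
              show MulAut.conjNormal g (x * y) * (x * y)⁻¹ =
                MulAut.conjNormal g x * x⁻¹ * (MulAut.conjNormal g y * y⁻¹)
              rw [map_mul, mul_inv_rev, mul_assoc, ← mul_assoc (MulAut.conjNormal g y),
                (mem_center_iff.1 (hz y) x⁻¹).symm, mul_assoc]) }
        have htriv : ζ.ker = ⊤ := top_le_iff.1 (by
          rw [← Group.IsPerfect.commutator_eq_top (G := L), _root_.commutator_def, commutator_le]
          intro a _ b _
          rw [MonoidHom.mem_ker, map_commutatorElement, commutatorElement_eq_one_iff_commute]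
          exact Subtype.ext (mem_center_iff.1 (ζ b).2 _))
        rw [hCdef, mem_centralizer_iff]
        intro y hy
        have h1 := congrArg (fun e : center L => ((e : L) : G))
          (MonoidHom.mem_ker.1 (htriv.symm ▸ mem_top (⟨y, hy⟩ : L)))
        have h2 : g * y * g⁻¹ * y⁻¹ = 1 := by simpa [ζ] using h1
        exact (mul_inv_eq_iff_eq_mul.1 (mul_inv_eq_one.1 h2)).symm
      · intro hg
        refine MulEquiv.ext fun x => ?_
        induction x using QuotientGroup.induction_on with
        | _ y =>
          show QuotientGroup.mk (MulAut.conjNormal g y) = QuotientGroup.mk y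
          refine congrArg _ (Subtype.ext ?_)
          rw [MulAut.conjNormal_apply, (hcomm g hg y y.2).eq, mul_inv_cancel_right]
    have hQ : Nonempty (L ⧸ center L ≃* P) := by
      cases hsh with
      | psl h e _ =>
        obtain ⟨e⟩ := e
        exact ⟨((QuotientGroup.quotientMulEquivOfEq h).trans QuotientGroup.quotientBot).trans e⟩
      | sl _ e _ _ => exact e
    obtain ⟨eQ⟩ := hQ
    have hcardF : Fintype.card (ZMod p) = p := ZMod.card p
    obtain ⟨hfin, hle⟩ := card_mulAut_le_two (F := ZMod p)
      (by rw [hcardF]; exact hp.out.odd_of_ne_two (by omega)) (by rw [hcardF]; exact hp.out)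
    haveI := hfin
    haveI : Finite (MulAut (L ⧸ center L)) := Finite.of_equiv _ (MulAut.congr eQ).toEquiv.symm
    have hLk : (φ.comp L.subtype).ker ≤ center L := by
      intro x hx
      have h1 : (x : G) ∈ φ.ker := hx
      rw [hker] at h1
      exact hCL x x.2 h1
    have h1 : Nat.card (L ⧸ center L) ≤ Nat.card (L.map φ) := by
      rw [show L.map φ = (φ.comp L.subtype).range by rw [MonoidHom.range_comp, range_subtype],
        ← Nat.card_congr
        (QuotientGroup.quotientKerEquivRange (φ.comp L.subtype)).toEquiv]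
      refine Nat.le_of_mul_le_mul_right (c := Nat.card (φ.comp L.subtype).ker) ?_ Nat.card_pos
      rw [← Subgroup.card_eq_card_quotient_mul_card_subgroup]
      calc Nat.card (L ⧸ center L) * Nat.card (φ.comp L.subtype).ker
          ≤ Nat.card (L ⧸ center L) * Nat.card (center L) :=
            Nat.mul_le_mul_left _ (Nat.le_of_dvd Nat.card_pos (Subgroup.card_dvd_of_le hLk))
        _ = _ := (Subgroup.card_eq_card_quotient_mul_card_subgroup _).symm
    have h2 : (L.map φ).index ≤ 2 := by
      refine Nat.le_of_mul_le_mul_left ?_ (Nat.card_pos (α := L.map φ))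
      rw [Subgroup.card_mul_index, Nat.card_congr (MulAut.congr eQ).toEquiv]
      refine hle.trans ?_
      rw [← Nat.card_congr eQ.toEquiv, mul_comm]
      exact Nat.mul_le_mul_right 2 h1
    have h3 : (L ⊔ C).index * φ.range.index = (L.map φ).index := by
      rw [Subgroup.index_map, hker]
    rw [show G₀ = L ⊔ C by rw [sup_comm L C, ← hsup]]
    have h4 : (L ⊔ C).index ≤ 2 := le_trans
      (Nat.le_mul_of_pos_right _ (Nat.pos_of_ne_zero FiniteIndex.index_ne_zero)) (h3.trans_le h2)
    have h5 : (L ⊔ C).index ≠ 0 := FiniteIndex.index_ne_zero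
    rcases (show (L ⊔ C).index = 1 ∨ (L ⊔ C).index = 2 by omega) with e | e <;> rw [e] <;> norm_num
  · -- `X` is normal
    have hle : X₁ ⊔ L ≤ normalizer (X₁ : Set G) := by
      refine sup_le le_normalizer fun y hy => ?_
      rw [mem_normalizer_iff]
      intro x
      constructor
      · intro hx
        rwa [← (hcomm x (map_subtype_le N hx) y hy).eq, mul_inv_cancel_right]
      · intro hx
        have h1 := (hcomm _ (map_subtype_le N hx) y hy).eq
        have e : y * x * y⁻¹ = x := by
          refine mul_left_cancel (a := y) ?_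
          calc y * (y * x * y⁻¹) = y * x * y⁻¹ * y := h1.symm
            _ = y * x := by group
        rwa [e] at hx
    exact Subgroup.normal_subgroupOf_iff_le_normalizer le_sup_left |>.2 hle
  · refine (Subgroup.eq_bot_iff_forall _).2 fun x hx => Subtype.ext ?_
    exact hinf x (mem_subgroupOf.1 hx.1) (mem_subgroupOf.1 hx.2)
  · rw [← Subgroup.subgroupOf_sup le_sup_left le_sup_right, Subgroup.subgroupOf_self]
  · rw [Nat.card_congr (subgroupOfEquivOfLe le_sup_left).toEquiv,
      Nat.card_congr (subgroupOfEquivOfLe le_sup_right).toEquiv]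
    refine Nat.coprime_of_dvd fun r hr hrX hrL => ?_
    haveI := Fact.mk hr
    have hr2 : r ≠ 2 := fun h => hX1odd.not_two_dvd_nat (h ▸ hrX)
    obtain ⟨⟨x, hx⟩, hxo⟩ := exists_prime_orderOf_dvd_card' (G := X₁) r hrX
    obtain ⟨⟨y, hy⟩, hyo⟩ := exists_prime_orderOf_dvd_card' (G := L) r hrL
    rw [Subgroup.orderOf_mk] at hxo hyo
    have h1 : y ∈ zpowers x := hc.mem_zpowers_of_commute hr hr2 hxo
      (by rw [← hyo, pow_orderOf_eq_one]) (hcomm x (map_subtype_le N hx) y hy)
    have h2 : y = 1 := hinf y (zpowers_le.2 hx h1) hy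
    rw [h2, orderOf_one] at hyo
    exact hr.ne_one hyo.symm
  · rwa [Nat.card_congr (subgroupOfEquivOfLe le_sup_left).toEquiv]
  · have hodd : Odd (Nat.card ((X₁.subgroupOf G₀).map G₀.subtype)) := by
      rwa [subgroupOf_map_subtype, inf_eq_left.2 le_sup_left]
    haveI := hc.isZGroup hodd
    haveI : IsZGroup (X₁.subgroupOf G₀) :=
      IsZGroup.of_injective (f := ((X₁.subgroupOf G₀).equivMapOfInjective G₀.subtype
        G₀.subtype_injective).toMonoidHom) (MulEquiv.injective _)
    exact ⟨commutator _, inferInstance, IsZGroup.isCyclic_commutator _,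
      (inferInstance : IsCyclic (Abelianization (X₁.subgroupOf G₀)))⟩
  · cases hsh with
    | psl _ e _ =>
      obtain ⟨e⟩ := e
      exact Or.inl ⟨(subgroupOfEquivOfLe le_sup_right).trans e⟩
    | sl _ _ e _ =>
      obtain ⟨e⟩ := e
      exact Or.inr ⟨(subgroupOfEquivOfLe le_sup_right).trans e⟩

end Cfsg.Agent.SDCyclic
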