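import Mathlib.RingTheory.Coprime.Lemmas
import Mathlib.Data.Int.GCD
import Mathlib.RingTheory.Int.Basic
import Mathlib.Tactic.Ring
import Mathlib.Tactic.LinearCombination
import Mathlib.Tactic.NormNum.Prime
import Mathlib.Tactic.IntervalCases
import Mathlib.Algebra.Order.Ring.Int

/-!
# The arithmetic end of the exclusion of semidihedral groups with cyclic odd Sylow subgroups

`false_of_data` : the order formula of the principal block, the congruence of the involution
count modulo the order of a Sylow `q`-subgroup and the coprimality of the index of an involution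
centralizer with the order of that centralizer are contradictory.
-/

set_option autoImplicit false

namespace Cfsg.Agent.SDCyclic

/-- The congruence of the index `R` modulo the order of a Sylow `q`-subgroup of the involution
centralizer: either `R ≡ 1`, or `I = 1` and `R ≡ M` modulo `q` where `M` (the number of involutions
centralising an element of order `q`) is small. -/
def IndexCond (q : ℕ) (η g : ℤ) (k : ℕ) (R I : ℤ) : Prop :=
  (q : ℤ) ^ (k + 1) ∣ R - 1 ∨
    I = 1 ∧ ∃ M : ℤ, Odd M ∧ 0 < M ∧ (q : ℤ) ∣ R - M ∧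
      (η = 1 ∧ M ∣ g ∨ η = -1 ∧ M ∣ R ∧
        ∀ p : ℕ, p.Prime → (p : ℤ) ∣ M → 2 * ((q : ℤ) - 1) ∣ (p : ℤ) - 1)

variable {q : ℕ} {η : ℤ}

/-- A divisor `p` with `2 (q - 1) ∣ p - 1` has a small cofactor, congruent to `n`. -/
private theorem exists_cofactor {n p : ℤ} (hq : 2 ≤ (q : ℤ)) (hp1 : 1 < p)
    (hp : 2 * ((q : ℤ) - 1) ∣ p - 1) (hn0 : 0 < n) (hn : p ∣ n) {c : ℤ}
    (hc : (q : ℤ) - 1 ∣ n - c) :
    ∃ e, n = p * e ∧ 0 < e ∧ (q : ℤ) - 1 ∣ e - c ∧ (2 * (q : ℤ) - 1) * e ≤ n := by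
  obtain ⟨e, he⟩ := hn
  have hp2 : 2 * (q : ℤ) - 1 ≤ p := by
    have := Int.le_of_dvd (by omega) hp
    omega
  have he0 : 0 < e := by
    by_contra h
    have : p * e ≤ 0 := mul_nonpos_of_nonneg_of_nonpos (by omega) (by omega)
    omega
  refine ⟨e, he, he0, ?_, ?_⟩
  · have h1 : (q : ℤ) - 1 ∣ p - 1 := (dvd_mul_left _ _).trans hp
    have h2 := dvd_sub hc (h1.mul_right e)
    rwa [he, show p * e - c - (p - 1) * e = e - c by ring] at h2
  · rw [he]
    exact mul_le_mul_of_nonneg_right hp2 he0.le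

/-- Neither factor of `R` has a prime divisor `p` with `2 (q - 1) ∣ p - 1`. -/
private theorem false_of_prime_main (hq : 5 ≤ (q : ℤ)) {n p : ℤ} (hp1 : 1 < p)
    (hp : 2 * ((q : ℤ) - 1) ∣ p - 1) (hn : n = (q : ℤ) ^ 2 - 2 ∨ n = (q : ℤ) ^ 2 - q - 1)
    (hd : p ∣ n) : False := by
  have hn0 : 0 < n := by rcases hn with h | h <;> subst h <;> nlinarith
  have hc : (q : ℤ) - 1 ∣ n - (-1) := by
    rcases hn with h | h <;> subst h
    · exact ⟨(q : ℤ) + 1, by ring⟩
    · exact ⟨(q : ℤ), by ring⟩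
  obtain ⟨e, -, he0, he, hle⟩ := exists_cofactor (by omega) hp1 hp hn0 hd hc
  have h1 : (q : ℤ) - 1 ≤ e - (-1) := Int.le_of_dvd (by omega) he
  rcases hn with h | h <;> subst h <;> nlinarith

/-- In the exceptional branch with `η = -1` a prime `p` of `M` is one third of `q ^ 2 + 2`. -/
private theorem cofactor_three (hq : 5 ≤ (q : ℤ)) {n p : ℤ} (hp1 : 1 < p)
    (hp : 2 * ((q : ℤ) - 1) ∣ p - 1) (hn : n = (q : ℤ) ^ 2 + 2 ∨ n = (q : ℤ) ^ 2 - q + 3)
    (hd : p ∣ n) : n = p * 3 := by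
  have hn0 : 0 < n := by rcases hn with h | h <;> subst h <;> nlinarith
  have hc : (q : ℤ) - 1 ∣ n - 3 := by
    rcases hn with h | h <;> subst h
    · exact ⟨(q : ℤ) + 1, by ring⟩
    · exact ⟨(q : ℤ), by ring⟩
  obtain ⟨e, hne, he0, he, hle⟩ := exists_cofactor (by omega) hp1 hp hn0 hd hc
  suffices e = 3 by rw [hne, this]
  by_contra h
  rcases lt_or_gt_of_ne h with h' | h'
  · have := Int.le_of_dvd (show 0 < -(e - 3) by omega) (dvd_neg.2 he)
    omega
  · have := Int.le_of_dvd (show 0 < e - 3 by omega) he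
    rcases hn with h | h <;> subst h <;> nlinarith

/-- In the exceptional branch with `η = -1`, `t = -1` only `q = 5` has such a prime. -/
private theorem le_of_cofactor_neg (hq : 5 ≤ (q : ℤ)) {n p : ℤ} (hp1 : 1 < p)
    (hp : 2 * ((q : ℤ) - 1) ∣ p - 1) (hn : n = (q : ℤ) ^ 2 - 4 ∨ n = (q : ℤ) ^ 2 - q - 3)
    (hd : p ∣ n) : (q : ℤ) ≤ 8 := by
  have hn0 : 0 < n := by rcases hn with h | h <;> subst h <;> nlinarith
  have hc : (q : ℤ) - 1 ∣ n - (-3) := by
    rcases hn with h | h <;> subst h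
    · exact ⟨(q : ℤ) + 1, by ring⟩
    · exact ⟨(q : ℤ), by ring⟩
  obtain ⟨e, hne, he0, he, hle⟩ := exists_cofactor (by omega) hp1 hp hn0 hd hc
  have := Int.le_of_dvd (show 0 < e - -3 by omega) he
  by_contra h
  rcases hn with h | h <;> subst h <;> nlinarith

/-- A positive integer without prime divisors is `1`. -/
private theorem eq_one_of_no_prime {M : ℤ} (hM : 0 < M)
    (h : ∀ p : ℕ, p.Prime → (p : ℤ) ∣ M → False) : M = 1 := by
  by_contra hne
  obtain ⟨p, hp, hpd⟩ := Nat.exists_prime_and_dvd (n := M.natAbs) (by omega)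
  exact h p hp (Int.natCast_dvd.2 hpd)

/-- The case `R ≢ 1` in the main branch. -/
private theorem false_of_main (hq : q.Prime) (hη : η = 1 ∨ η = -1) {g : ℤ} (hg : Odd g)
    (hqm : (q : ℤ) - η = 2 * g) {R M N1 D1 s : ℤ} (hs : s * s = 1) (hD1 : D1 = N1 - η)
    (hN : N1 = s * ((q : ℤ) ^ 2 - 1)) (hR : R = D1 * (s * (q * (q + η)) - η))
    (hRn : ¬ (q : ℤ) ∣ R) (hModd : Odd M) (hM0 : 0 < M) (hM : (q : ℤ) ∣ R - M)
    (hMd : η = 1 ∧ M ∣ g ∨ η = -1 ∧ M ∣ R ∧
      ∀ p : ℕ, p.Prime → (p : ℤ) ∣ M → 2 * ((q : ℤ) - 1) ∣ (p : ℤ) - 1) : False := by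
  have hq2 := hq.two_le
  have hη2 : η * η = 1 := by rcases hη with h | h <;> subst h <;> norm_num
  have hval : (q : ℤ) ∣ R - (1 + s * η) := by
    refine ⟨D1 * s * (q + η) - η * s * q, ?_⟩
    rw [hR, hD1, hN]
    linear_combination hη2
  have hsη : s = η := by
    rcases mul_self_eq_one_iff.1 hs with h | h <;> rcases hη with h' | h' <;> subst h <;>
      subst h' <;> norm_num <;> norm_num at hval <;> exact hRn hval
  subst hsη
  rw [hη2] at hval
  have hM2 : (q : ℤ) ∣ M - 2 := by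
    have h := dvd_sub hval hM
    rwa [show R - (1 + 1) - (R - M) = M - 2 by ring] at h
  rcases hMd with ⟨h', hMg⟩ | ⟨h', hMR, hp⟩ <;> subst h'
  · obtain ⟨m, rfl⟩ := hModd
    have := Int.le_of_dvd (by omega) hMg
    have := Int.eq_zero_of_abs_lt_dvd hM2 (abs_lt.2 ⟨by omega, by omega⟩)
    omega
  · have hq5 : 5 ≤ (q : ℤ) := by
      obtain ⟨m, rfl⟩ := hg
      omega
    have hM1 : M = 1 := eq_one_of_no_prime hM0 fun p hpp hpM => by
      have hp1 : 1 < (p : ℤ) := by exact_mod_cast hpp.one_lt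
      have hdiv : (p : ℤ) ∣ ((q : ℤ) ^ 2 - 2) * ((q : ℤ) ^ 2 - q - 1) := by
        refine (hpM.trans hMR).trans (dvd_of_eq ?_)
        rw [hR, hD1, hN]; ring
      rcases (Nat.prime_iff_prime_int.1 hpp).dvd_or_dvd hdiv with h | h
      · exact false_of_prime_main hq5 hp1 (hp p hpp hpM) (Or.inl rfl) h
      · exact false_of_prime_main hq5 hp1 (hp p hpp hpM) (Or.inr rfl) h
    subst hM1
    exact (Nat.prime_iff_prime_int.1 hq).not_dvd_one (by simpa using hM2)

/-- The case `R ≢ 1` in the exceptional branch. -/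
private theorem false_of_exceptional (hq : q.Prime) (hη : η = 1 ∨ η = -1) {g : ℤ} (hg : Odd g)
    (hqm : (q : ℤ) - η = 2 * g) (h3 : (3 : ℤ) ∣ (q : ℤ) - η)
    {R' M N1 D1 R2 t : ℤ} (hts : t = 1 ∨ t = -1) (hD1 : D1 = N1 - η)
    (hN : 3 * N1 = t * ((q : ℤ) ^ 2 - 1)) (hR2 : R2 = t * (q * (q + η)) - 3 * η)
    (hR' : R' = D1 * R2) (h31 : (3 : ℤ) ∣ R' - 1) (h3D : ¬ (3 : ℤ) ∣ D1)
    (hModd : Odd M) (hM0 : 0 < M) (hM : (q : ℤ) ∣ 3 * R' - M)
    (hMd : η = 1 ∧ M ∣ g ∨ η = -1 ∧ M ∣ 3 * R' ∧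
      ∀ p : ℕ, p.Prime → (p : ℤ) ∣ M → 2 * ((q : ℤ) - 1) ∣ (p : ℤ) - 1) : False := by
  have hq2 := hq.two_le
  have hη2 : η * η = 1 := by rcases hη with h | h <;> subst h <;> norm_num
  have hM2 : (q : ℤ) ∣ M - (9 + 3 * η * t) := by
    have e : M - (9 + 3 * η * t) =
        q * (3 * D1 * t * (q + η) - 3 * η * t * q) - (3 * R' - M) := by
      rw [hR', hR2, hD1]
      linear_combination (-3 * η) * hN + 9 * hη2
    rw [e]
    exact dvd_sub (dvd_mul_right _ _) hM
  rcases hMd with ⟨h', hMg⟩ | ⟨h', hMR, hp⟩ <;> subst h'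
  · obtain ⟨m, rfl⟩ := hModd
    obtain ⟨n, rfl⟩ := hg
    have := Int.le_of_dvd (by omega) hMg
    by_cases hsmall : (q : ℤ) ≤ 12
    · have hq' : q ≤ 12 := by exact_mod_cast hsmall
      rcases hts with h | h <;> subst h <;> interval_cases q <;>
        first | omega | (norm_num at hq)
    · rcases hts with h | h <;> subst h <;>
        (have := Int.eq_zero_of_abs_lt_dvd hM2 (abs_lt.2 ⟨by omega, by omega⟩)
         omega)
  obtain ⟨n, hn⟩ := hg
  have hq5 : 5 ≤ (q : ℤ) := by omega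
  have hprime : ∀ p : ℕ, p.Prime → (p : ℤ) ∣ M → (p : ℤ) ∣ 3 * D1 ∨ (p : ℤ) ∣ R2 := by
    intro p hpp hpM
    have h1 : (p : ℤ) ∣ 3 * D1 * R2 := by
      rw [mul_assoc, ← hR']
      exact hpM.trans hMR
    exact (Nat.prime_iff_prime_int.1 hpp).dvd_or_dvd h1
  rcases hts with h | h <;> subst h
  · have eD : 3 * D1 = (q : ℤ) ^ 2 + 2 := by rw [hD1]; linear_combination hN
    have eR : R2 = (q : ℤ) ^ 2 - q + 3 := by rw [hR2]; ring
    have h3R : ¬ (3 : ℤ) ∣ R2 := by
      intro h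
      obtain ⟨a, ha⟩ := h
      obtain ⟨b, hb⟩ := h3
      have h2 : (q : ℤ) = 3 * b - 1 := by omega
      rw [eR, h2] at ha
      have h4 : (3 : ℤ) ∣ 2 := ⟨a - 3 * b * b + 3 * b - 1, by linear_combination ha⟩
      norm_num at h4
    have hpD : ∀ p : ℕ, p.Prime → (p : ℤ) ∣ M → D1 = p ∧ ¬ (p : ℤ) ∣ 3 * R2 := by
      intro p hpp hpM
      have hp1 : 1 < (p : ℤ) := by exact_mod_cast hpp.one_lt
      have hp9 := Int.le_of_dvd (by omega) (hp p hpp hpM)
      have hR2n : ¬ (p : ℤ) ∣ R2 := fun h =>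
        h3R ⟨p, by rw [cofactor_three hq5 hp1 (hp p hpp hpM) (Or.inr eR) h]; ring⟩
      refine ⟨?_, fun h => ?_⟩
      · have := cofactor_three hq5 hp1 (hp p hpp hpM) (Or.inl eD)
          ((hprime p hpp hpM).resolve_right hR2n)
        omega
      · rcases (Nat.prime_iff_prime_int.1 hpp).dvd_or_dvd h with h' | h'
        · have := Int.le_of_dvd (by norm_num) h'
          omega
        · exact hR2n h'
    have hMD : M ∣ D1 := by
      suffices hco : IsCoprime M (3 * R2) by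
        refine hco.dvd_of_dvd_mul_right ?_
        rw [show D1 * (3 * R2) = 3 * (D1 * R2) by ring, ← hR']
        exact hMR
      rw [Int.isCoprime_iff_nat_coprime]
      refine Nat.coprime_of_dvd fun p hpp h1 h2 => ?_
      exact (hpD p hpp (Int.natCast_dvd.2 h1)).2 (Int.natCast_dvd.2 h2)
    norm_num at hM2
    by_cases hM1 : M = 1
    · subst hM1
      norm_num at hM2
      have : q = 5 := (Nat.prime_dvd_prime_iff_eq hq (by norm_num)).1 (by exact_mod_cast hM2)
      subst this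
      norm_num at eD
      omega
    · obtain ⟨p, hpp, hpd⟩ := Nat.exists_prime_and_dvd (n := M.natAbs) (by omega)
      obtain ⟨hpe, -⟩ := hpD p hpp (Int.natCast_dvd.2 hpd)
      have hMe : M = D1 := by
        rw [hpe] at hMD ⊢
        have h2 : M.natAbs = p := (hpp.eq_one_or_self_of_dvd _ (Int.natAbs_dvd_natAbs.2 hMD)).resolve_left
          (by omega)
        omega
      have h4 : (q : ℤ) ∣ 16 := by
        have h5 := dvd_sub (dvd_pow_self (q : ℤ) two_ne_zero) (hM2.mul_left 3)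
        rwa [show (q : ℤ) ^ 2 - 3 * (M - 6) = 16 by rw [hMe]; linear_combination -eD] at h5
      have : q = 2 := by
        have h5 : q ∣ 2 ^ 4 := by exact_mod_cast h4
        exact (Nat.prime_dvd_prime_iff_eq hq Nat.prime_two).1 (hq.dvd_of_dvd_pow h5)
      omega
  · have eD : -(3 * D1) = (q : ℤ) ^ 2 - 4 := by rw [hD1]; linear_combination -hN
    have eR : -R2 = (q : ℤ) ^ 2 - q - 3 := by rw [hR2]; ring
    norm_num at hM2
    by_cases hq8 : (q : ℤ) ≤ 8
    · have hq' : q ≤ 8 := by exact_mod_cast hq8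
      have h5 : q = 5 := by interval_cases q <;> first | omega | (norm_num at hq)
      subst h5
      norm_num at eD eR
      have e1 : D1 = -7 := by omega
      have e2 : R2 = -17 := by omega
      subst e1 e2 hR'
      norm_num at h31
    · have hM1 : M = 1 := eq_one_of_no_prime hM0 fun p hpp hpM => by
        have hp1 : 1 < (p : ℤ) := by exact_mod_cast hpp.one_lt
        rcases hprime p hpp hpM with h | h
        · exact hq8 (le_of_cofactor_neg hq5 hp1 (hp p hpp hpM) (Or.inl eD) h.neg_right)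
        · exact hq8 (le_of_cofactor_neg hq5 hp1 (hp p hpp hpM) (Or.inr eR) h.neg_right)
      subst hM1
      norm_num at hM2
      have : q = 11 := (Nat.prime_dvd_prime_iff_eq hq (by norm_num)).1 (by exact_mod_cast hM2)
      omega

/-- The case `x = -η q`. -/
private theorem false_of_neg (hq : q.Prime) (hη : η = 1 ∨ η = -1) {g : ℤ} (hg : Odd g)
    (hqm : (q : ℤ) - η = 2 * g) {R I D : ℤ} (hD0 : D ≠ 0)
    (hform : R * (D - -(η * q)) ^ 2 =
      q * ((q : ℤ) ^ 2 - 1) * (q + η) * I ^ 2 * (D * (D + 1)))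
    {k : ℕ} (hk : (q : ℤ) ^ k ∣ I) (hk' : ¬ (q : ℤ) ^ (k + 1) ∣ I)
    (hRn : ¬ (q : ℤ) ∣ R)
    (hRq : IndexCond q η g k R I)
    (hcop : IsCoprime R (((q : ℤ) ^ 2 - 1) * I) ∨
      ∃ R', R = 3 * R' ∧ (3 : ℤ) ∣ R' - 1 ∧ IsCoprime R' ((q : ℤ) ^ 2 - 1) ∧ I = 1 ∧
        (3 : ℤ) ∣ (q : ℤ) - η)
    (hqD : (q : ℤ) ∣ D) : False := by
  have hqZ : Prime (q : ℤ) := Nat.prime_iff_prime_int.1 hq
  have hq0 : (q : ℤ) ≠ 0 := hqZ.ne_zero
  have hη2 : η * η = 1 := by rcases hη with h | h <;> subst h <;> norm_num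
  have hsq : (q : ℤ) ^ 2 - 1 = (q - η) * (q + η) := by linear_combination hη2
  obtain ⟨D1, rfl⟩ := hqD
  have hD10 : D1 ≠ 0 := fun h => hD0 (by rw [h, mul_zero])
  obtain ⟨N1, hN1⟩ : ∃ N, N = D1 + η := ⟨_, rfl⟩
  have hD1 : D1 = N1 - η := by rw [hN1]; ring
  obtain ⟨u, hu⟩ : ∃ u, u = (q : ℤ) - η := ⟨_, rfl⟩
  obtain ⟨B, hB⟩ : ∃ B, B = ((q : ℤ) + η) * I := ⟨_, rfl⟩
  have hu0 : u ≠ 0 := by
    obtain ⟨m, rfl⟩ := hg
    omega
  have hI0 : I ≠ 0 := fun h => hk' (h ▸ dvd_zero _)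
  have hB0 : B ≠ 0 := by
    rw [hB]
    refine mul_ne_zero (fun h => ?_) hI0
    have := hq.two_le
    rcases hη with h' | h' <;> omega
  have heq : R * N1 ^ 2 = u * B ^ 2 * (D1 * (q * N1 - η * u)) := by
    refine mul_left_cancel₀ (pow_ne_zero 2 hq0) ?_
    have e1 : (q : ℤ) * D1 - -(η * q) = q * N1 := by rw [hN1]; ring
    have e2 : (q : ℤ) * D1 + 1 = q * N1 - η * u := by
      rw [hN1, hu]
      linear_combination -hη2
    rw [e1, e2, hsq] at hform
    rw [hu] at hform ⊢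
    rw [hB]
    linear_combination hform
  have hND : IsCoprime N1 D1 := ⟨η, -η, by rw [hD1]; linear_combination hη2⟩
  -- the congruence in the main case
  have hfin : ∀ s : ℤ, s * s = 1 → N1 = s * (B * u) → R = D1 * (s * (q * B) - η) → False := by
    intro s hs hN hR
    rcases hRq with hRq | ⟨hI1, M, hModd, hM0, hM, hMd⟩
    swap
    · rw [hI1, mul_one] at hB
      refine false_of_main hq hη hg hqm hs hD1 ?_ (by rw [hR, hB]) hRn hModd hM0 hM hMd
      rw [hN, hB, hu, hsq]; ring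
    have hBq : (q : ℤ) ^ (k + 1) ∣ q * B := by
      rw [pow_succ']
      exact mul_dvd_mul_left _ (hk.trans (hB ▸ dvd_mul_left I _))
    have hN' : N1 = s * (((q : ℤ) ^ 2 - 1) * I) := by rw [hN, hB, hu, hsq]; ring
    have hNq : (q : ℤ) ^ (k + 1) ∣ N1 := by
      have h1 : (q : ℤ) ^ (k + 1) ∣ η * N1 := by
        have : η * N1 = D1 * s * (q * B) - (R - 1) := by
          rw [hR]; linear_combination (norm := ring_nf) (-η) * hD1 + hη2
        rw [this]
        exact dvd_sub (hBq.mul_left _) hRq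
      have h2 := h1.mul_left η
      rwa [← mul_assoc, hη2, one_mul] at h2
    apply hk'
    have hI2 : (q : ℤ) ^ (k + 1) ∣ ((q : ℤ) ^ 2 - 1) * I := by
      have h2 := hNq.mul_left s
      rwa [hN', ← mul_assoc s, hs, one_mul] at h2
    have hcq : IsCoprime ((q : ℤ) ^ (k + 1)) ((q : ℤ) ^ 2 - 1) :=
      IsCoprime.pow_left ⟨(q : ℤ), -1, by ring⟩
    exact hcq.dvd_of_dvd_mul_left hI2
  rcases hcop with hcop | ⟨R', rfl, h31, hR', hI, h3⟩
  · -- `R` is coprime to `(q ^ 2 - 1) * I`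
    have hRu : IsCoprime R u :=
      IsCoprime.of_isCoprime_of_dvd_right hcop ⟨(q + η) * I, by rw [hu, hsq]; ring⟩
    have hRB : IsCoprime R B :=
      IsCoprime.of_isCoprime_of_dvd_right hcop ⟨(q : ℤ) - η, by rw [hB, hsq]; ring⟩
    have hAN : u * B ^ 2 ∣ N1 ^ 2 :=
      ((hRu.mul_right hRB.pow_right).symm).dvd_of_dvd_mul_left ⟨_, heq⟩
    have hDc : IsCoprime D1 (N1 ^ 2) := hND.symm.pow_right
    obtain ⟨R1, hR1⟩ : D1 ∣ R :=
      hDc.dvd_of_dvd_mul_right ⟨u * B ^ 2 * (q * N1 - η * u), by rw [heq]; ring⟩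
    have heq1 : R1 * N1 ^ 2 = u * B ^ 2 * (q * N1 - η * u) := by
      refine mul_left_cancel₀ hD10 ?_
      rw [← mul_assoc, ← hR1, heq]
      ring
    obtain ⟨n, hn⟩ : B ∣ N1 :=
      (Int.pow_dvd_pow_iff (by norm_num)).1 ((dvd_mul_left _ _).trans hAN)
    have heq2 : R1 * n ^ 2 = u * (q * B * n - η * u) := by
      refine mul_left_cancel₀ (pow_ne_zero 2 hB0) ?_
      rw [hn] at heq1
      linear_combination heq1
    have hR1u : IsCoprime R1 u := IsCoprime.of_isCoprime_of_dvd_left hRu (hR1 ▸ dvd_mul_left _ _)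
    obtain ⟨h, a, b, hh, hna, hub, hab⟩ : ∃ h a b : ℤ, h ≠ 0 ∧ n = h * a ∧ u = h * b ∧ IsCoprime a b := by
      have hg0 : 0 < Int.gcd n u := Int.gcd_pos_of_ne_zero_right n hu0
      obtain ⟨a, ha⟩ := Int.gcd_dvd_left n u
      obtain ⟨b, hb⟩ := Int.gcd_dvd_right n u
      refine ⟨_, a, b, by exact_mod_cast hg0.ne', ha, hb, ?_⟩
      refine ⟨Int.gcdA n u, Int.gcdB n u, ?_⟩
      have := Int.gcd_eq_gcd_ab n u
      refine mul_left_cancel₀ (show ((Int.gcd n u : ℕ) : ℤ) ≠ 0 by exact_mod_cast hg0.ne') ?_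
      conv_lhs => rw [mul_add, ← mul_assoc, ← mul_assoc, mul_comm _ (Int.gcdA n u),
        mul_comm _ (Int.gcdB n u), mul_assoc, mul_assoc, ← ha, ← hb]
      rw [mul_one]
      linear_combination -this
    have heq3 : R1 * a ^ 2 = b * (q * B * a - η * b) := by
      refine mul_left_cancel₀ (pow_ne_zero 2 hh) ?_
      rw [hna, hub] at heq2
      linear_combination heq2
    have hau : IsUnit a := by
      refine (hab.mul_right hab).isUnit_of_dvd' dvd_rfl ?_
      refine ⟨η * (q * B * b - R1 * a), ?_⟩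
      linear_combination η * heq3 - b * b * hη2
    have hbu : IsUnit b := by
      refine ((hR1u.of_isCoprime_of_dvd_right (hub ▸ dvd_mul_left b h)).symm.mul_right
        (hab.symm.pow_right (n := 2))).isUnit_of_dvd' dvd_rfl ?_
      exact ⟨_, heq3⟩
    rcases Int.isUnit_iff.1 hau with ha | ha <;> rcases Int.isUnit_iff.1 hbu with hb | hb <;>
      subst ha <;> subst hb
    · refine hfin 1 (by norm_num) (by rw [hn, hna, hub]; ring) ?_
      rw [hR1]
      congr 1
      linear_combination heq3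
    · refine hfin (-1) (by norm_num) (by rw [hn, hna, hub]; ring) ?_
      rw [hR1]
      congr 1
      linear_combination heq3
    · refine hfin (-1) (by norm_num) (by rw [hn, hna, hub]; ring) ?_
      rw [hR1]
      congr 1
      linear_combination heq3
    · refine hfin 1 (by norm_num) (by rw [hn, hna, hub]; ring) ?_
      rw [hR1]
      congr 1
      linear_combination heq3
  · -- the exceptional index at the prime `3`
    have hp3 : Prime (3 : ℤ) := Nat.prime_iff_prime_int.1 Nat.prime_three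
    rw [hI, mul_one] at hB
    have hR'u : IsCoprime R' u := hR'.of_isCoprime_of_dvd_right ⟨_, by rw [hu, hsq]⟩
    have hR'B : IsCoprime R' B := hR'.of_isCoprime_of_dvd_right ⟨_, by rw [hB, hsq, mul_comm]⟩
    obtain ⟨u1, hu1⟩ : (3 : ℤ) ∣ u := hu ▸ h3
    have hu10 : u1 ≠ 0 := fun h => hu0 (by rw [hu1, h, mul_zero])
    have h3R' : ¬ (3 : ℤ) ∣ R' := fun h =>
      hp3.not_isUnit (hR'u.isUnit_of_dvd' h (hu1 ▸ dvd_mul_right _ _))
    have heq' : R' * N1 ^ 2 = u1 * B ^ 2 * (D1 * (q * N1 - η * u)) := by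
      refine mul_left_cancel₀ (show (3 : ℤ) ≠ 0 by norm_num) ?_
      rw [← mul_assoc, heq]
      conv_lhs => rw [hu1]
      conv_rhs => rw [hu1]
      ring
    have h3D : ¬ (3 : ℤ) ∣ D1 := by
      intro hd
      have h3N : ¬ (3 : ℤ) ∣ N1 := fun h => hp3.not_isUnit (hND.isUnit_of_dvd' h hd)
      have hdiv : (3 : ℤ) ∣ R' * N1 ^ 2 := by
        rw [heq']
        exact (hd.mul_right _).mul_left _
      rcases hp3.dvd_or_dvd hdiv with h | h
      · exact h3R' h
      · exact h3N (hp3.dvd_of_dvd_pow h)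
    have h3B : ¬ (3 : ℤ) ∣ B := by
      intro h
      obtain ⟨c, hc⟩ := h
      obtain ⟨m, rfl⟩ := hg
      rcases hη with h' | h' <;> omega
    have hR'u1 : IsCoprime R' u1 := hR'u.of_isCoprime_of_dvd_right (hu1 ▸ dvd_mul_left _ _)
    have hAN : u1 * B ^ 2 ∣ N1 ^ 2 :=
      ((hR'u1.mul_right hR'B.pow_right).symm).dvd_of_dvd_mul_left ⟨_, heq'⟩
    have hDc : IsCoprime D1 (N1 ^ 2) := hND.symm.pow_right
    obtain ⟨R2, hR2⟩ : D1 ∣ R' :=
      hDc.dvd_of_dvd_mul_right ⟨u1 * B ^ 2 * (q * N1 - η * u), by rw [heq']; ring⟩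
    have heq1 : R2 * N1 ^ 2 = u1 * B ^ 2 * (q * N1 - η * u) := by
      refine mul_left_cancel₀ hD10 ?_
      rw [← mul_assoc, ← hR2, heq']
      ring
    obtain ⟨n, hn⟩ : B ∣ N1 :=
      (Int.pow_dvd_pow_iff (by norm_num)).1 ((dvd_mul_left _ _).trans hAN)
    have heq2 : R2 * n ^ 2 = u1 * (q * B * n - 3 * η * u1) := by
      refine mul_left_cancel₀ (pow_ne_zero 2 hB0) ?_
      rw [hn, hu1] at heq1
      linear_combination heq1
    have hR2u : IsCoprime R2 u1 :=
      IsCoprime.of_isCoprime_of_dvd_left hR'u1 (hR2 ▸ dvd_mul_left _ _)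
    obtain ⟨h, a, b, hh, hna, hub, hab⟩ :
        ∃ h a b : ℤ, h ≠ 0 ∧ n = h * a ∧ u1 = h * b ∧ IsCoprime a b := by
      have hg0 : 0 < Int.gcd n u1 := Int.gcd_pos_of_ne_zero_right n hu10
      obtain ⟨a, ha⟩ := Int.gcd_dvd_left n u1
      obtain ⟨b, hb⟩ := Int.gcd_dvd_right n u1
      refine ⟨_, a, b, by exact_mod_cast hg0.ne', ha, hb, ?_⟩
      refine ⟨Int.gcdA n u1, Int.gcdB n u1, ?_⟩
      have := Int.gcd_eq_gcd_ab n u1
      refine mul_left_cancel₀ (show ((Int.gcd n u1 : ℕ) : ℤ) ≠ 0 by exact_mod_cast hg0.ne') ?_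
      conv_lhs => rw [mul_add, ← mul_assoc, ← mul_assoc, mul_comm _ (Int.gcdA n u1),
        mul_comm _ (Int.gcdB n u1), mul_assoc, mul_assoc, ← ha, ← hb]
      rw [mul_one]
      linear_combination -this
    have heq3 : R2 * a ^ 2 = b * (q * B * a - 3 * η * b) := by
      refine mul_left_cancel₀ (pow_ne_zero 2 hh) ?_
      rw [hna, hub] at heq2
      linear_combination heq2
    have hbu : IsUnit b := by
      refine ((hR2u.of_isCoprime_of_dvd_right (hub ▸ dvd_mul_left b h)).symm.mul_right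
        (hab.symm.pow_right (n := 2))).isUnit_of_dvd' dvd_rfl ?_
      exact ⟨_, heq3⟩
    have hbb : b * b = 1 := by rcases Int.isUnit_iff.1 hbu with hb | hb <;> subst hb <;> norm_num
    have ha3 : a ∣ 3 := by
      refine ⟨η * (q * B * b - R2 * a), ?_⟩
      linear_combination η * heq3 - 3 * hη2 - 3 * η * η * hbb
    have hab2 : a.natAbs = 1 ∨ a.natAbs = 3 :=
      Nat.prime_three.eq_one_or_self_of_dvd _ (Int.natAbs_dvd_natAbs.2 ha3)
    have hcases : (a = 1 ∨ a = -1) ∨ ∃ s : ℤ, s * s = 1 ∧ a = 3 * s := by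
      rcases hab2 with h' | h'
      · exact Or.inl (by omega)
      · rcases Int.natAbs_eq a with h'' | h'' <;> rw [h'] at h''
        · exact Or.inr ⟨1, by norm_num, by simpa using h''⟩
        · exact Or.inr ⟨-1, by norm_num, by simpa using h''⟩
    rcases hcases with hc | ⟨s, hs, rfl⟩
    swap
    · refine hfin (s * b) (by linear_combination b * b * hs + hbb) ?_ ?_
      · rw [hn, hna, hu1, hub]
        linear_combination (-3) * B * h * s * hbb
      · rw [hR2]
        refine (mul_left_cancel₀ (show (3 : ℤ) ≠ 0 by norm_num) ?_)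
        linear_combination D1 * heq3 - 9 * D1 * R2 * hs + (-3) * D1 * η * hbb
    · -- `a = ± 1`
      obtain ⟨t, htv⟩ : ∃ t, t = a * b := ⟨_, rfl⟩
      have hts : t = 1 ∨ t = -1 := by
        rcases Int.isUnit_iff.1 hbu with hb | hb <;> rcases hc with h' | h' <;>
          subst hb <;> subst h' <;> norm_num [htv]
      have haa : a * a = 1 := by rcases hc with h' | h' <;> subst h' <;> norm_num
      have hN' : 3 * N1 = t * ((q : ℤ) ^ 2 - 1) := by
        rw [hn, hna, hsq, ← hu, ← hB, hu1, hub, htv]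
        linear_combination (-3) * B * h * a * hbb
      have hR2' : R2 = t * (q * B) - 3 * η := by
        rw [htv]
        linear_combination heq3 - R2 * haa - 3 * η * hbb
      rcases hRq with hRq | ⟨-, M, hModd, hM0, hM, hMd⟩
      swap
      · exact false_of_exceptional hq hη hg hqm h3 hts hD1 hN' (by rw [hR2', hB]) hR2 h31 h3D
          hModd hM0 hM hMd
      have hdv : (q : ℤ) ∣ 8 + 3 * η * t := by
        have h1 : (q : ℤ) ∣ 3 * R' - 1 := (dvd_pow_self _ (Nat.succ_ne_zero k)).trans hRq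
        have e : 8 + 3 * η * t = (3 * R' - 1) - q * (3 * D1 * t * B - 3 * η * t * q) := by
          rw [hR2, hR2', hD1]
          linear_combination (3 * η) * hN' + (-9) * hη2
        rw [e]
        exact dvd_sub h1 (dvd_mul_right _ _)
      obtain ⟨r, hr⟩ : (3 : ℤ) ∣ (q : ℤ) - η := h3
      obtain ⟨m, rfl⟩ := hg
      rcases hts with ht | ht <;> rcases hη with h' | h' <;> subst ht <;> subst h' <;>
        norm_num at hdv
      all_goals
        have hq' : q = 11 ∨ q = 5 := by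
          first
          | exact Or.inl ((Nat.prime_dvd_prime_iff_eq hq (by norm_num)).1 (by exact_mod_cast hdv))
          | exact Or.inr ((Nat.prime_dvd_prime_iff_eq hq (by norm_num)).1 (by exact_mod_cast hdv))
        rcases hq' with rfl | rfl
        all_goals
          omega

/-- The main arithmetic statement.  `e` and `d` are the multiplicities of the distinguished
exceptional character in the two auxiliary class functions, `R` is the index of the centralizer
of an involution and `D` the signed degree of that character.  If `R ≢ 1`, then `M` is the number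
of involutions centralising an element of order `q`. -/
theorem false_of_data (hq : q.Prime) (hη : η = 1 ∨ η = -1) {l : ℕ} (hl : 2 ≤ l)
    {g o : ℤ} (hg : Odd g) (hqm : (q : ℤ) - η = 2 * g) (hqp : (q : ℤ) + η = 2 ^ l * o)
    {R I D e d : ℤ} (hR : Odd R) (hD0 : D ≠ 0) (hD1 : D + 1 ≠ 0)
    (he : e = 0 ∨ e = -1) (hd : 2 * (η * d - 1) ^ 2 ≤ (q : ℤ) - 2)
    (hform : R * (D - (e + d * ((q : ℤ) - η))) ^ 2 =
      q * ((q : ℤ) ^ 2 - 1) * (q + η) * I ^ 2 * (D * (D + 1)))
    {k : ℕ} (hk : (q : ℤ) ^ k ∣ I) (hk' : ¬ (q : ℤ) ^ (k + 1) ∣ I)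
    (hRn : ¬ (q : ℤ) ∣ R)
    (hRq : IndexCond q η g k R I)
    (hcop : IsCoprime R (((q : ℤ) ^ 2 - 1) * I) ∨
      ∃ R', R = 3 * R' ∧ (3 : ℤ) ∣ R' - 1 ∧ IsCoprime R' ((q : ℤ) ^ 2 - 1) ∧ I = 1 ∧
        (3 : ℤ) ∣ (q : ℤ) - η)
    (h2D : ¬ (2 : ℤ) ^ (l + 3) ∣ D) (h2D' : ¬ (2 : ℤ) ^ (l + 3) ∣ D + 1) : False := by
  have hqZ : Prime (q : ℤ) := Nat.prime_iff_prime_int.1 hq
  have hq0 : (q : ℤ) ≠ 0 := hqZ.ne_zero
  have hq3 : (3 : ℤ) ≤ q := by
    have := hq.two_le
    omega
  have hη2 : η * η = 1 := by rcases hη with h | h <;> subst h <;> norm_num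
  have hRu : ¬ (q : ℤ) ∣ R := hRn
  obtain ⟨x, hx⟩ : ∃ x, x = e + d * ((q : ℤ) - η) := ⟨_, rfl⟩
  rw [← hx] at hform
  -- the `q`-part of the formula
  have hqx : (q : ℤ) ∣ D - x := by
    have h1 : (q : ℤ) ∣ R * (D - x) ^ 2 := by
      rw [hform]
      exact (((dvd_mul_right _ _).mul_right _).mul_right _).mul_right _
    exact hqZ.dvd_of_dvd_pow ((hqZ.dvd_or_dvd h1).resolve_left hRu)
  have hqDD : (q : ℤ) ∣ D * (D + 1) := by
    obtain ⟨I', hI'⟩ := hk
    by_contra hcon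
    have hI'q : ¬ (q : ℤ) ∣ I' := by
      rintro ⟨c, rfl⟩
      exact hk' ⟨c, by rw [hI', pow_succ]; ring⟩
    have hqB : ¬ (q : ℤ) ∣ ((q : ℤ) ^ 2 - 1) * (q + η) := by
      intro h
      rcases hqZ.dvd_or_dvd h with h | h
      · exact hqZ.not_dvd_one (by
          have h1 := dvd_sub (dvd_pow_self (q : ℤ) two_ne_zero) h
          simpa using h1)
      · exact hqZ.not_dvd_one (by
          have h1 := (dvd_sub h (dvd_refl (q : ℤ))).mul_left η
          simpa [hη2] using h1)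
    have hev : ∀ j : ℕ, j ≤ k → ∃ N', R * N' ^ 2 =
        q * ((q : ℤ) ^ 2 - 1) * (q + η) * ((q : ℤ) ^ (k - j) * I') ^ 2 * (D * (D + 1)) := by
      intro j
      induction j with
      | zero => exact fun _ => ⟨D - x, by rw [Nat.sub_zero, ← hI', hform]⟩
      | succ j ih =>
        intro hj
        obtain ⟨N', hN'⟩ := ih (by omega)
        have h1 : (q : ℤ) ∣ R * N' ^ 2 := by
          rw [hN']
          exact (((dvd_mul_right _ _).mul_right _).mul_right _).mul_right _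
        obtain ⟨c, hc⟩ := hqZ.dvd_of_dvd_pow ((hqZ.dvd_or_dvd h1).resolve_left hRu)
        refine ⟨c, mul_left_cancel₀ (pow_ne_zero 2 hq0) ?_⟩
        rw [hc, show k - j = (k - (j + 1)) + 1 by omega, pow_succ] at hN'
        linear_combination hN'
    obtain ⟨N', hN'⟩ := hev k le_rfl
    rw [Nat.sub_self, pow_zero, one_mul] at hN'
    have h1 : (q : ℤ) ∣ R * N' ^ 2 := by
      rw [hN']
      exact (((dvd_mul_right _ _).mul_right _).mul_right _).mul_right _
    obtain ⟨c, hc⟩ := hqZ.dvd_of_dvd_pow ((hqZ.dvd_or_dvd h1).resolve_left hRu)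
    have h2 : ((q : ℤ) ^ 2 - 1) * (q + η) * I' ^ 2 * (D * (D + 1)) = q * (R * c ^ 2) := by
      refine mul_left_cancel₀ hq0 ?_
      rw [hc] at hN'
      linear_combination -hN'
    rcases hqZ.dvd_or_dvd ⟨_, h2⟩ with h | h
    · rcases hqZ.dvd_or_dvd h with h | h
      · exact hqB h
      · exact hI'q (hqZ.dvd_of_dvd_pow h)
    · exact hcon h
  -- hence the values of `e` and `d` are known
  have hfm : (q : ℤ) ∣ e - η * d ∨ (q : ℤ) ∣ e - η * d + 1 := by
    have hfx : (q : ℤ) ∣ (e - η * d) - D := by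
      have : (e - η * d) - D = -(D - x) - q * d := by rw [hx]; ring
      rw [this]
      exact dvd_sub hqx.neg_right (dvd_mul_right _ _)
    rcases hqZ.dvd_or_dvd hqDD with h | h
    · exact Or.inl (by simpa using dvd_add hfx h)
    · refine Or.inr ?_
      have : e - η * d + 1 = ((e - η * d) - D) + (D + 1) := by ring
      rw [this]
      exact dvd_add hfx h
  have hb1 : η * d - 1 ≤ (η * d - 1) ^ 2 := Int.le_self_sq _
  have hb2 : -(η * d - 1) ≤ (η * d - 1) ^ 2 := by
    exact (Int.le_self_sq (-(η * d - 1))).trans_eq (neg_sq _)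
  have hfv : e - η * d = 0 ∨ e - η * d = -1 := by
    rcases hfm with h | h
    · refine Or.inl (Int.eq_zero_of_abs_lt_dvd h (abs_lt.2 ⟨?_, ?_⟩)) <;> omega
    · refine Or.inr ?_
      have := Int.eq_zero_of_abs_lt_dvd h (abs_lt.2 ⟨by omega, by omega⟩)
      omega
  -- reduce to `x = 0` or `x = -η q` by the symmetry `D ↦ -1 - D`
  suffices key : ∀ D' x' : ℤ, (x' = 0 ∨ x' = -(η * q)) → D' ≠ 0 → D' + 1 ≠ 0 →
      R * (D' - x') ^ 2 = q * ((q : ℤ) ^ 2 - 1) * (q + η) * I ^ 2 * (D' * (D' + 1)) →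
      ¬ (2 : ℤ) ^ (l + 3) ∣ D' → False by
    have hsym : R * (-1 - D - (-1 - x)) ^ 2 =
        q * ((q : ℤ) ^ 2 - 1) * (q + η) * I ^ 2 * ((-1 - D) * (-1 - D + 1)) := by
      linear_combination hform
    have hn1 : ¬ (2 : ℤ) ^ (l + 3) ∣ -1 - D := fun h => h2D' (by
      have h1 := h.neg_right
      rwa [show -(-1 - D) = D + 1 by ring] at h1)
    have hdv : d = η * (η * d) := by rw [← mul_assoc, hη2, one_mul]
    rcases he with he | he <;> rcases hfv with hf | hf
    · have hd0 : η * d = 0 := by omega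
      refine key D x (Or.inl ?_) hD0 hD1 hform h2D
      rw [hx, he, hdv, hd0]; ring
    · have hd0 : η * d = 1 := by omega
      refine key (-1 - D) (-1 - x) (Or.inr ?_) (by omega) (by omega) hsym hn1
      rw [hx, he, hdv, hd0]; linear_combination hη2
    · have hd0 : η * d = -1 := by omega
      refine key D x (Or.inr ?_) hD0 hD1 hform h2D
      rw [hx, he, hdv, hd0]; linear_combination hη2
    · have hd0 : η * d = 0 := by omega
      refine key (-1 - D) (-1 - x) (Or.inl ?_) (by omega) (by omega) hsym hn1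
      rw [hx, he, hdv, hd0]; ring
  intro D' x' hx' hD0' hD1' hf' h2
  rcases hx' with rfl | rfl
  · -- `x = 0`: too high a power of two divides the degree
    apply h2
    have h1 : R * D' = q * ((q : ℤ) ^ 2 - 1) * (q + η) * I ^ 2 * (D' + 1) := by
      refine mul_left_cancel₀ hD0' ?_
      rw [sub_zero] at hf'
      linear_combination hf'
    have h3 : (2 : ℤ) ^ (l + 3) ∣ R * D' := by
      rw [h1, show (q : ℤ) ^ 2 - 1 = (q - η) * (q + η) by linear_combination hη2, hqm, hqp]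
      refine dvd_trans (pow_dvd_pow 2 (show l + 3 ≤ 1 + l + l by omega)) ?_
      exact ⟨q * g * o * o * I ^ 2 * (D' + 1), by rw [pow_add, pow_add, pow_one]; ring⟩
    have h2R : IsCoprime ((2 : ℤ) ^ (l + 3)) R := by
      have h2p : Prime (2 : ℤ) := by exact_mod_cast Nat.prime_iff_prime_int.1 Nat.prime_two
      refine IsCoprime.pow_left (h2p.coprime_iff_not_dvd.2 ?_)
      obtain ⟨m, rfl⟩ := hR
      omega
    exact h2R.dvd_of_dvd_mul_left h3
  · -- `x = -η q`
    refine false_of_neg hq hη hg hqm hD0' hf' hk hk' hRn hRq hcop ?_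
    have h1 : (q : ℤ) ∣ R * (D' - -(η * q)) ^ 2 := by
      rw [hf']
      exact (((dvd_mul_right _ _).mul_right _).mul_right _).mul_right _
    have h2 := hqZ.dvd_of_dvd_pow ((hqZ.dvd_or_dvd h1).resolve_left hRu)
    have h3 := dvd_sub h2 (dvd_mul_left (q : ℤ) η)
    simpa using h3

end Cfsg.Agent.SDCyclic
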