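import Cfsg.Agent.Lib.SDCyclic.Constituents
import Cfsg.Agent.Lib.Char.ClassSum

/-!
# The order formula

Pairs of involutions whose product lies in `Aw` and has nonzero weight for `alpha` commute with
`z` and lie in `Aw τ`; counting them in two ways gives the formula.
-/

set_option autoImplicit false
set_option linter.style.haveILetI false
set_option linter.unusedSectionVars false

namespace Cfsg.Agent.SDCyclic

open Cfsg
open scoped ComplexConjugate

universe u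

variable {G : Type u} [Group G] [Fintype G] {z : G} {q : ℕ} {η : ℤ} {l g o : ℕ}

namespace Cent

variable (d : Cent z q η l g o)
include d

theorem periodic_alpha : Function.Periodic (fun i => (1 : ℂ) ^ i - Complex.I ^ i) (2 * d.W) :=
  periodic_pow_sub (one_pow _) (RootW.pow_two_W d d.rootW_I)

theorem τ_inv : d.τ⁻¹ = d.τ := inv_eq_of_mul_eq_one_right d.τ_sq

/-- Conjugation by `τ` on the cosets. -/
theorem conj_τ {k : G} (hk : k ∈ d.K) (i : ℕ) :
    ∃ k' ∈ d.K, d.τ * (k * d.aw ^ i) * d.τ = k' * d.aw ^ ((d.W - 1) * i) := by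
  obtain ⟨k', hk', e⟩ :=
    conj_mul_pow d.cw (fun w hw => d.normK _ d.comm_τ w hw) d.τ_conj hk i
  exact ⟨k', hk', by rw [d.τ_inv] at e; exact e⟩

/-- The product of two elements of `Aw τ`. -/
theorem outer_mul {s t k k' : G} (hk : k ∈ d.K) (hk' : k' ∈ d.K) {i j : ℕ}
    (hs : s = k * d.aw ^ i * d.τ) (ht : t = k' * d.aw ^ j * d.τ) :
    ∃ k'' ∈ d.K, s * t = k'' * d.aw ^ (i + (d.W - 1) * j) := by
  obtain ⟨k₁, hk₁, e⟩ := d.conj_τ hk' j
  refine ⟨k * (d.aw ^ i * k₁ * (d.aw ^ i)⁻¹), mul_mem hk (d.cw.norm_pow i hk₁), ?_⟩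
  rw [hs, ht, show k * d.aw ^ i * d.τ * (k' * d.aw ^ j * d.τ) =
    k * d.aw ^ i * (d.τ * (k' * d.aw ^ j) * d.τ) by group, e, pow_add]
  group

theorem even_of_sq {k : G} (hk : k ∈ d.K) {i : ℕ}
    (h : k * d.aw ^ i * d.τ * (k * d.aw ^ i * d.τ) = 1) : Even i := by
  obtain ⟨k', hk', e⟩ := d.outer_mul hk hk (s := k * d.aw ^ i * d.τ) rfl rfl
  rw [h] at e
  have h1 : 2 * d.W ∣ i + (d.W - 1) * i :=
    Nat.modEq_zero_iff_dvd.1 (d.cwW.pow_mem_cyc_eq hk' d.K.one_mem (j := 0) (by simpa using e.symm))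
  have h2 : i + (d.W - 1) * i = d.W * i := by
    rw [add_comm, ← add_one_mul, Nat.sub_add_cancel (show 1 ≤ d.W from d.W_pos)]
  rw [h2, mul_comm 2] at h1
  exact even_iff_two_dvd.2 (Nat.dvd_of_mul_dvd_mul_left d.W_pos h1)

/-- The noncentral involutions of `Aw τ`. -/
noncomputable def outer : Finset G := by
  classical
  exact Finset.univ.filter fun s => orderOf s = 2 ∧ s * d.τ ∈ d.Aw

theorem mem_outer {s : G} : s ∈ d.outer ↔ orderOf s = 2 ∧ s * d.τ ∈ d.Aw := by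
  classical
  simp [outer]

theorem coord_outer {s : G} (hs : s ∈ d.outer) :
    ∃ k ∈ d.K, ∃ i, Even i ∧ i < 2 * d.W ∧ s = k * d.aw ^ i * d.τ := by
  obtain ⟨h2, hm⟩ := d.mem_outer.1 hs
  obtain ⟨k, hk, i, hi, e⟩ := d.cwW.existsUnique_coord hm
  have e' : s = k * d.aw ^ i * d.τ := by rw [← e, mul_assoc, d.τ_sq, mul_one]
  refine ⟨k, hk, i, d.even_of_sq hk ?_, hi, e'⟩
  rw [← e', ← pow_two, ← h2, pow_orderOf_eq_one]

/-- An involution in each admissible coset. -/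
theorem exists_center (j : ℕ) :
    ∃ c, Commute z c ∧ ∃ k ∈ d.K, c * d.τ * c⁻¹ = k * d.aw ^ (2 * j) * d.τ := by
  have hx : d.aw ^ (2 * j) * d.τ * (d.aw ^ (2 * j) * d.τ) ∈ d.K := by
    obtain ⟨k, hk, e⟩ := d.outer_mul d.K.one_mem d.K.one_mem
      (s := 1 * d.aw ^ (2 * j) * d.τ) (t := 1 * d.aw ^ (2 * j) * d.τ) rfl rfl
    have h2 : 2 * j + (d.W - 1) * (2 * j) = j * (2 * d.W) := by
      rw [add_comm, ← add_one_mul, Nat.sub_add_cancel (show 1 ≤ d.W from d.W_pos)]; ring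
    rw [one_mul] at e
    rw [e, h2]
    exact mul_mem hk ((d.cwW.mem_iff _).2 (dvd_mul_left _ _))
  obtain ⟨m, hm⟩ := d.oddK
  set y := d.aw ^ (2 * j) * d.τ with hy
  set s := y ^ Nat.card d.K with hs
  have hs2 : s * s = 1 := by
    rw [hs, ← (Commute.refl y).mul_pow]
    exact orderOf_dvd_iff_pow_eq_one.1 (Subgroup.orderOf_dvd_natCard d.K hx)
  have hsk : s = (y * y) ^ m * d.aw ^ (2 * j) * d.τ := by
    rw [hs, hm, pow_succ, pow_mul, pow_two, hy, mul_assoc (_ ^ m)]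
  have hnA : s ∉ d.Aw := fun h => by
    rw [hsk] at h
    exact d.τ_notMem
      ((d.Aw.mul_mem_cancel_left (mul_pow_mem_cyc (pow_mem hx m) _)).1 h)
  have hz : Commute z s := by
    rw [hs, hy]
    exact ((d.comm_w.pow_right _).mul_right d.comm_τ).pow_right _
  have hso : orderOf s = 2 :=
    orderOf_eq_prime (by rw [pow_two, hs2]) (fun h => hnA (by rw [h]; exact one_mem _))
  have hsz : s ≠ z := fun h => hnA (by
    obtain ⟨w, hw, e⟩ := d.z_eq_coset d.cw d.zw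
    exact (h.trans e).symm ▸ mul_pow_mem_cyc hw _)
  obtain ⟨c, hc, e⟩ := d.conjNC s hso hz hsz
  exact ⟨c, hc, (y * y) ^ m, pow_mem hx m, e.trans hsk⟩

/-- Sums over the noncentral involutions of `Aw τ` by cosets. -/
theorem sum_outer (f : G → ℂ) (F : ℕ → ℂ)
    (hf : ∀ k ∈ d.K, ∀ i, f (k * d.aw ^ i * d.τ) = F i) :
    ∑ s ∈ d.outer, f s = (d.invNum : ℂ) * ∑ j ∈ Finset.range d.W, F (2 * j) := by
  classical
  choose c hc k hk e using d.exists_center
  haveI := Fintype.ofFinite {x : d.K // d.τ * (x : G) * (d.τ * (x : G)) = 1}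
  have hcoord : ∀ j (x : G), x ∈ d.K →
      ∃ k' ∈ d.K, c j * (d.τ * x) * (c j)⁻¹ = k' * d.aw ^ (2 * j) * d.τ := by
    intro j x hx
    have hxc : c j * x * (c j)⁻¹ ∈ d.K := d.normK _ (hc j) x hx
    obtain ⟨k₁, hk₁, e₁⟩ : ∃ k₁ ∈ d.K,
        d.aw ^ (2 * j) * d.τ * (c j * x * (c j)⁻¹) = k₁ * d.aw ^ (2 * j) * d.τ := by
      refine ⟨d.aw ^ (2 * j) * (d.τ * (c j * x * (c j)⁻¹) * d.τ⁻¹) * (d.aw ^ (2 * j))⁻¹,
        d.cwW.norm_pow _ (d.normK _ d.comm_τ _ hxc), ?_⟩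
      group
    refine ⟨k j * k₁, mul_mem (hk j) hk₁, ?_⟩
    rw [show c j * (d.τ * x) * (c j)⁻¹ = c j * d.τ * (c j)⁻¹ * (c j * x * (c j)⁻¹) by group, e j,
      show k j * d.aw ^ (2 * j) * d.τ * (c j * x * (c j)⁻¹) =
        k j * (d.aw ^ (2 * j) * d.τ * (c j * x * (c j)⁻¹)) by group, e₁]
    group
  have hval : ∀ j (x : G), x ∈ d.K → f (c j * (d.τ * x) * (c j)⁻¹) = F (2 * j) := by
    intro j x hx
    obtain ⟨k', hk', e'⟩ := hcoord j x hx
    rw [e', hf k' hk']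
  have hbij : ∑ s ∈ d.outer, f s = ∑ p ∈ Finset.range d.W ×ˢ
      (Finset.univ : Finset {x : d.K // d.τ * (x : G) * (d.τ * (x : G)) = 1}),
      f (c p.1 * (d.τ * ((p.2.1 : d.K) : G)) * (c p.1)⁻¹) := by
    refine Eq.symm (Finset.sum_bij
      (fun p _ => c p.1 * (d.τ * ((p.2.1 : d.K) : G)) * (c p.1)⁻¹) (fun p _ => ?_) ?_ ?_
      fun _ _ => rfl)
    · obtain ⟨k', hk', e'⟩ := hcoord p.1 _ p.2.1.2
      refine d.mem_outer.2 ⟨orderOf_eq_prime ?_ ?_, ?_⟩
      · rw [conj_pow, pow_two, p.2.2, mul_one, mul_inv_cancel]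
      · intro h1
        rw [conj_eq_one_iff] at h1
        exact d.τ_notMem (eq_inv_of_mul_eq_one_left h1 ▸
          inv_mem (left_le_cyc _ _ p.2.1.2))
      · rw [e', mul_assoc _ d.τ, d.τ_sq, mul_one]
        exact mul_pow_mem_cyc hk' _
    · intro p hp p' hp' h
      have h1 : p.1 = p'.1 := by
        obtain ⟨k₁, hk₁, e₁⟩ := hcoord p.1 _ p.2.1.2
        obtain ⟨k₂, hk₂, e₂⟩ := hcoord p'.1 _ p'.2.1.2
        rw [e₁, e₂] at h
        have h2 := d.cwW.pow_mem_cyc_eq hk₁ hk₂ (mul_right_cancel h)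
        have h3 := Nat.ModEq.eq_of_lt_of_lt h2
          (by have := Finset.mem_range.1 (Finset.mem_product.1 hp).1; omega)
          (by have := Finset.mem_range.1 (Finset.mem_product.1 hp').1; omega)
        omega
      rw [h1] at h
      refine Prod.ext h1 (Subtype.ext (Subtype.ext ?_))
      exact mul_left_cancel (mul_left_cancel (mul_right_cancel h))
    · intro s hs
      obtain ⟨k', hk', i, hi, hi2, e'⟩ := d.coord_outer hs
      obtain ⟨j, rfl⟩ := hi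
      rw [← two_mul] at e' hi2
      set x := d.τ * ((c j)⁻¹ * s * c j) with hx
      have hxK : x ∈ d.K := by
        have h1 : s * (c j * d.τ * (c j)⁻¹)⁻¹ ∈ d.K := by
          rw [e j, e', show k' * d.aw ^ (2 * j) * d.τ * (k j * d.aw ^ (2 * j) * d.τ)⁻¹ =
            k' * (k j)⁻¹ by group]
          exact mul_mem hk' (inv_mem (hk j))
        have h2 := d.normK _ (d.comm_τ.mul_right (hc j).inv_right) _ h1
        have e2 : d.τ * (c j)⁻¹ * (s * (c j * d.τ * (c j)⁻¹)⁻¹) * (d.τ * (c j)⁻¹)⁻¹ = x := by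
          rw [hx]
          calc d.τ * (c j)⁻¹ * (s * (c j * d.τ * (c j)⁻¹)⁻¹) * (d.τ * (c j)⁻¹)⁻¹
              = d.τ * ((c j)⁻¹ * s * c j) * (d.τ * d.τ)⁻¹ := by group
            _ = _ := by rw [d.τ_sq, inv_one, mul_one]
        rwa [e2] at h2
      have hτx : d.τ * x = (c j)⁻¹ * s * c j := by rw [hx, ← mul_assoc, d.τ_sq, one_mul]
      have hs2 : s * s = 1 := by
        rw [← pow_two, ← (d.mem_outer.1 hs).1, pow_orderOf_eq_one]
      have hinv : d.τ * x * (d.τ * x) = 1 := by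
        rw [hτx]
        calc (c j)⁻¹ * s * c j * ((c j)⁻¹ * s * c j) = (c j)⁻¹ * (s * s) * c j := by group
          _ = 1 := by rw [hs2, mul_one, inv_mul_cancel]
      refine ⟨(j, ⟨⟨x, hxK⟩, hinv⟩),
        Finset.mem_product.2 ⟨Finset.mem_range.2 (by omega), Finset.mem_univ _⟩, ?_⟩
      show c j * (d.τ * x) * (c j)⁻¹ = s
      rw [hτx]; group
  rw [hbij, Finset.sum_product, Finset.mul_sum]
  refine Finset.sum_congr rfl fun j _ => ?_
  rw [Finset.sum_congr rfl fun x _ => hval j _ x.1.2, Finset.sum_const, Finset.card_univ,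
    nsmul_eq_mul, Cent.invNum, Nat.card_eq_fintype_card]

theorem exists_pow_of_alpha {k : G} (hk : k ∈ d.K) {i : ℕ}
    (h : (1 : ℂ) ^ i - Complex.I ^ i ≠ 0) : ¬ d.W ∣ i ∧ ∃ N : ℕ, (k * d.aw ^ i) ^ N = z := by
  have h4 : ¬ 4 ∣ i := fun ⟨m, hm⟩ => h (by rw [hm, one_pow, pow_mul, I_pow_four, one_pow, sub_self])
  have h2 : ¬ 2 ^ (l + 1) ∣ i := fun h' => h4 (d.four_dvd_pow.trans h')
  obtain ⟨m, hm⟩ := d.exists_mul_modEq_W h2
  exact ⟨fun h' => h4 (d.four_dvd_W.trans h'), d.exists_pow_eq_z d.cwW d.zwW hk hm⟩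

/-- The pairs of involutions with a product of nonzero weight. -/
theorem mem_outer_of_ne_zero {s t : G} (hs : IsConj z s) (ht : IsConj z t)
    (hne : extendByZero d.Aw (d.cwW.wt fun i => (1 : ℂ) ^ i - Complex.I ^ i) (s * t) ≠ 0) :
    s ∈ d.outer ∧ t ∈ d.outer := by
  have hinv : ∀ {x : G}, IsConj z x → x * x = 1 ∧ x ≠ 1 := by
    intro x hx
    obtain ⟨c, rfl⟩ := isConj_iff.1 hx
    exact ⟨by rw [conj_mul, d.z_sq, mul_one, mul_inv_cancel],
      fun h => d.z_ne_one (conj_eq_one_iff.1 h)⟩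
  obtain ⟨hs2, hs1⟩ := hinv hs
  obtain ⟨ht2, ht1⟩ := hinv ht
  have hm : s * t ∈ d.Aw := by
    by_contra h; exact hne (Char.extendByZero_of_notMem _ _ h)
  obtain ⟨k, hk, i, -, e⟩ := d.cwW.existsUnique_coord hm
  rw [d.cwW.ext_wt d.periodic_alpha hk e] at hne
  obtain ⟨hW, N, hN⟩ := d.exists_pow_of_alpha hk hne
  rw [← e] at hN
  have hsi : s⁻¹ = s := inv_eq_of_mul_eq_one_right hs2
  have hti : t⁻¹ = t := inv_eq_of_mul_eq_one_right ht2
  have h1 : s * (s * t) * s⁻¹ = (s * t)⁻¹ := by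
    rw [mul_inv_rev, hti, hsi, ← mul_assoc s s t, hs2, one_mul]
  have hsz : Commute z s := by
    have h2 := conj_pow (i := N) (a := s) (b := s * t)
    rw [h1, inv_pow, hN, d.z_inv] at h2
    have h3 := mul_inv_eq_iff_eq_mul.1 h2.symm
    exact h3.symm
  have hmem : s⁻¹ * (s * t) * s ∈ d.Aw := by
    have h5 : s⁻¹ * (s * t) * s = (s * t)⁻¹ := by
      have h6 := h1
      rw [hsi] at h6
      rw [hsi]
      exact h6
    rw [h5]
    exact inv_mem hm
  have hsA : s ∉ d.Aw := by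
    intro h
    have hs' := (d.eq_z_of_sq d.cwW d.zwW h hs2).resolve_left hs1
    have htA : t ∈ d.Aw := (d.Aw.mul_mem_cancel_left h).1 hm
    have ht' := (d.eq_z_of_sq d.cwW d.zwW htA ht2).resolve_left ht1
    refine hne ?_
    have h3 : k * d.aw ^ i = (1 : G) * d.aw ^ 0 := by
      rw [← e, hs', ht', d.z_sq, pow_zero, mul_one]
    have h4 := Nat.modEq_zero_iff_dvd.1 (d.cwW.pow_mem_cyc_eq hk d.K.one_mem h3)
    exact absurd ((dvd_mul_left _ _).trans h4) hW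
  have hKZ : k * d.aw ^ i ∉ d.KZ := fun h => hW ((d.mem_KZ_iff d.cwW d.zwW hk i).1 h)
  have hsτ : s * d.τ ∈ d.Aw := by
    rcases d.selfW _ hm (by rw [e]; exact hKZ) s hsz hmem with h | h
    · exact absurd h hsA
    · exact h
  have ho : ∀ {x : G}, x * x = 1 → x ≠ 1 → orderOf x = 2 := fun hx hx1 =>
    orderOf_eq_prime (by rw [pow_two, hx]) hx1
  refine ⟨d.mem_outer.2 ⟨ho hs2 hs1, hsτ⟩, d.mem_outer.2 ⟨ho ht2 ht1, ?_⟩⟩
  obtain ⟨k', hk', e'⟩ := d.conj_τ hk i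
  have e2 : t * d.τ = s * d.τ * (k' * d.aw ^ ((d.W - 1) * i)) := by
    rw [← e', ← e]
    calc t * d.τ = (s * s) * t * d.τ := by rw [hs2, one_mul]
      _ = s * (d.τ * d.τ) * (s * t) * d.τ := by rw [d.τ_sq]; group
      _ = _ := by group
  rw [e2]
  exact mul_mem hsτ (mul_pow_mem_cyc hk' _)

theorem sum_outer_pairs :
    ∑ s ∈ d.outer, ∑ t ∈ d.outer,
        extendByZero d.Aw (d.cwW.wt fun i => (1 : ℂ) ^ i - Complex.I ^ i) (s * t) =
      ((d.invNum : ℂ) * d.W) ^ 2 := by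
  classical
  set φ : G → ℂ := fun x => extendByZero d.Aw (d.cwW.wt fun i => Complex.I ^ i) (x * d.τ) with hφ
  have hφv : ∀ k ∈ d.K, ∀ i, φ (k * d.aw ^ i * d.τ) = Complex.I ^ i := by
    intro k hk i
    exact d.cwW.ext_wt (periodic_pow (RootW.pow_two_W d d.rootW_I)) hk
      (by rw [mul_assoc _ d.τ, d.τ_sq, mul_one])
  have hterm : ∀ s ∈ d.outer, ∀ t ∈ d.outer,
      extendByZero d.Aw (d.cwW.wt fun i => (1 : ℂ) ^ i - Complex.I ^ i) (s * t) = 1 - φ s * φ t := by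
    intro s hs t ht
    obtain ⟨k, hk, i, hi, -, es⟩ := d.coord_outer hs
    obtain ⟨k', hk', j, hj, -, et⟩ := d.coord_outer ht
    obtain ⟨k'', hk'', e⟩ := d.outer_mul hk hk' es et
    rw [d.cwW.ext_wt d.periodic_alpha hk'' e, es, et, hφv k hk, hφv k' hk', one_pow, pow_add,
      pow_mul Complex.I (d.W - 1), d.I_pow_r, hj.neg_pow]
  rw [Finset.sum_congr rfl fun s hs => Finset.sum_congr rfl fun t ht => hterm s hs t ht]
  simp only [Finset.sum_sub_distrib, ← Finset.mul_sum, ← Finset.sum_mul, Finset.sum_const,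
    nsmul_eq_mul, mul_one]
  have h1 := d.sum_outer (fun _ => 1) (fun _ => 1) (fun _ _ _ => rfl)
  simp only [Finset.sum_const, nsmul_eq_mul, mul_one, Finset.card_range] at h1
  have h2 := d.sum_outer φ (fun i => Complex.I ^ i) hφv
  simp only [pow_mul, Complex.I_sq] at h2
  rw [sum_pow_root (show (-1 : ℂ) ^ d.W = 1 by
    obtain ⟨m, hm⟩ := d.four_dvd_W
    rw [hm, pow_mul]; norm_num), if_neg (by norm_num), mul_zero] at h2
  rw [h1, h2]
  ring

theorem sum_pairs :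
    ∑ p : G × G, extendByZero d.Aw (d.cwW.wt fun i => (1 : ℂ) ^ i - Complex.I ^ i)
        (p.1 * z * p.1⁻¹ * (p.2 * z * p.2⁻¹)) =
      (Nat.card (Subgroup.centralizer ({z} : Set G)) : ℂ) ^ 2 * ((d.invNum : ℂ) * d.W) ^ 2 := by
  classical
  set C := Finset.univ.filter fun s : G => IsConj z s
  set c : ℂ := (Nat.card (Subgroup.centralizer ({z} : Set G)) : ℂ)
  set w := extendByZero d.Aw (d.cwW.wt fun i => (1 : ℂ) ^ i - Complex.I ^ i) with hw
  have hfib : ∀ f : G → ℂ, ∑ a : G, f (a * z * a⁻¹) = c * ∑ s ∈ C, f s := by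
    intro f
    rw [← Finset.sum_fiberwise_of_maps_to (s := Finset.univ) (t := C)
      (g := fun a => a * z * a⁻¹) (fun a _ =>
        Finset.mem_filter.2 ⟨Finset.mem_univ _, isConj_iff.2 ⟨a, rfl⟩⟩), Finset.mul_sum]
    refine Finset.sum_congr rfl fun s hs => ?_
    obtain ⟨b, hb⟩ := isConj_iff.1 (Finset.mem_filter.1 hs).2
    rw [Finset.sum_congr rfl fun a ha => congrArg f (Finset.mem_filter.1 ha).2, Finset.sum_const,
      nsmul_eq_mul]
    congr 2
    rw [Nat.card_eq_fintype_card, Fintype.card_subtype]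
    refine Finset.card_equiv (Equiv.mulLeft b⁻¹) fun a => ?_
    simp only [Finset.mem_filter, Finset.mem_univ, true_and, Equiv.coe_mulLeft,
      Subgroup.mem_centralizer_singleton_iff]
    constructor
    · intro ha
      calc b⁻¹ * a * z = b⁻¹ * (a * z * a⁻¹) * a := by group
        _ = b⁻¹ * (b * z * b⁻¹) * a := by rw [ha, hb]
        _ = _ := by group
    · intro ha
      calc a * z * a⁻¹ = b * (b⁻¹ * a * z) * (b⁻¹ * a)⁻¹ * b⁻¹ := by group
        _ = b * (z * (b⁻¹ * a)) * (b⁻¹ * a)⁻¹ * b⁻¹ := by rw [ha]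
        _ = s := by rw [← hb]; group
  rw [Fintype.sum_prod_type, hfib fun s => ∑ b : G, w (s * (b * z * b⁻¹)),
    Finset.sum_congr rfl fun s _ => hfib fun t => w (s * t), ← Finset.mul_sum, ← mul_assoc,
    ← pow_two, ← d.sum_outer_pairs]
  congr 1
  have hsub : d.outer ⊆ C := fun s hs =>
    Finset.mem_filter.2 ⟨Finset.mem_univ _, d.conjAll s (d.mem_outer.1 hs).1⟩
  have hC : ∀ {s : G}, s ∈ C → IsConj z s := fun h => (Finset.mem_filter.1 h).2
  rw [← Finset.sum_subset hsub fun s hs hs' => Finset.sum_eq_zero fun t ht => ?_]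
  · refine Finset.sum_congr rfl fun s hs => (Finset.sum_subset hsub fun t ht ht' => ?_).symm
    by_contra hne
    exact ht' (d.mem_outer_of_ne_zero (hC (hsub hs)) (hC ht) hne).2
  · by_contra hne
    exact hs' (d.mem_outer_of_ne_zero (hC hs) (hC ht) hne).1

/-- The class multiplication constants read off the character table. -/
theorem sum_mult_eq :
    (Nat.card G : ℂ) * ∑ χ : IrrCharacter G,
        χ.1 z * χ.1 z * classInner d.alpha χ.1 / χ.1 1 =
      (Nat.card d.Aw : ℂ)⁻¹ *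
        ((Nat.card (Subgroup.centralizer ({z} : Set G)) : ℂ) ^ 2 *
          ((d.invNum : ℂ) * d.W) ^ 2) := by
  classical
  haveI := Fintype.ofFinite d.Aw
  set wt := d.cwW.wt fun i => (1 : ℂ) ^ i - Complex.I ^ i
  rw [← d.sum_pairs]
  have h1 : ∑ p : G × G, extendByZero d.Aw wt (p.1 * z * p.1⁻¹ * (p.2 * z * p.2⁻¹)) =
      ∑ k : d.Aw, wt k *
        (Nat.card {p : G × G // p.1 * z * p.1⁻¹ * (p.2 * z * p.2⁻¹) = (k : G)} : ℂ) := by
    rw [← Finset.sum_fiberwise Finset.univ (fun p : G × G => p.1 * z * p.1⁻¹ * (p.2 * z * p.2⁻¹))]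
    rw [Finset.sum_congr rfl (g := fun x : G => extendByZero d.Aw wt x *
      (Nat.card {p : G × G // p.1 * z * p.1⁻¹ * (p.2 * z * p.2⁻¹) = x} : ℂ)) fun x _ => ?_,
      Char.sum_extendByZero_mul d.Aw wt fun x =>
        (Nat.card {p : G × G // p.1 * z * p.1⁻¹ * (p.2 * z * p.2⁻¹) = x} : ℂ)]
    rw [Finset.sum_congr rfl fun p hp => congrArg (extendByZero d.Aw wt) (Finset.mem_filter.1 hp).2,
      Finset.sum_const, nsmul_eq_mul, mul_comm, Nat.card_eq_fintype_card, Fintype.card_subtype]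
  rw [h1]
  simp only [Char.card_conj_mul_conj_eq]
  rw [Finset.mul_sum, Finset.mul_sum]
  simp only [Finset.mul_sum]
  rw [Finset.sum_comm]
  refine Finset.sum_congr rfl fun χ _ => ?_
  rw [show d.alpha = indFun d.Aw wt from rfl,
    Char.classInner_indFun d.Aw wt (Char.IsCharacter.isClassFunction (Char.irr_isCharacter χ)),
    classInner, Finset.mul_sum, Finset.mul_sum, Finset.sum_div, Finset.mul_sum]
  refine Finset.sum_congr rfl fun k _ => ?_
  rw [Char.IsCharacter.conj_apply (Char.irr_isCharacter χ)]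
  ring

theorem alpha_z : d.alpha z = 0 := by
  obtain ⟨w, hw, e⟩ := d.z_eq_coset d.cw d.zw
  rw [alpha]
  refine Eq.trans (congrArg (d.PhiW 1 Complex.I) e) ?_
  rw [show d.PhiW 1 Complex.I (w * d.aw ^ (2 ^ l * o)) = d.PhiW 1 Complex.I (w * d.aw ^ d.W) from rfl,
    d.PhiW_zK d.rootW_one d.rootW_I hw, one_pow, d.I_pow_W, sub_self, mul_zero]

theorem alpha_one : d.alpha 1 = 0 :=
  ind_apply_one d.cwW (one_pow _) (RootW.pow_two_W d d.rootW_I)

/-- The order formula: with `x = ε X(z)` and `Δ = ε X(1)`. -/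
theorem order_formula {ξ : ℂ} (e : Exceptional d ξ) {x Δ : ℤ}
    (hx : (e.ε : ℂ) * e.X.1 z = x) (hΔ : (e.ε : ℂ) * e.X.1 1 = Δ) :
    Δ + 1 ≠ 0 ∧ ((Subgroup.centralizer ({z} : Set G)).index : ℤ) * (Δ - x) ^ 2 =
      (q : ℤ) * ((q : ℤ) ^ 2 - 1) * (q + η) * (d.invNum : ℤ) ^ 2 * (Δ * (Δ + 1)) := by
  classical
  have hε2 : (e.ε : ℂ) * e.ε = 1 := by rcases e.hε with h | h <;> rw [h] <;> norm_num
  have hδ2 : (e.δ : ℂ) * e.δ = 1 := by rcases e.hδ with h | h <;> rw [h] <;> norm_num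
  have hv1 : (e.δ : ℂ) * e.v.1 1 = -(1 + Δ) := by
    have h := e.decomp 1
    rw [d.alpha_one, hΔ] at h
    linear_combination -h
  have hvz : (e.δ : ℂ) * e.v.1 z = -(1 + x) := by
    have h := e.decomp z
    rw [d.alpha_z, hx] at h
    linear_combination -h
  have hX0 : e.X.1 1 ≠ 0 := Char.IsIrrCharacter.apply_one_ne_zero e.X.2
  have hv0 : e.v.1 1 ≠ 0 := Char.IsIrrCharacter.apply_one_ne_zero e.v.2
  have hΔ0 : (Δ : ℂ) ≠ 0 := by
    rw [← hΔ]
    exact mul_ne_zero (left_ne_zero_of_mul_eq_one hε2) hX0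
  have hΔ1 : (1 + Δ : ℂ) ≠ 0 := by
    have h := mul_ne_zero (left_ne_zero_of_mul_eq_one hδ2) hv0
    rw [hv1] at h
    exact neg_ne_zero.1 h
  refine ⟨fun h => hΔ1 (by rw [add_comm]; exact_mod_cast h), ?_⟩
  have key := d.sum_mult_eq
  rw [Finset.sum_congr rfl (g := fun χ : IrrCharacter G =>
    classInner d.alpha χ.1 * (χ.1 z * χ.1 z / χ.1 1)) fun χ _ => by ring,
    e.inner_sum, Char.trivialChar_apply, Char.trivialChar_apply] at key
  have hXt : (e.ε : ℂ) * (e.X.1 z * e.X.1 z / e.X.1 1) = (x : ℂ) ^ 2 / Δ := by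
    rw [← mul_div_assoc, div_eq_div_iff hX0 hΔ0, ← hΔ, ← hx]
    linear_combination (0 : ℂ) * hε2
  have hvt : (e.δ : ℂ) * (e.v.1 z * e.v.1 z / e.v.1 1) = -((1 + x : ℂ) ^ 2 / (1 + Δ)) := by
    rw [← neg_div, ← mul_div_assoc, div_eq_div_iff hv0 hΔ1,
      show (1 + Δ : ℂ) = -((e.δ : ℂ) * e.v.1 1) by linear_combination hv1,
      show (1 + x : ℂ) = -((e.δ : ℂ) * e.v.1 z) by linear_combination hvz]
    ring
  rw [hXt, hvt, d.card_Aw, d.card_C,
    ← (Subgroup.centralizer ({z} : Set G)).card_mul_index, d.card_C] at key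
  have hW : (d.W : ℂ) = (q : ℂ) + η := by exact_mod_cast d.W_cast
  have hg : (2 * (g : ℂ)) = (q : ℂ) - η := by exact_mod_cast d.two_g_cast
  have hη2 : (η : ℂ) * η = 1 := by rcases d.hη with h | h <;> subst h <;> norm_num
  have hK : (Nat.card d.K : ℂ) ≠ 0 := card_ne _
  have hW0 : (d.W : ℂ) ≠ 0 := Nat.cast_ne_zero.2 d.W_pos.ne'
  have hq0 : (q : ℂ) ≠ 0 := Nat.cast_ne_zero.2 d.hq.ne_zero
  have hg0 : (g : ℂ) ≠ 0 := Nat.cast_ne_zero.2 d.g_pos.ne'
  rw [show 4 * q * (2 ^ l * o) * g * Nat.card d.K = 4 * q * d.W * g * Nat.card d.K from rfl] at key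
  generalize d.W = W at *
  push_cast at key
  have hgoal : ((Subgroup.centralizer ({z} : Set G)).index : ℂ) * ((Δ : ℂ) - x) ^ 2 =
      (q : ℂ) * ((q : ℂ) ^ 2 - 1) * (q + η) * (d.invNum : ℂ) ^ 2 * ((Δ : ℂ) * (Δ + 1)) := by
    rw [← hW, show (q : ℂ) ^ 2 - 1 = W * (2 * g) by rw [hW, hg]; linear_combination hη2]
    field_simp at key
    refine mul_left_cancel₀ (two_ne_zero (α := ℂ)) ?_
    linear_combination key
  exact_mod_cast hgoal

end Cent

end Cfsg.Agent.SDCyclic
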