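import Cfsg.Agent.Lib.SDCyclic.ZValue
import Cfsg.Agent.Lib.SDCyclic.Order

/-!
# The identity `ε X(z) = E + 2 g D`

The values of `y ↦ X (z y)` on the odd parts of `Au` and `Ag` are tied by the multiplicities of `X`
in `FU` and `GB` and by the orthogonality to the characters of `C(z)` outside the principal block.
-/

set_option autoImplicit false
set_option linter.style.haveILetI false
set_option linter.unusedSectionVars false

namespace Cfsg.Agent.SDCyclic

open Cfsg
open scoped ComplexConjugate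

universe u

theorem sum_range_shift {R : Type*} [AddCommMonoid R] {f : ℕ → R} {n : ℕ}
    (hf : Function.Periodic f n) (k : ℕ) :
    ∑ i ∈ Finset.range n, f (i + k) = ∑ i ∈ Finset.range n, f i := by
  induction k with
  | zero => rfl
  | succ k ih =>
    cases n with
    | zero => simp
    | succ n =>
      rw [← ih, Finset.sum_range_succ, Finset.sum_range_succ',
        show n + (k + 1) = 0 + k + (n + 1) by omega, hf]
      exact congrArg₂ _ (Finset.sum_congr rfl fun i _ => by ring_nf) rfl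

variable {G : Type u} [Group G] [Fintype G] {z : G} {q : ℕ} {η : ℤ} {l g o : ℕ}

namespace Cent

variable (d : Cent z q η l g o)
include d

theorem K_le_C : d.K ≤ d.C := fun x hx => d.mem_C (d.K_le x hx)

theorem KT_le_C : d.K ⊔ Subgroup.zpowers d.t ≤ d.C := fun x hx => d.mem_C (d.KT_le x hx)

variable {M : Ideal AlgInt} (hM : IsPModular 2 M) {χ : IrrCharacter G}
  (hχ : χ ∈ principalBlock M G)
include hM hχ

/-- `χ (z y)` only depends on the coset of the odd element `y`. -/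
theorem atZ_coset {a : G} {h : ℕ} (c : CycOver d.K a (2 * h)) (hh : Odd h) (ha : Commute z a)
    {i : ℕ} (hi : Even i) {k : G} (hk : k ∈ d.K) :
    χ.1 (z * (k * a ^ i)) = χ.1 (z * a ^ i) := by
  have h0 := d.normK _ (ha.pow_right i).inv_right k hk
  rw [inv_inv] at h0
  have e : k * a ^ i = a ^ i * ((a ^ i)⁻¹ * k * a ^ i) := by group
  have ho : Odd (orderOf (a ^ i)) := by simpa using d.odd_pow c hh hi d.K.one_mem
  rw [e]
  exact d.atZ_mul_core hM hχ (ha.pow_right i) ho (e ▸ d.odd_pow c hh hi hk) h0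

theorem atZ_periodic {a : G} {h : ℕ} (c : CycOver d.K a (2 * h)) (hh : Odd h) (ha : Commute z a)
    {i j : ℕ} (hij : i ≡ j [MOD 2 * h]) (hj : Even j) :
    χ.1 (z * a ^ i) = χ.1 (z * a ^ j) := by
  rw [show a ^ i = a ^ i * (a ^ j)⁻¹ * a ^ j by group]
  exact d.atZ_coset hM hχ c hh ha hj (c.pow_mem_iff_modEq.2 hij)

/-- A character on an odd coset, through the element `z`. -/
theorem apply_odd_coset {a : G} {h : ℕ} (c : CycOver d.K a (2 * h)) (hh : Odd h)
    (hz : a ^ h * z ∈ d.K) (ha : Commute z a) {i : ℕ} (hi : Odd i) {k : G} (hk : k ∈ d.K) :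
    χ.1 (k * a ^ i) = χ.1 (z * a ^ (h + i)) := by
  obtain ⟨w, hw, hzw⟩ := d.z_eq_coset c hz
  have e : k * a ^ i = z * (k * w * a ^ (h + i)) := by
    calc k * a ^ i = z * (z * k) * a ^ i := by rw [← mul_assoc z z, d.z_sq, one_mul]
      _ = z * (k * (w * a ^ h)) * a ^ i := by rw [(d.K_le k hk).eq, ← hzw]
      _ = _ := by rw [pow_add]; group
  rw [e]
  exact d.atZ_coset hM hχ c hh ha (hh.add_odd hi) (mul_mem hk hw)

/-- All nontrivial cosets of the odd part of `Au` give the same value. -/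
theorem atZ_Au {i : ℕ} (hi : Even i) (hqi : ¬ q ∣ i) :
    χ.1 (z * d.au ^ i) = χ.1 (z * d.au ^ 2) := by
  obtain ⟨m, rfl⟩ := hi
  obtain ⟨j, hj, hjm⟩ : ∃ j, Odd j ∧ (j = m ∨ j = m + q) := by
    rcases Nat.even_or_odd m with h | h
    · exact ⟨m + q, h.add_odd d.q_odd, Or.inr rfl⟩
    · exact ⟨m, h, Or.inl rfl⟩
  have hqj : ¬ q ∣ j := by
    intro h
    rcases hjm with rfl | rfl
    · exact hqi (dvd_add h h)
    · exact hqi (dvd_add ((Nat.dvd_add_left dvd_rfl).1 h) ((Nat.dvd_add_left dvd_rfl).1 h))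
  obtain ⟨x, hx, hxK⟩ := d.surU j hj hqj
  obtain ⟨k, hk, e⟩ := conj_mul_pow (σ := x⁻¹) d.cu
    (fun w hw => d.normK _ hx.inv_right w hw) (by rw [inv_inv]; exact hxK) d.K.one_mem 2
  have hcl := Char.IsCharacter.isClassFunction (Char.irr_isCharacter χ) (z * d.au ^ 2) x⁻¹
  have e2 : x⁻¹ * (z * d.au ^ 2) * x⁻¹⁻¹ = z * (k * d.au ^ (j * 2)) := by
    rw [← e, one_mul, inv_inv, ← mul_assoc x⁻¹ z, ← hx.inv_right.eq]
    group
  have hmod : j * 2 ≡ m + m [MOD 2 * q] := by
    rcases hjm with rfl | rfl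
    · rw [show j * 2 = j + j by ring]
    · rw [show (m + q) * 2 = m + m + 2 * q by ring]
      exact Nat.add_modEq_right
  rw [← hcl, e2, d.atZ_coset hM hχ d.cu d.q_odd d.comm_u ⟨j, by ring⟩ hk,
    d.atZ_periodic hM hχ d.cu d.q_odd d.comm_u hmod ⟨m, rfl⟩]

/-- The multiplicity in `FU`. -/
theorem inner_FU_eq {ξ : ℂ} (hξ : IsPrimitiveRoot ξ q) :
    classInner (d.FU ξ) χ.1 * q = conj (χ.1 z) - conj (χ.1 (z * d.au ^ 2)) := by
  classical
  rw [show d.FU ξ = indFun d.Au (d.cu.wt fun i => ξ ^ i - (-ξ) ^ i) from rfl,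
    classInner_wt d.cu (d.periodic_FU hξ)
      (Char.IsCharacter.isClassFunction (Char.irr_isCharacter χ))
      (V := fun i => χ.1 (z * d.au ^ 2) +
        if i = q then χ.1 z - χ.1 (z * d.au ^ 2) else 0) ?_]
  · simp only [map_add, mul_add, Finset.sum_add_distrib, apply_ite (starRingEnd ℂ),
      map_zero, mul_ite, mul_zero, Finset.sum_ite_eq', Finset.mem_range,
      show q < 2 * q by have := d.hq.pos; omega, if_true, ← Finset.sum_mul, hξ.pow_eq_one,
      d.q_odd.neg_pow, map_sub]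
    rw [Finset.sum_sub_distrib,
      sum_pow_root (by rw [mul_comm, pow_mul, hξ.pow_eq_one, one_pow]),
      sum_pow_root (show (-ξ) ^ (2 * q) = 1 by
        rw [pow_mul, neg_sq, ← pow_mul, mul_comm, pow_mul, hξ.pow_eq_one, one_pow]),
      if_neg (hξ.ne_one d.hq.one_lt), if_neg]
    · have hq0 : (q : ℂ) ≠ 0 := Nat.cast_ne_zero.2 d.hq.ne_zero
      push_cast
      field_simp
      ring
    · intro h
      have h' : ξ ^ q = (-1) ^ q := by rw [← neg_neg ξ, h]
      rw [hξ.pow_eq_one, d.q_odd.neg_pow, one_pow] at h'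
      norm_num at h'
  · intro i hi hne k hk
    have ho := d.odd_of_weight_ne_zero hξ hne
    rw [d.apply_odd_coset hM hχ d.cu d.q_odd d.zu d.comm_u ho hk]
    rcases d.cases_q hξ hi ho with hiq | hq'
    · subst i
      rw [if_pos rfl, d.atZ_periodic hM hχ d.cu d.q_odd d.comm_u (i := q + q) (j := 0)
        (Nat.modEq_zero_iff_dvd.2 (by rw [two_mul])) (by simp)]
      simp
    · rw [if_neg (fun h => hq' (by rw [h])), add_zero,
        d.atZ_Au hM hχ (d.q_odd.add_odd ho) fun h => hq' ((Nat.dvd_add_right dvd_rfl).1 h)]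

/-- The multiplicity in `GB`. -/
theorem inner_GB_eq :
    classInner d.GB χ.1 * g = ∑ m ∈ Finset.range g, conj (χ.1 (z * d.ag ^ (2 * m))) := by
  classical
  have hper : Function.Periodic
      (fun j => if Even j then conj (χ.1 (z * d.ag ^ j)) else 0) (2 * g) := by
    intro j
    simp only [Nat.even_add, iff_true_right (even_two_mul g)]
    split_ifs with hj
    · rw [d.atZ_periodic hM hχ d.cg d.hg d.comm_g Nat.add_modEq_right hj]
    · rfl
  rw [show d.GB = indFun d.Bg (d.cg.wt fun i => (1 : ℂ) ^ i - (-1) ^ i) from rfl,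
    classInner_wt d.cg d.periodic_GB (Char.IsCharacter.isClassFunction (Char.irr_isCharacter χ))
      (V := fun i => χ.1 (z * d.ag ^ (g + i))) (fun i hi hne k hk =>
        d.apply_odd_coset hM hχ d.cg d.hg d.zg d.comm_g (d.odd_of_weight_GB hne) hk)]
  rw [Finset.sum_congr rfl (g := fun i => 2 *
    (fun j => if Even j then conj (χ.1 (z * d.ag ^ j)) else 0) (i + g)) fun i _ => ?_,
    ← Finset.mul_sum, sum_range_shift hper, sum_range_two_mul]
  · have hg0 : (g : ℂ) ≠ 0 := Nat.cast_ne_zero.2 d.g_pos.ne'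
    push_cast
    field_simp
  · rw [one_pow]
    rcases Nat.even_or_odd i with h | h
    · rw [h.neg_one_pow, sub_self, zero_mul,
        show (fun j => if Even j then conj (χ.1 (z * d.ag ^ j)) else 0) (i + g) = 0 from
          if_neg (Nat.not_even_iff_odd.2 (h.add_odd d.hg)), mul_zero]
    · rw [h.neg_one_pow,
        show (fun j => if Even j then conj (χ.1 (z * d.ag ^ j)) else 0) (i + g) =
          conj (χ.1 (z * d.ag ^ (i + g))) from if_pos (h.add_odd d.hg), add_comm i g]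
      norm_num

/-- Orthogonality to the irreducible character `± Rnu`. -/
theorem orth_Rnu {ω ξ : ℂ} (hω : ω ^ g = 1) (hω1 : ω ≠ 1) (hξ : IsPrimitiveRoot ξ q) :
    (q : ℂ) * ∑ m ∈ Finset.range g, ω ^ (2 * m) * conj (χ.1 (z * d.ag ^ (2 * m))) =
      2 * g * (conj (χ.1 z) - conj (χ.1 (z * d.au ^ 2))) := by
  classical
  haveI := Fintype.ofFinite d.C
  have hag : d.ag ∈ d.C := d.mem_C d.comm_g
  have hau : d.au ∈ d.C := d.mem_C d.comm_u
  obtain ⟨ψ, hψ, hR⟩ := d.exists_irr_Rnu hω hω1 hξ hM hag hau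
  have h1 : BlockCount.pregSum 2
      (fun y : d.C => d.Rnu (ω := ω) (ξ := ξ) hag hau y * conj (d.atZ χ.1 y)) = 0 := by
    have h := congrArg conj (d.pregSum_atZ_orth hM hχ hψ)
    rw [BlockCount.pregSum, map_sum, map_zero] at h
    simp only [map_mul, Complex.conj_conj] at h
    rcases hR with e | e <;> rw [e, BlockCount.pregSum]
    · rw [← h]
      exact Finset.sum_congr rfl fun y _ => mul_comm _ _
    · rw [← neg_eq_zero, ← Finset.sum_neg_distrib, ← h]
      exact Finset.sum_congr rfl fun y _ => by simp [mul_comm]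
  have hcl : IsClassFunction d.C (fun y => conj (d.atZ χ.1 y)) := fun y c => by
    simp only
    rw [d.isClassFunction_atZ (Char.IsCharacter.isClassFunction (Char.irr_isCharacter χ)) y c]
  set cg' := d.cgt.restrict d.C hag
  set cu' := d.cu.restrict d.C hau
  haveI := Fintype.ofFinite
    (cyc ((d.K ⊔ Subgroup.zpowers d.t).subgroupOf d.C) (⟨d.ag, hag⟩ : d.C))
  haveI := Fintype.ofFinite (cyc (d.K.subgroupOf d.C) (⟨d.au, hau⟩ : d.C))
  set Φ : d.C → ℂ := fun y => conj (d.atZ χ.1 y)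
  rw [show (fun y : d.C => d.Rnu (ω := ω) (ξ := ξ) hag hau y * Φ y) =
      indFun (cyc ((d.K ⊔ Subgroup.zpowers d.t).subgroupOf d.C) (⟨d.ag, hag⟩ : d.C))
        (fun h => cg'.wt (fun i => ω ^ i) h * Φ h) -
      indFun (cyc (d.K.subgroupOf d.C) (⟨d.au, hau⟩ : d.C))
        (fun h => cu'.wt (fun i => ξ ^ i) h * Φ h) by
    rw [Char.indFun_mul_restrict _ _ hcl, Char.indFun_mul_restrict _ _ hcl]
    funext y
    simp only [Rnu, Pi.sub_apply, Pi.mul_apply, sub_mul],
    show ∀ a b : d.C → ℂ, BlockCount.pregSum 2 (a - b) =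
      BlockCount.pregSum 2 a - BlockCount.pregSum 2 b from fun a b => by
        simp only [BlockCount.pregSum, Pi.sub_apply, Finset.sum_sub_distrib],
    BlockCount.pregSum_indFun, BlockCount.pregSum_indFun, d.index_Ag hag d.KT_le_C,
    d.index_Au hau d.K_le_C] at h1
  have hn1 : ω ^ (2 * g) = 1 := by rw [mul_comm, pow_mul, hω, one_pow]
  have hn2 : ξ ^ (2 * q) = 1 := by rw [mul_comm, pow_mul, hξ.pow_eq_one, one_pow]
  have e1 := cg'.pregSum_cyc (K := d.K.subgroupOf d.C) rfl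
    (Subgroup.comap_mono le_sup_left) (fun u hu i => by
      rw [← Subgroup.orderOf_coe, Subgroup.mem_subgroupOf, Subgroup.coe_mul,
        SubmonoidClass.coe_pow]
      exact d.odd_Ag (Subgroup.mem_subgroupOf.1 hu) i)
    (fun y => extendByZero _ (cg'.wt fun i => ω ^ i) y * Φ y)
    (fun i => ω ^ i * conj (χ.1 (z * d.ag ^ i))) (fun k hk i hi => by
      simp only [Φ, atZ]
      rw [cg'.ext_wt (periodic_pow hn1) (Subgroup.comap_mono le_sup_left hk) rfl,
        Subgroup.coe_mul, SubmonoidClass.coe_pow,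
        d.atZ_coset hM hχ d.cg d.hg d.comm_g hi (Subgroup.mem_subgroupOf.1 hk)])
  have e2 := cu'.pregSum_cyc (K := d.K.subgroupOf d.C) rfl le_rfl (fun u hu i => by
      rw [← Subgroup.orderOf_coe, Subgroup.mem_subgroupOf, Subgroup.coe_mul,
        SubmonoidClass.coe_pow]
      rw [Subgroup.mem_subgroupOf] at hu
      exact ⟨fun h => ⟨hu, d.even_of_odd_order d.cu hu h⟩,
        fun h => d.odd_pow d.cu d.q_odd h.2 hu⟩)
    (fun y => extendByZero _ (cu'.wt fun i => ξ ^ i) y * Φ y)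
    (fun i => ξ ^ i * conj (χ.1 (z * d.au ^ i))) (fun k hk i hi => by
      simp only [Φ, atZ]
      rw [cu'.ext_wt (periodic_pow hn2) hk rfl, Subgroup.coe_mul, SubmonoidClass.coe_pow,
        d.atZ_coset hM hχ d.cu d.q_odd d.comm_u hi (Subgroup.mem_subgroupOf.1 hk)])
  simp only [Char.extendByZero_coe] at e1 e2
  rw [e1, e2] at h1
  have h2 : ∑ m ∈ Finset.range q, ξ ^ (2 * m) * conj (χ.1 (z * d.au ^ (2 * m))) =
      conj (χ.1 z) - conj (χ.1 (z * d.au ^ 2)) := by
    rw [Finset.sum_congr rfl (g := fun m => ξ ^ (2 * m) * conj (χ.1 (z * d.au ^ 2)) +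
      if m = 0 then conj (χ.1 z) - conj (χ.1 (z * d.au ^ 2)) else 0) fun m hm => ?_,
      Finset.sum_add_distrib, Finset.sum_ite_eq', if_pos (Finset.mem_range.2 d.hq.pos),
      ← Finset.sum_mul]
    · have hne : ξ ^ 2 ≠ 1 := hξ.pow_ne_one_of_pos_of_lt two_ne_zero (by
        have := d.three_le_q; omega)
      simp only [pow_mul]
      rw [sum_pow_root (by rw [← pow_mul, hn2]), if_neg hne, zero_mul, zero_add]
    · split_ifs with h0
      · subst h0; simp
      · rw [d.atZ_Au hM hχ (even_two_mul m) fun h => ?_, add_zero]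
        have h3 := (Nat.Coprime.dvd_mul_left (d.q_odd.coprime_two_right)).1 h
        have := Nat.le_of_dvd (Nat.pos_of_ne_zero h0) h3
        have := Finset.mem_range.1 hm
        omega
  rw [h2] at h1
  have hK : (Nat.card (d.K.subgroupOf d.C) : ℂ) ≠ 0 := card_ne _
  have hW0 : (d.W : ℂ) ≠ 0 := Nat.cast_ne_zero.2 d.W_pos.ne'
  push_cast at h1
  refine mul_left_cancel₀ (mul_ne_zero hK hW0) ?_
  rw [show ((d.W : ℕ) : ℂ) = 2 ^ l * o by push_cast; rfl]
  linear_combination h1

end Cent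

/-- The value at `z`. -/
theorem X_apply_z (d : Cent z q η l g o) {ξ : ℂ} (hξ : IsPrimitiveRoot ξ q)
    (e : Exceptional d ξ) {M : Ideal AlgInt} (hM : IsPModular 2 M) :
    (e.ε : ℂ) * e.X.1 z = e.E + 2 * g * e.D := by
  classical
  have hX := d.X_mem_principal e hM
  set c : ℕ → ℂ := fun m => conj (e.X.1 (z * d.ag ^ (2 * m))) with hc
  set c0 : ℂ := conj (e.X.1 z) with hc0
  have hU : c0 - conj (e.X.1 (z * d.au ^ 2)) = (e.ε : ℂ) * e.D * q := by
    rw [← d.inner_FU_eq hM hX hξ, e.inner_FU]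
  have hB : ∑ m ∈ Finset.range g, c m = (g : ℂ) * (e.ε * (e.E + 2 * e.D)) := by
    have h := e.inner_F0
    rw [Cent.F0, Char.classInner_sub_left, Char.classInner_smul_left, e.inner_FU] at h
    rw [← d.inner_GB_eq hM hX]
    linear_combination (g : ℂ) * h
  have hq0 : (q : ℂ) ≠ 0 := Nat.cast_ne_zero.2 d.hq.ne_zero
  have hg0 : (g : ℂ) ≠ 0 := Nat.cast_ne_zero.2 d.g_pos.ne'
  have hO : ∀ ω : ℂ, ω ^ g = 1 → ω ≠ 1 →
      ∑ m ∈ Finset.range g, (ω ^ 2) ^ m * c m = 2 * g * ((e.ε : ℂ) * e.D) := by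
    intro ω h1 h2
    have h := d.orth_Rnu hM hX h1 h2 hξ
    rw [← hc0, hU] at h
    simp only [pow_mul ω] at h
    refine mul_left_cancel₀ hq0 ?_
    rw [h]
    ring
  obtain ⟨ω, hω⟩ : ∃ ω : ℂ, IsPrimitiveRoot ω g :=
    ⟨_, Complex.isPrimitiveRoot_exp g d.g_pos.ne'⟩
  have hsum : ∑ j ∈ Finset.range g, ∑ m ∈ Finset.range g, ((ω ^ j) ^ 2) ^ m * c m =
      (g : ℂ) * c0 := by
    rw [Finset.sum_comm, Finset.sum_congr rfl
      (g := fun m => if m = 0 then (g : ℂ) * c0 else 0) fun m hm => ?_, Finset.sum_ite_eq',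
      if_pos (Finset.mem_range.2 d.g_pos)]
    rw [← Finset.sum_mul, Finset.sum_congr rfl (g := fun j => (ω ^ (2 * m)) ^ j) fun j _ => by
      rw [← pow_mul, ← pow_mul, ← pow_mul]; ring_nf,
      sum_pow_root (by rw [← pow_mul, mul_comm, pow_mul, hω.pow_eq_one, one_pow])]
    by_cases hm0 : m = 0
    · subst hm0
      simp [hc, hc0]
    · rw [if_neg hm0, if_neg, zero_mul]
      rw [hω.pow_eq_one_iff_dvd]
      intro h
      have := Nat.le_of_dvd (Nat.pos_of_ne_zero hm0)
        ((Nat.Coprime.dvd_mul_left d.hg.coprime_two_right).1 h)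
      have := Finset.mem_range.1 hm
      omega
  rw [← Finset.add_sum_erase _ _ (Finset.mem_range.2 d.g_pos),
    Finset.sum_congr (s₁ := (Finset.range g).erase 0) rfl
      (g := fun _ => 2 * (g : ℂ) * ((e.ε : ℂ) * e.D)) fun j hj => ?_,
    Finset.sum_const, Finset.card_erase_of_mem (Finset.mem_range.2 d.g_pos),
    Finset.card_range] at hsum
  · simp only [pow_zero, one_pow, one_mul] at hsum
    rw [hB, nsmul_eq_mul, Nat.cast_sub d.g_pos, Nat.cast_one] at hsum
    have h0 : c0 = (e.ε : ℂ) * (e.E + 2 * g * e.D) := by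
      refine mul_left_cancel₀ hg0 ?_
      rw [← hsum]
      ring
    have h1 := congrArg conj h0
    rw [hc0, Complex.conj_conj] at h1
    have hε2 : (e.ε : ℂ) * e.ε = 1 := by rcases e.hε with h | h <;> rw [h] <;> norm_num
    rw [h1]
    simp only [map_mul, map_add, map_intCast, map_natCast, show conj (2 : ℂ) = 2 from map_ofNat _ 2]
    linear_combination ((e.E : ℂ) + 2 * g * e.D) * hε2
  · obtain ⟨hj0, hjg⟩ := Finset.mem_erase.1 hj
    exact hO _ (by rw [← pow_mul, mul_comm, pow_mul, hω.pow_eq_one, one_pow])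
      (hω.pow_ne_one_of_pos_of_lt hj0 (Finset.mem_range.1 hjg))

end Cfsg.Agent.SDCyclic
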