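import Cfsg.Agent.Lib.SDCyclic.Data

/-!
# Elementary consequences of the structure of the centralizer

Cosets of `K` in the three cyclic subgroups, their involutions, the orders.
-/

set_option autoImplicit false
set_option linter.style.haveILetI false
set_option linter.unusedSectionVars false

namespace Cfsg.Agent.SDCyclic

variable {G : Type*} [Group G] [Finite G]

namespace CycOver

variable {L : Subgroup G} {a : G} {n : ℕ} (c : CycOver L a n)
include c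

theorem pow_self_mem : a ^ n ∈ L := (c.mem_iff n).2 dvd_rfl

theorem mul_pow_mem_iff {x : G} (hx : x ∈ L) (j : ℕ) : x * a ^ j ∈ L ↔ n ∣ j := by
  rw [L.mul_mem_cancel_left hx, c.mem_iff]

theorem mul_pow_pow {x : G} (hx : x ∈ L) (j i : ℕ) :
    ∃ y ∈ L, (x * a ^ j) ^ i = y * a ^ (j * i) := by
  induction i with
  | zero => exact ⟨1, L.one_mem, by simp⟩
  | succ i ih =>
    obtain ⟨y, hy, e⟩ := ih
    exact ⟨y * (a ^ (j * i) * x * (a ^ (j * i))⁻¹), mul_mem hy (c.norm_pow _ hx),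
      by rw [pow_succ, e, Nat.mul_succ, pow_add]; group⟩

/-- Conjugation by elements of `L⟨a⟩` preserves the cosets of `L`. -/
theorem conj_coset {g : G} (hg : g ∈ cyc L a) {x : G} (hx : x ∈ L) (i : ℕ) :
    ∃ y ∈ L, g⁻¹ * (x * a ^ i) * g = y * a ^ i := by
  obtain ⟨u, hu, j, -, rfl⟩ := c.existsUnique_coord hg
  have hn : ∀ w ∈ L, (a ^ j)⁻¹ * w * a ^ j ∈ L := by
    intro w hw
    have h1 := (Subgroup.mem_normalizer_iff''.1
      (pow_mem c.mem_normalizer j) w).1 hw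
    exact h1
  refine ⟨(a ^ j)⁻¹ * (u⁻¹ * x * (a ^ i * u * (a ^ i)⁻¹)) * a ^ j,
    hn _ (mul_mem (mul_mem (inv_mem hu) hx) (c.norm_pow i hu)), ?_⟩
  calc (u * a ^ j)⁻¹ * (x * a ^ i) * (u * a ^ j)
      = (a ^ j)⁻¹ * (u⁻¹ * x * (a ^ i * u * (a ^ i)⁻¹)) * a ^ i * a ^ j := by group
    _ = _ := by rw [mul_assoc _ (a ^ i), ← pow_add, add_comm, pow_add]; group

theorem zpowers_le_normalizer : Subgroup.zpowers a ≤ Subgroup.normalizer (L : Set G) :=
  Subgroup.zpowers_le.2 c.mem_normalizer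

end CycOver

/-- A conjugation multiplying exponents. -/
theorem conj_mul_pow {L : Subgroup G} {a σ : G} {n r : ℕ} (c : CycOver L a n)
    (hn : ∀ x ∈ L, σ * x * σ⁻¹ ∈ L) (hr : σ * a * σ⁻¹ * (a ^ r)⁻¹ ∈ L) {x : G} (hx : x ∈ L)
    (i : ℕ) : ∃ y ∈ L, σ * (x * a ^ i) * σ⁻¹ = y * a ^ (r * i) := by
  obtain ⟨y, hy, e⟩ := c.mul_pow_pow hr r i
  rw [inv_mul_cancel_right, conj_pow] at e
  refine ⟨σ * x * σ⁻¹ * y, mul_mem (hn x hx) hy, ?_⟩
  rw [mul_assoc _ y, ← e]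
  group

/-- A subgroup with an involution `z` over an odd subgroup. -/
theorem cycOver_two {L : Subgroup G} {z : G} (hL : Odd (Nat.card L)) (hz : orderOf z = 2)
    (hn : ∀ x ∈ L, z * x * z⁻¹ ∈ L) : CycOver L z 2 := by
  refine ⟨hn, two_pos, fun j => ⟨fun h => ?_, fun ⟨m, hm⟩ => ?_⟩⟩
  · by_contra h2
    obtain ⟨m, rfl⟩ := Nat.odd_iff.2 (Nat.two_dvd_ne_zero.1 h2)
    rw [pow_succ, pow_mul, ← hz, pow_orderOf_eq_one, one_pow, one_mul] at h
    have := hL.of_dvd_nat (Subgroup.orderOf_dvd_natCard L h)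
    rw [hz] at this
    exact absurd this (by decide)
  · rw [hm, pow_mul, ← hz, pow_orderOf_eq_one, one_pow]
    exact L.one_mem

namespace Cent

variable {z : G} {q : ℕ} {η : ℤ} {l g o : ℕ} (d : Cent z q η l g o)
include d

theorem z_sq : z * z = 1 := by rw [← pow_two, ← d.zorder]; exact pow_orderOf_eq_one z

theorem z_inv : z⁻¹ = z := inv_eq_of_mul_eq_one_right d.z_sq

theorem z_ne_one : z ≠ 1 := fun h => by
  have := d.zorder
  rw [h, orderOf_one] at this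
  omega

theorem t_sq : d.t * d.t = 1 := by rw [← pow_two, ← d.t_order]; exact pow_orderOf_eq_one d.t

theorem τ_sq : d.τ * d.τ = 1 := by rw [← pow_two, ← d.τ_order]; exact pow_orderOf_eq_one d.τ

theorem q_ne_two : q ≠ 2 := by
  have h2 := d.hqp
  obtain ⟨c, hc⟩ : (4 : ℤ) ∣ 2 ^ l * (o : ℤ) :=
    Dvd.dvd.mul_right (pow_dvd_pow 2 d.hl : (2 : ℤ) ^ 2 ∣ 2 ^ l) _
  intro hq
  subst hq
  rcases d.hη with h | h <;> subst h <;> omega

theorem q_odd : Odd q := d.hq.odd_of_ne_two d.q_ne_two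

theorem three_le_q : 3 ≤ q := by
  have := d.hq.two_le
  have := d.q_ne_two
  omega

theorem g_pos : 0 < g := d.hg.pos

theorem o_pos : 0 < o := d.ho.pos

theorem W_pos : 0 < d.W := Nat.mul_pos (Nat.two_pow_pos l) d.o_pos

theorem four_dvd_W : 4 ∣ d.W :=
  Dvd.dvd.mul_right (pow_dvd_pow 2 d.hl : 2 ^ 2 ∣ 2 ^ l) o

theorem W_cast : (d.W : ℤ) = (q : ℤ) + η := by rw [d.hqp]; push_cast [Cent.W]; ring

theorem two_g_cast : ((2 * g : ℕ) : ℤ) = (q : ℤ) - η := by rw [d.hqm]; push_cast; ring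

theorem cz : CycOver d.K z 2 :=
  cycOver_two d.oddK d.zorder fun _ hx => d.normK z (Commute.refl z) _ hx

theorem ct : CycOver d.K d.t 2 :=
  cycOver_two d.oddK d.t_order fun _ hx => d.normK d.t d.comm_t _ hx

theorem card_KT : Nat.card (d.K ⊔ Subgroup.zpowers d.t : Subgroup G) = 2 * Nat.card d.K := by
  rw [show (d.K ⊔ Subgroup.zpowers d.t) = cyc d.K d.t from rfl, d.ct.card_cyc, mul_comm]

theorem card_Aw : Nat.card d.Aw = Nat.card d.K * (2 * d.W) := d.cw.card_cyc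

theorem card_Au : Nat.card d.Au = Nat.card d.K * (2 * q) := d.cu.card_cyc

theorem card_Bg : Nat.card d.Bg = Nat.card d.K * (2 * g) := d.cg.card_cyc

theorem card_Ag : Nat.card d.Ag = 2 * Nat.card d.K * (2 * g) := by
  rw [d.cgt.card_cyc, d.card_KT]

theorem Bg_le_Ag : d.Bg ≤ d.Ag :=
  sup_le_sup_right le_sup_left _

theorem t_mem_Ag : d.t ∈ d.Ag :=
  left_le_cyc _ _ (Subgroup.mem_sup_right (Subgroup.mem_zpowers d.t))

theorem commute_of_mem {a : G} (ha : Commute z a) {L : Subgroup G}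
    (hL : ∀ x ∈ L, Commute z x) {y : G} (hy : y ∈ cyc L a) : Commute z y := by
  have : cyc L a ≤ Subgroup.centralizer ({z} : Set G) := by
    refine sup_le (fun x hx => ?_) (Subgroup.zpowers_le.2 ?_)
    · exact Subgroup.mem_centralizer_singleton_iff.2 (hL x hx).eq.symm
    · exact Subgroup.mem_centralizer_singleton_iff.2 ha.eq.symm
  exact (Subgroup.mem_centralizer_singleton_iff.1 (this hy)).symm

theorem KT_le : ∀ x ∈ d.K ⊔ Subgroup.zpowers d.t, Commute z x :=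
  fun _ hx => d.commute_of_mem d.comm_t d.K_le hx

theorem comm_Aw {y : G} (hy : y ∈ d.Aw) : Commute z y := d.commute_of_mem d.comm_w d.K_le hy

theorem comm_Au {y : G} (hy : y ∈ d.Au) : Commute z y := d.commute_of_mem d.comm_u d.K_le hy

theorem comm_Ag {y : G} (hy : y ∈ d.Ag) : Commute z y := d.commute_of_mem d.comm_g d.KT_le hy

/-- The involution in cosets. -/
theorem z_eq_coset {a : G} {h : ℕ} (c : CycOver d.K a (2 * h)) (hz : a ^ h * z ∈ d.K) :
    ∃ k ∈ d.K, z = k * a ^ h := by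
  refine ⟨(a ^ (2 * h))⁻¹ * (a ^ h * (a ^ h * z) * (a ^ h)⁻¹),
    mul_mem (inv_mem c.pow_self_mem) (c.norm_pow h hz), ?_⟩
  rw [two_mul, pow_add]
  group

theorem mem_KZ_iff {a : G} {h : ℕ} (c : CycOver d.K a (2 * h)) (hz : a ^ h * z ∈ d.K)
    {k : G} (hk : k ∈ d.K) (i : ℕ) : k * a ^ i ∈ d.KZ ↔ h ∣ i := by
  obtain ⟨w, hw, hzw⟩ := d.z_eq_coset c hz
  rw [show d.KZ = cyc d.K z from rfl, d.cz.mem_cyc_iff]
  constructor
  · rintro ⟨x, hx, j, hj⟩
    rcases Nat.even_or_odd' j with ⟨m, rfl | rfl⟩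
    · rw [pow_mul, pow_two, d.z_sq, one_pow, mul_one] at hj
      have h1 : k * a ^ i = x * a ^ 0 := by rw [hj, pow_zero, mul_one]
      exact (dvd_mul_left h 2).trans (Nat.modEq_zero_iff_dvd.1 (c.pow_mem_cyc_eq hk hx h1))
    · rw [pow_succ, pow_mul, pow_two, d.z_sq, one_pow, one_mul, hzw, ← mul_assoc] at hj
      exact (((c.pow_mem_cyc_eq hk (mul_mem hx hw) hj).of_dvd (dvd_mul_left h 2)).trans
        (Nat.modEq_zero_iff_dvd.2 dvd_rfl)) |> Nat.modEq_zero_iff_dvd.1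
  · rintro ⟨m, rfl⟩
    obtain ⟨y, hy, e⟩ := c.mul_pow_pow (inv_mem hw) 0 1
    rcases Nat.even_or_odd' m with ⟨j, rfl | rfl⟩
    · refine ⟨k * a ^ (h * (2 * j)), mul_mem hk ((c.mem_iff _).2 ⟨j, by ring⟩), 0, ?_⟩
      rw [pow_zero, mul_one]
    · refine ⟨k * a ^ (h * (2 * j)) * w⁻¹, mul_mem (mul_mem hk ((c.mem_iff _).2 ⟨j, by ring⟩))
        (inv_mem hw), 1, ?_⟩
      rw [pow_one, show h * (2 * j + 1) = h * (2 * j) + h by ring, pow_add, hzw]
      group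

/-- The only involution of a subgroup cyclic over `K`. -/
theorem eq_z_of_sq {a : G} {h : ℕ} (c : CycOver d.K a (2 * h)) (hz : a ^ h * z ∈ d.K) {s : G}
    (hs : s ∈ cyc d.K a) (h2 : s * s = 1) : s = 1 ∨ s = z := by
  obtain ⟨k, hk, i, -, rfl⟩ := c.existsUnique_coord hs
  obtain ⟨y, hy, e⟩ := c.mul_pow_pow hk i 2
  rw [pow_two, h2] at e
  have hi : 2 * h ∣ i * 2 := Nat.modEq_zero_iff_dvd.1
    (c.pow_mem_cyc_eq hy d.K.one_mem (i := i * 2) (j := 0) (by simpa using e.symm))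
  have hh : h ∣ i := Nat.dvd_of_mul_dvd_mul_left two_pos (by rwa [mul_comm i 2] at hi)
  have hKZ := (d.mem_KZ_iff c hz hk i).2 hh
  rw [show d.KZ = cyc d.K z from rfl] at hKZ
  obtain ⟨x, hx, j, -, e2⟩ := d.cz.existsUnique_coord hKZ
  rw [e2] at h2 ⊢
  have hxz : Commute (z ^ j) x := (d.K_le x hx).pow_left j
  have hzz : z ^ j * z ^ j = 1 := by rw [← pow_add, ← two_mul, pow_mul, pow_two, d.z_sq, one_pow]
  have hxx : x * x = 1 := by
    rw [mul_assoc, ← mul_assoc (z ^ j), hxz.eq, mul_assoc x (z ^ j), hzz, mul_one] at h2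
    exact h2
  have hx1 : x = 1 := by
    have h3 : orderOf x ∣ 2 := orderOf_dvd_of_pow_eq_one (by rw [pow_two, hxx])
    have h4 := d.oddK.of_dvd_nat (Subgroup.orderOf_dvd_natCard d.K hx)
    rcases (Nat.dvd_prime Nat.prime_two).1 h3 with h5 | h5
    · exact orderOf_eq_one_iff.1 h5
    · rw [h5] at h4
      exact absurd h4 (by decide)
  rw [hx1, one_mul]
  rcases Nat.even_or_odd' j with ⟨m, rfl | rfl⟩
  · left; rw [pow_mul, pow_two, d.z_sq, one_pow]
  · right; rw [pow_succ, pow_mul, pow_two, d.z_sq, one_pow, one_mul]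

end Cent

end Cfsg.Agent.SDCyclic
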