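import Mathlib.Algebra.BigOperators.Ring.Finset
import Mathlib.Algebra.Order.BigOperators.Group.Finset
import Mathlib.Algebra.Order.Ring.Int
import Mathlib.Tactic.Ring
import Mathlib.Tactic.Linarith
import Mathlib.Tactic.LinearCombination
import Mathlib.Data.Int.Basic
import Mathlib.Tactic.IntervalCases

/-!
# The combinatorics of the exceptional constituents
-/

set_option autoImplicit false

namespace Cfsg.Agent.SDCyclic

variable {ι : Type*} [Fintype ι] [DecidableEq ι]

/-- The squares over a set of indices are bounded by the norm. -/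
theorem sum_sq_le {f : ι → ℤ} {n : ℤ} (h : ∑ i, f i ^ 2 = n) (s : Finset ι) :
    ∑ i ∈ s, f i ^ 2 ≤ n :=
  h ▸ Finset.sum_le_sum_of_subset_of_nonneg (Finset.subset_univ s) fun i _ _ => sq_nonneg _

/-- An entry outside a set of indices carrying a nonzero inner product. -/
theorem exists_notMem_of_sum_ne {f m : ι → ℤ} {s : Finset ι}
    (h : ∑ i, f i * m i ≠ ∑ i ∈ s, f i * m i) : ∃ i, i ∉ s ∧ f i ≠ 0 ∧ m i ≠ 0 := by
  by_contra hcon
  push Not at hcon
  refine h (Finset.sum_subset (Finset.subset_univ s) fun i _ hi => ?_).symm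
  by_cases h1 : f i = 0
  · rw [h1, zero_mul]
  · rw [hcon i hi h1, mul_zero]

/-- Vanishing outside a set carrying the whole norm. -/
theorem eq_zero_of_sum_sq {f : ι → ℤ} {n : ℤ} (h : ∑ i, f i ^ 2 = n) {s : Finset ι}
    (hs : n ≤ ∑ i ∈ s, f i ^ 2) {i : ι} (hi : i ∉ s) : f i = 0 := by
  have h1 := sum_sq_le h (insert i s)
  rw [Finset.sum_insert hi] at h1
  have h2 : f i ^ 2 ≤ 0 := by linarith
  exact pow_eq_zero_iff two_ne_zero |>.1 (le_antisymm h2 (sq_nonneg _))

theorem sq_one {x : ℤ} (h : x ≠ 0) (h' : x ^ 2 ≤ 1) : x = 1 ∨ x = -1 := by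
  have h1 : -1 ≤ x := by nlinarith
  have h2 : x ≤ 1 := by nlinarith
  omega

/-- A vector of norm two has two entries `± 1`. -/
theorem norm_two {f : ι → ℤ} (h : ∑ i, f i ^ 2 = 2) {p : ι} (hp : f p ≠ 0) :
    (f p = 1 ∨ f p = -1) ∧
      ∃ r, r ≠ p ∧ (f r = 1 ∨ f r = -1) ∧ ∀ i, i ≠ p → i ≠ r → f i = 0 := by
  have h1 : f p ^ 2 ≤ 2 := by simpa using sum_sq_le h {p}
  have hsq : f p ^ 2 = 1 := by
    have h2 : -1 ≤ f p := by nlinarith
    have h3 : f p ≤ 1 := by nlinarith
    interval_cases (f p) <;> simp_all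
  refine ⟨sq_one hp hsq.le, ?_⟩
  obtain ⟨r, hr, hr0⟩ : ∃ r, r ∈ Finset.univ.erase p ∧ f r ≠ 0 := by
    by_contra hcon
    push Not at hcon
    rw [← Finset.add_sum_erase _ _ (Finset.mem_univ p),
      Finset.sum_eq_zero fun i hi => by rw [hcon i hi]; norm_num] at h
    omega
  have hne := (Finset.mem_erase.1 hr).1
  have h4 := sum_sq_le h {p, r}
  rw [Finset.sum_pair hne.symm, hsq] at h4
  refine ⟨r, hne, sq_one hr0 (by linarith), fun i hi hi' => ?_⟩
  refine eq_zero_of_sum_sq h (s := {p, r}) ?_ (by simp [hi, hi'])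
  rw [Finset.sum_pair hne.symm, hsq]
  have : 1 ≤ f r ^ 2 := by
    rcases sq_one hr0 (by linarith) with h5 | h5 <;> rw [h5] <;> norm_num
  linarith

/-- Two vectors of norm two and degree zero with inner product one. -/
theorem pair_shape {m m' w : ι → ℤ} (hw : ∀ i, 0 < w i) (h : ∑ i, m i ^ 2 = 2)
    (h' : ∑ i, m' i ^ 2 = 2) (hi : ∑ i, m i * m' i = 1) (hd : ∑ i, m i * w i = 0)
    (hd' : ∑ i, m' i * w i = 0) :
    ∃ (ε : ℤ) (X Y Y' : ι), (ε = 1 ∨ ε = -1) ∧ X ≠ Y ∧ X ≠ Y' ∧ Y ≠ Y' ∧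
      (∀ i, m i = if i = X then ε else if i = Y then -ε else 0) ∧
      (∀ i, m' i = if i = X then ε else if i = Y' then -ε else 0) ∧
      w Y = w X ∧ w Y' = w X := by
  obtain ⟨p, -, hp1, hp2⟩ := exists_notMem_of_sum_ne (f := m) (m := m') (s := ∅)
    (by rw [hi]; simp)
  obtain ⟨hε, r, hrp, hr, hrest⟩ := norm_two h hp1
  obtain ⟨hε', r', hrp', hr', hrest'⟩ := norm_two h' hp2
  have hsum : ∀ f : ι → ℤ, ∑ i, m i * f i = m p * f p + m r * f r := fun f => by
    rw [← Finset.sum_subset (Finset.subset_univ {p, r}) fun i _ hi' => ?_,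
      Finset.sum_pair hrp.symm]
    simp only [Finset.mem_insert, Finset.mem_singleton, not_or] at hi'
    rw [hrest i hi'.1 hi'.2, zero_mul]
  rw [hsum] at hi hd
  have hd2 : m' p * w p + m' r' * w r' = 0 := by
    rw [← hd', ← Finset.sum_subset (Finset.subset_univ {p, r'}) fun i _ hi' => ?_,
      Finset.sum_pair hrp'.symm]
    simp only [Finset.mem_insert, Finset.mem_singleton, not_or] at hi'
    rw [hrest' i hi'.1 hi'.2, zero_mul]
  have hrr : r ≠ r' := by
    rintro rfl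
    rcases hε with a | a <;> rcases hε' with b | b <;> rcases hr with c | c <;>
      rcases hr' with e | e <;> rw [a, b, c, e] at hi <;> omega
  rw [hrest' r hrp hrr, mul_zero, add_zero] at hi
  have heq : m' p = m p := by
    rcases hε with a | a <;> rcases hε' with b | b <;> rw [a, b] at hi <;> omega
  have hwp := hw p
  have hwr := hw r
  have hwr' := hw r'
  rw [heq] at hd2
  have hr2 : m r = -m p ∧ w r = w p := by
    rcases hε with a | a <;> rcases hr with c | c <;> rw [a, c] at hd ⊢ <;> omega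
  have hr2' : m' r' = -m p ∧ w r' = w p := by
    rcases hε with a | a <;> rcases hr' with c | c <;> rw [a, c] at hd2 ⊢ <;> omega
  refine ⟨m p, p, r, r', hε, hrp.symm, hrp'.symm, hrr, fun i => ?_, fun i => ?_, hr2.2, hr2'.2⟩
  · split_ifs with h1 h2
    · rw [h1]
    · rw [h2, hr2.1]
    · exact hrest i h1 h2
  · split_ifs with h1 h2
    · rw [h1, heq]
    · rw [h2, hr2'.1]
    · exact hrest' i h1 h2

/-- The constituents of `α`, `β` and two of the functions `Ω`. -/
structure Shape (t : ι) (a b u u' : ι → ℤ) where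
  ε : ℤ
  δ : ℤ
  X : ι
  v : ι
  Y : ι
  Y' : ι
  hε : ε = 1 ∨ ε = -1
  hδ : δ = 1 ∨ δ = -1
  distinct : X ≠ t ∧ v ≠ t ∧ Y ≠ t ∧ Y' ≠ t ∧ X ≠ v ∧ X ≠ Y ∧ X ≠ Y' ∧ v ≠ Y ∧ v ≠ Y' ∧ Y ≠ Y'
  ha : ∀ i, a i = if i = t then 1 else if i = X then ε else if i = v then δ else 0
  hu : ∀ i, u i = if i = X then ε else if i = Y then -ε else 0
  hu' : ∀ i, u' i = if i = X then ε else if i = Y' then -ε else 0
  hbX : b X = ε
  hb0 : b t = 0 ∧ b v = 0 ∧ b Y = 0 ∧ b Y' = 0

theorem exists_shape {t : ι} {a b u u' w : ι → ℤ} (hw : ∀ i, 0 < w i) (hwt : w t = 1)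
    (hat : a t = 1) (hbt : b t = 0) (hut : u t = 0) (hut' : u' t = 0)
    (haa : ∑ i, a i ^ 2 = 3) (hbb : ∑ i, b i ^ 2 = 3) (huu : ∑ i, u i ^ 2 = 2)
    (huu' : ∑ i, u' i ^ 2 = 2) (hu12 : ∑ i, u i * u' i = 1) (hab : ∑ i, a i * b i = 1)
    (hau : ∑ i, a i * u i = 1) (hau' : ∑ i, a i * u' i = 1)
    (hbu : ∑ i, b i * u i = 1) (hbu' : ∑ i, b i * u' i = 1)
    (hda : ∑ i, a i * w i = 0) (hdb : ∑ i, b i * w i = 0) (hdu : ∑ i, u i * w i = 0)
    (hdu' : ∑ i, u' i * w i = 0) : Nonempty (Shape t a b u u') := by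
  obtain ⟨ε, X, Y, Y', hε, hXY, hXY', hYY', hu, hu', hwY, hwY'⟩ :=
    pair_shape hw huu huu' hu12 hdu hdu'
  have hε2 : ε * ε = 1 := by rcases hε with h | h <;> subst h <;> norm_num
  have hXt : X ≠ t := fun h => by rw [← h, hu, if_pos rfl] at hut; omega
  have hYt : Y ≠ t := fun h => by rw [← h, hu, if_neg hXY.symm, if_pos rfl] at hut; omega
  have hYt' : Y' ≠ t := fun h => by rw [← h, hu', if_neg hXY'.symm, if_pos rfl] at hut'; omega
  have hin : ∀ (f : ι → ℤ), ∑ i, f i * u i = ε * f X - ε * f Y ∧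
      ∑ i, f i * u' i = ε * f X - ε * f Y' := fun f => by
    constructor
    · rw [← Finset.sum_subset (Finset.subset_univ {X, Y}) fun i _ hi => ?_, Finset.sum_pair hXY,
        hu X, hu Y, if_pos rfl, if_neg hXY.symm, if_pos rfl]
      · ring
      · simp only [Finset.mem_insert, Finset.mem_singleton, not_or] at hi
        rw [hu i, if_neg hi.1, if_neg hi.2, mul_zero]
    · rw [← Finset.sum_subset (Finset.subset_univ {X, Y'}) fun i _ hi => ?_, Finset.sum_pair hXY',
        hu' X, hu' Y', if_pos rfl, if_neg hXY'.symm, if_pos rfl]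
      · ring
      · simp only [Finset.mem_insert, Finset.mem_singleton, not_or] at hi
        rw [hu' i, if_neg hi.1, if_neg hi.2, mul_zero]
  rw [(hin a).1] at hau
  rw [(hin a).2] at hau'
  rw [(hin b).1] at hbu
  rw [(hin b).2] at hbu'
  have haY : a Y = a X - ε := by linear_combination (-ε) * hau + (a X - a Y) * hε2
  have haY' : a Y' = a X - ε := by linear_combination (-ε) * hau' + (a X - a Y') * hε2
  have hbY : b Y = b X - ε := by linear_combination (-ε) * hbu + (b X - b Y) * hε2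
  have hbY' : b Y' = b X - ε := by linear_combination (-ε) * hbu' + (b X - b Y') * hε2
  have h4 := sum_sq_le haa {t, X, Y, Y'}
  rw [Finset.sum_insert (by simp [hXt.symm, hYt.symm, hYt'.symm]),
    Finset.sum_insert (by simp [hXY, hXY']), Finset.sum_pair hYY', hat, haY, haY'] at h4
  have hwX := hw X
  have haX : a X = ε := by
    have hb1 : -1 ≤ a X := by nlinarith
    have hb2 : a X ≤ 1 := by nlinarith
    by_contra hne
    have h0 : a X = 0 := by
      rcases hε with h | h <;> subst h <;> interval_cases (a X) <;> omega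
    rw [h0] at haY haY'
    -- all of the norm is at `t`, `Y` and `Y'`
    have hz : ∀ i, i ∉ ({t, Y, Y'} : Finset ι) → a i = 0 := fun i hi => by
      refine eq_zero_of_sum_sq haa ?_ hi
      rw [Finset.sum_insert (by simp [hYt.symm, hYt'.symm]), Finset.sum_pair hYY', hat, haY, haY']
      linear_combination (le_of_eq (show (3 : ℤ) = 1 ^ 2 + ((0 - ε) ^ 2 + (0 - ε) ^ 2) by
        linear_combination (-2) * hε2))
    rw [← Finset.sum_subset (Finset.subset_univ {t, Y, Y'}) fun i _ hi => by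
        rw [hz i hi, zero_mul],
      Finset.sum_insert (by simp [hYt.symm, hYt'.symm]), Finset.sum_pair hYY', hat, hwt, haY, haY',
      hwY, hwY'] at hda
    rcases hε with h | h <;> subst h <;> omega
  rw [haX, sub_self] at haY haY'
  obtain ⟨v, hvs, hv0⟩ : ∃ v, v ∉ ({t, X} : Finset ι) ∧ a v ≠ 0 := by
    by_contra hcon
    push Not at hcon
    rw [← Finset.sum_subset (Finset.subset_univ {t, X}) fun i _ hi => by
        rw [hcon i hi]; norm_num, Finset.sum_pair hXt.symm, hat, haX, pow_two ε, hε2] at haa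
    norm_num at haa
  simp only [Finset.mem_insert, Finset.mem_singleton, not_or] at hvs
  have hvY : v ≠ Y := fun h => hv0 (h ▸ haY)
  have hvY' : v ≠ Y' := fun h => hv0 (h ▸ haY')
  have h5 := sum_sq_le haa {t, X, v}
  rw [Finset.sum_insert (by simp [hXt.symm, Ne.symm hvs.1]), Finset.sum_pair (Ne.symm hvs.2), hat,
    haX, pow_two ε, hε2] at h5
  have hv : a v = 1 ∨ a v = -1 := sq_one hv0 (by linarith)
  have hv2 : a v * a v = 1 := by rcases hv with h | h <;> rw [h] <;> norm_num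
  have ha : ∀ i, i ≠ t → i ≠ X → i ≠ v → a i = 0 := fun i h1 h2 h3 => by
    refine eq_zero_of_sum_sq haa (s := {t, X, v}) ?_ (by simp [h1, h2, h3])
    rw [Finset.sum_insert (by simp [hXt.symm, Ne.symm hvs.1]), Finset.sum_pair (Ne.symm hvs.2),
      hat, haX, pow_two ε, hε2, pow_two (a v), hv2]
    norm_num
  have hsa : ∀ f : ι → ℤ, ∑ i, a i * f i = f t + ε * f X + a v * f v := fun f => by
    rw [← Finset.sum_subset (Finset.subset_univ {t, X, v}) fun i _ hi => ?_,
      Finset.sum_insert (by simp [hXt.symm, Ne.symm hvs.1]), Finset.sum_pair (Ne.symm hvs.2),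
      hat, haX]
    · ring
    · simp only [Finset.mem_insert, Finset.mem_singleton, not_or] at hi
      rw [ha i hi.1 hi.2.1 hi.2.2, zero_mul]
  rw [hsa, hbt] at hab
  rw [hsa, hwt] at hda
  have hwv := hw v
  have hbX : b X = ε := by
    have h6 := sum_sq_le hbb {X, Y, Y'}
    rw [Finset.sum_insert (by simp [hXY, hXY']), Finset.sum_pair hYY', hbY, hbY'] at h6
    have hb1 : -1 ≤ b X := by nlinarith
    have hb2 : b X ≤ 1 := by nlinarith
    by_contra hne
    have h0 : b X = 0 := by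
      rcases hε with h | h <;> subst h <;> interval_cases (b X) <;> omega
    rw [h0] at hbY hbY' hab
    have hbv : b v = a v := by linear_combination a v * hab - b v * hv2
    have hz : ∀ i, i ∉ ({v, Y, Y'} : Finset ι) → b i = 0 := fun i hi => by
      refine eq_zero_of_sum_sq hbb ?_ hi
      rw [Finset.sum_insert (by simp [hvY, hvY']), Finset.sum_pair hYY', hbv, hbY, hbY']
      exact le_of_eq (by linear_combination (-2) * hε2 - hv2)
    rw [← Finset.sum_subset (Finset.subset_univ {v, Y, Y'}) fun i _ hi => by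
        rw [hz i hi, zero_mul],
      Finset.sum_insert (by simp [hvY, hvY']), Finset.sum_pair hYY', hbv, hbY, hbY', hwY,
      hwY'] at hdb
    rcases hv with h | h <;> rcases hε with h' | h' <;> rw [h] at hdb hda <;> subst h' <;> omega
  rw [hbX, sub_self] at hbY hbY'
  rw [hbX] at hab
  have hbv : b v = 0 := by linear_combination a v * hab - a v * hε2 - b v * hv2
  exact ⟨⟨ε, a v, X, v, Y, Y', hε, hv,
    ⟨hXt, hvs.1, hYt, hYt', Ne.symm hvs.2, hXY, hXY', hvY, hvY', hYY'⟩,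
    fun i => by
      split_ifs with h1 h2 h3
      · rw [h1, hat]
      · rw [h2, haX]
      · rw [h3]
      · exact ha i h1 h2 h3,
    hu, hu', hbX, hbt, hbv, hbY, hbY'⟩⟩

namespace Shape

variable {t : ι} {a b u u' : ι → ℤ} (s : Shape t a b u u')

theorem sum_u (f : ι → ℤ) : ∑ i, f i * u i = s.ε * f s.X - s.ε * f s.Y := by
  obtain ⟨-, -, -, -, -, hXY, -, -, -, -⟩ := s.distinct
  rw [← Finset.sum_subset (Finset.subset_univ {s.X, s.Y}) fun i _ hi => ?_, Finset.sum_pair hXY,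
    s.hu s.X, s.hu s.Y, if_pos rfl, if_neg hXY.symm, if_pos rfl]
  · ring
  · simp only [Finset.mem_insert, Finset.mem_singleton, not_or] at hi
    rw [s.hu i, if_neg hi.1, if_neg hi.2, mul_zero]

theorem sum_u' (f : ι → ℤ) : ∑ i, f i * u' i = s.ε * f s.X - s.ε * f s.Y' := by
  obtain ⟨-, -, -, -, -, -, hXY', -, -, -⟩ := s.distinct
  rw [← Finset.sum_subset (Finset.subset_univ {s.X, s.Y'}) fun i _ hi => ?_,
    Finset.sum_pair hXY', s.hu' s.X, s.hu' s.Y', if_pos rfl, if_neg hXY'.symm, if_pos rfl]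
  · ring
  · simp only [Finset.mem_insert, Finset.mem_singleton, not_or] at hi
    rw [s.hu' i, if_neg hi.1, if_neg hi.2, mul_zero]

theorem sum_a {R : Type*} [CommRing R] (f : ι → R) :
    ∑ i, (a i : R) * f i = f t + (s.ε : R) * f s.X + (s.δ : R) * f s.v := by
  obtain ⟨hXt, hvt, -, -, hXv, -, -, -, -, -⟩ := s.distinct
  rw [← Finset.sum_subset (Finset.subset_univ {t, s.X, s.v}) fun i _ hi => ?_,
    Finset.sum_insert (by simp [hXt.symm, hvt.symm]), Finset.sum_pair hXv, s.ha t, s.ha s.X,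
    s.ha s.v, if_pos rfl, if_neg hXt, if_pos rfl, if_neg hvt, if_neg hXv.symm, if_pos rfl]
  · push_cast
    ring
  · simp only [Finset.mem_insert, Finset.mem_singleton, not_or] at hi
    rw [s.ha i, if_neg hi.1, if_neg hi.2.1, if_neg hi.2.2, Int.cast_zero, zero_mul]

/-- The norm bound for a vector orthogonal to all of them (`F₀`). -/
theorem bound_zero {f : ι → ℤ} (hf : ∑ i, f i ^ 2 = 8) (hft : f t = 1)
    (hfa : ∑ i, f i * a i = 0) (hfb : ∑ i, f i * b i = 0) (hfu : ∑ i, f i * u i = 0)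
    (hfu' : ∑ i, f i * u' i = 0) : s.ε * f s.X = 0 ∨ s.ε * f s.X = -1 := by
  obtain ⟨hXt, hvt, hYt, hYt', hXv, hXY, hXY', hvY, hvY', hYY'⟩ := s.distinct
  have hε2 : s.ε * s.ε = 1 := by rcases s.hε with h | h <;> rw [h] <;> norm_num
  have hδ2 : s.δ * s.δ = 1 := by rcases s.hδ with h | h <;> rw [h] <;> norm_num
  rw [s.sum_u] at hfu
  rw [s.sum_u'] at hfu'
  have hfv : 1 + s.ε * f s.X + s.δ * f s.v = 0 := by
    have h := s.sum_a (R := ℤ) f
    simp only [Int.cast_id] at h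
    rw [hft, Finset.sum_congr rfl fun i _ => mul_comm (a i) (f i), hfa] at h
    exact h.symm
  by_cases h0 : s.ε * f s.X = 0
  · exact Or.inl h0
  refine Or.inr ?_
  obtain ⟨hb1, hb2, hb3, hb4⟩ := s.hb0
  have hne : ∑ i, f i * b i ≠ ∑ i ∈ ({t, s.X, s.v, s.Y, s.Y'} : Finset ι), f i * b i := by
    rw [hfb, Finset.sum_insert (by simp [hXt.symm, hvt.symm, hYt.symm, hYt'.symm]),
      Finset.sum_insert (by simp [hXv, hXY, hXY']), Finset.sum_insert (by simp [hvY, hvY']),
      Finset.sum_pair hYY', hb1, hb2, hb3, hb4, s.hbX, mul_zero, mul_zero, mul_zero, mul_zero,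
      zero_add, zero_add, add_zero, add_zero, mul_comm]
    exact Ne.symm h0
  obtain ⟨i, hi, hfi, -⟩ := exists_notMem_of_sum_ne hne
  have h1 := sum_sq_le hf (insert i {t, s.X, s.v, s.Y, s.Y'})
  rw [Finset.sum_insert hi, Finset.sum_insert (by simp [hXt.symm, hvt.symm, hYt.symm, hYt'.symm]),
    Finset.sum_insert (by simp [hXv, hXY, hXY']), Finset.sum_insert (by simp [hvY, hvY']),
    Finset.sum_pair hYY', hft] at h1
  have h2 : f s.Y = f s.X := by linear_combination (-s.ε) * hfu + (f s.X - f s.Y) * hε2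
  have h3 : f s.Y' = f s.X := by linear_combination (-s.ε) * hfu' + (f s.X - f s.Y') * hε2
  have h4 : f s.v ^ 2 = (1 + s.ε * f s.X) ^ 2 := by
    linear_combination (s.δ * f s.v - 1 - s.ε * f s.X) * hfv - f s.v ^ 2 * hδ2
  have h5 : f s.X ^ 2 = (s.ε * f s.X) ^ 2 := by linear_combination -(f s.X ^ 2) * hε2
  rw [h2, h3, h4, h5] at h1
  have h6 : 1 ≤ f i ^ 2 := by
    rcases lt_or_gt_of_ne hfi with h | h <;> nlinarith
  generalize s.ε * f s.X = E at *
  have hb1' : -1 ≤ E := by nlinarith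
  have hb2' : E ≤ 1 := by nlinarith
  interval_cases E
  · rfl
  · exact absurd rfl h0
  · linarith

/-- The norm bound for `F_U`. -/
theorem bound_U {f : ι → ℤ} {q : ℕ} {η : ℤ} (hη : η = 1 ∨ η = -1)
    (hf : ∑ i, f i ^ 2 = 2 * q) (hft : f t = 0)
    (hfa : ∑ i, f i * a i = 0) (hfu : ∑ i, f i * u i = 2 * η)
    (hfu' : ∑ i, f i * u' i = 2 * η) : 2 * (η * (s.ε * f s.X) - 1) ^ 2 ≤ (q : ℤ) - 2 := by
  obtain ⟨hXt, hvt, hYt, hYt', hXv, hXY, hXY', hvY, hvY', hYY'⟩ := s.distinct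
  have hε2 : s.ε * s.ε = 1 := by rcases s.hε with h | h <;> rw [h] <;> norm_num
  have hδ2 : s.δ * s.δ = 1 := by rcases s.hδ with h | h <;> rw [h] <;> norm_num
  have hη2 : η * η = 1 := by rcases hη with h | h <;> rw [h] <;> norm_num
  rw [s.sum_u] at hfu
  rw [s.sum_u'] at hfu'
  have hfv : s.ε * f s.X + s.δ * f s.v = 0 := by
    have h := s.sum_a (R := ℤ) f
    simp only [Int.cast_id] at h
    rw [hft, Finset.sum_congr rfl fun i _ => mul_comm (a i) (f i), hfa, zero_add] at h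
    exact h.symm
  have h1 := sum_sq_le hf {s.X, s.v, s.Y, s.Y'}
  rw [Finset.sum_insert (by simp [hXv, hXY, hXY']), Finset.sum_insert (by simp [hvY, hvY']),
    Finset.sum_pair hYY'] at h1
  have h2 : f s.Y ^ 2 = (s.ε * f s.X - 2 * η) ^ 2 := by
    linear_combination (s.ε * f s.X - 2 * η + s.ε * f s.Y) * (-hfu) - f s.Y ^ 2 * hε2
  have h3 : f s.Y' ^ 2 = (s.ε * f s.X - 2 * η) ^ 2 := by
    linear_combination (s.ε * f s.X - 2 * η + s.ε * f s.Y') * (-hfu') - f s.Y' ^ 2 * hε2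
  have h4 : f s.v ^ 2 = (s.ε * f s.X) ^ 2 := by
    linear_combination (s.δ * f s.v - s.ε * f s.X) * hfv - f s.v ^ 2 * hδ2
  have h5 : f s.X ^ 2 = (s.ε * f s.X) ^ 2 := by linear_combination -(f s.X ^ 2) * hε2
  rw [h2, h3, h4, h5] at h1
  generalize s.ε * f s.X = E at *
  have e : 2 * E ^ 2 + 2 * (E - 2 * η) ^ 2 = 4 * (η * E - 1) ^ 2 + 4 := by
    linear_combination (8 - 4 * E ^ 2) * hη2
  linarith

end Shape

end Cfsg.Agent.SDCyclic
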