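import Cfsg.Agent.Lib.SDCyclic.Funs
import Cfsg.Agent.Lib.SDCyclic.Combi
import Cfsg.Agent.Lib.Char.KernelSum

/-!
# The exceptional constituents

`alpha = 1 + ε X + δ v`; the signed multiplicities `E` and `D` of `X` in `F0` and `FU` satisfy
`E ∈ {0, -1}` and `2 (η D - 1) ^ 2 ≤ q - 2`.
-/

set_option autoImplicit false
set_option linter.style.haveILetI false
set_option linter.unusedSectionVars false

namespace Cfsg.Agent.SDCyclic

open Cfsg
open scoped ComplexConjugate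

universe u

theorem I_pow_four : (Complex.I) ^ 4 = 1 := by
  rw [show 4 = 2 * 2 from rfl, pow_mul, Complex.I_sq]
  norm_num

theorem I_ne_one : Complex.I ≠ 1 := fun h => by simpa using congrArg Complex.im h

theorem I_ne_neg_one : Complex.I ≠ -1 := fun h => by simpa using congrArg Complex.im h

theorem I_ne_neg_I : Complex.I ≠ -Complex.I := fun h => by
  have := congrArg Complex.im h
  norm_num at this

variable {G : Type u} [Group G] [Fintype G] {z : G} {q : ℕ} {η : ℤ} {l g o : ℕ}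

namespace Cent

variable (d : Cent z q η l g o)
include d

/-- The exceptional function with multiplicity one at the trivial character. -/
noncomputable def alpha : G → ℂ := d.PhiW 1 Complex.I

/-- The companion of `alpha` orthogonal to the trivial character. -/
noncomputable def beta : G → ℂ := d.PhiW (-1) Complex.I

/-- The exceptional functions of norm two. -/
noncomputable def Om (ξ ω : ℂ) : G → ℂ := d.FU ξ - d.PhiW Complex.I ω

/-- The auxiliary function of norm eight. -/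
noncomputable def F0 (ξ : ℂ) : G → ℂ := d.GB - (2 : ℂ) • d.FU ξ

theorem four_dvd_pow : 4 ∣ 2 ^ (l + 1) :=
  dvd_trans (by norm_num : 4 ∣ 2 ^ 2) (pow_dvd_pow 2 (by have := d.hl; omega))

theorem rootW_one : d.RootW 1 := one_pow _

theorem rootW_neg_one : d.RootW (-1) := by
  obtain ⟨m, hm⟩ := d.four_dvd_pow
  show (-1 : ℂ) ^ 2 ^ (l + 1) = 1
  rw [hm, pow_mul]; norm_num

theorem rootW_I : d.RootW Complex.I := by
  obtain ⟨m, hm⟩ := d.four_dvd_pow
  show Complex.I ^ 2 ^ (l + 1) = 1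
  rw [hm, pow_mul, I_pow_four, one_pow]

theorem one_pow_r : (1 : ℂ) ^ (d.W - 1) = 1 := one_pow _

theorem neg_one_pow_r : (-1 : ℂ) ^ (d.W - 1) = -1 := by
  obtain ⟨m, hm⟩ := d.four_dvd_W
  have := d.W_pos
  rw [hm, Odd.neg_one_pow]
  exact ⟨2 * m - 1, by omega⟩

theorem I_pow_W : Complex.I ^ d.W = 1 := by
  obtain ⟨m, hm⟩ := d.four_dvd_W
  rw [hm, pow_mul, I_pow_four, one_pow]

theorem pow_W_sub_one {x : ℂ} (hx : x ≠ 0) : x ^ (d.W - 1) = x ^ d.W * x⁻¹ := by
  rw [← pow_sub_one_mul d.W_pos.ne' x, mul_inv_cancel_right₀ hx]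

theorem I_pow_r : Complex.I ^ (d.W - 1) = -Complex.I := by
  rw [d.pow_W_sub_one Complex.I_ne_zero, d.I_pow_W, one_mul, Complex.inv_I]

variable {ω : ℂ} (hω : IsPrimitiveRoot ω (2 ^ (l + 1)))
include hω

theorem root_pow_four : ω ^ 4 ≠ 1 := by
  refine hω.pow_ne_one_of_pos_of_lt (by norm_num) ?_
  calc 4 < 2 ^ 3 := by norm_num
    _ ≤ 2 ^ (l + 1) := Nat.pow_le_pow_right two_pos (by have := d.hl; omega)

theorem root_ne_zero : ω ≠ 0 := hω.ne_zero (by positivity)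

theorem root_pow_W : ω ^ d.W = -1 := by
  rw [Cent.W, pow_mul]
  have h : IsPrimitiveRoot (ω ^ 2 ^ l) 2 := hω.pow (by positivity) (by rw [pow_succ])
  rw [h.eq_neg_one_of_two_right, d.ho.neg_one_pow]

theorem root_pow_r : ω ^ (d.W - 1) = -ω⁻¹ := by
  rw [d.pow_W_sub_one (d.root_ne_zero hω), d.root_pow_W hω, neg_one_mul]

theorem root_ne_fourth {x : ℂ} (hx : x ^ 4 = 1) : ω ≠ x ∧ x ≠ ω ∧ x ≠ -ω⁻¹ ∧ -ω⁻¹ ≠ x := by
  have h1 : ω ≠ x := fun h => d.root_pow_four hω (h ▸ hx)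
  have h2 : x ≠ -ω⁻¹ := by
    intro h
    refine d.root_pow_four hω ?_
    have h3 : ω = -x⁻¹ := by rw [h, inv_neg, inv_inv, neg_neg]
    rw [h3, neg_pow, inv_pow, hx]
    norm_num
  exact ⟨h1, h1.symm, h2, h2.symm⟩

theorem root_ne_neg_inv : ω ≠ -ω⁻¹ := by
  intro h
  refine d.root_pow_four hω ?_
  have h2 : ω * ω = -1 := by
    nth_rw 2 [h]
    rw [mul_neg, mul_inv_cancel₀ (d.root_ne_zero hω)]
  linear_combination (ω * ω - 1) * h2

theorem inner_alpha : classInner d.alpha d.alpha = 3 := by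
  rw [alpha, d.inner_PhiW d.rootW_one d.rootW_I d.rootW_one d.rootW_I, d.I_pow_W,
    d.I_pow_r]
  simp only [one_pow]
  rw [sub_self, zero_mul, mul_zero]
  simp [I_ne_one, I_ne_one.symm, I_ne_neg_I,
    show (1 : ℂ) ≠ -Complex.I from fun h => I_ne_neg_one (by linear_combination h)]
  norm_num

theorem inner_beta : classInner d.beta d.beta = 3 := by
  rw [beta, d.inner_PhiW d.rootW_neg_one d.rootW_I d.rootW_neg_one d.rootW_I, d.I_pow_W,
    d.I_pow_r, d.neg_one_pow_r,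
    show (-1 : ℂ) ^ d.W = 1 by obtain ⟨m, hm⟩ := d.four_dvd_W; rw [hm, pow_mul]; norm_num,
    sub_self, zero_mul, mul_zero]
  simp [I_ne_neg_one, I_ne_neg_one.symm, I_ne_neg_I,
    show (-1 : ℂ) ≠ -Complex.I from fun h => I_ne_one (by linear_combination h)]
  norm_num

theorem inner_alpha_beta : classInner d.alpha d.beta = 1 := by
  rw [alpha, beta, d.inner_PhiW d.rootW_one d.rootW_I d.rootW_neg_one d.rootW_I, d.I_pow_W,
    d.I_pow_r, d.neg_one_pow_r, one_pow, sub_self, zero_mul, mul_zero]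
  simp [I_ne_one, I_ne_one.symm, I_ne_neg_one, I_ne_neg_I,
    show (1 : ℂ) ≠ -1 by norm_num,
    show (1 : ℂ) ≠ -Complex.I from fun h => I_ne_neg_one (by linear_combination h)]

theorem W_eq : (d.W : ℂ) = 2 * q - 2 * g := by
  have h1 := d.W_cast
  have h2 := d.hqm
  exact_mod_cast (show (d.W : ℤ) = 2 * q - 2 * g by omega)

theorem eta_eq : (η : ℂ) = q - 2 * g := by
  have h2 := d.hqm
  have h3 : η = (q : ℤ) - 2 * g := by omega
  rw [h3]
  push_cast
  ring

theorem eta_sq : ((q : ℂ) - 2 * g) ^ 2 = 1 := by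
  rw [← d.eta_eq hω]
  rcases d.hη with h | h <;> subst h <;> norm_num

theorem rootW_of (hω' : IsPrimitiveRoot ω (2 ^ (l + 1))) : d.RootW ω := hω'.pow_eq_one

variable {ξ : ℂ} (hξ : IsPrimitiveRoot ξ q)
include hξ

theorem inner_PhiW_I {x : ℂ} (hx : d.RootW x) (hx4 : x ^ 4 = 1) (hxI : x ≠ Complex.I)
    (hxI' : x ≠ -Complex.I) (hxW : x ^ d.W = 1) :
    classInner (d.PhiW x Complex.I) (d.Om ξ ω) = 1 := by
  obtain ⟨-, a2, a3, -⟩ := d.root_ne_fourth hω hx4
  obtain ⟨-, b2, b3, -⟩ := d.root_ne_fourth hω I_pow_four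
  rw [Om, Char.classInner_sub_right, d.inner_PhiW_FU hξ hx d.rootW_I,
    d.inner_PhiW hx d.rootW_I d.rootW_I (d.rootW_of hω hω), hxW, d.I_pow_W, d.I_pow_r,
    d.root_pow_r hω]
  simp [hxI, hxI', a2, a3, b2, b3, I_ne_neg_I]

theorem inner_Om {ω' : ℂ} (hω'W : d.RootW ω') (h1 : ω' ^ d.W = -1)
    (h2 : ω' ^ (d.W - 1) = -ω'⁻¹) (h4 : Complex.I ≠ ω' ∧ Complex.I ≠ -ω'⁻¹)
    (hne : ω ≠ -ω'⁻¹) :
    classInner (d.Om ξ ω) (d.Om ξ ω') = if ω = ω' then 2 else 1 := by
  obtain ⟨b1, -, -, -⟩ := d.root_ne_fourth hω I_pow_four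
  obtain ⟨c1, -, -, -⟩ := d.root_ne_fourth hω (x := -Complex.I) (by rw [neg_pow, I_pow_four]; norm_num)
  rw [Om, Om, Char.classInner_sub_left, Char.classInner_sub_right, Char.classInner_sub_right,
    d.inner_FU hξ, d.inner_PhiW_FU hξ d.rootW_I (d.rootW_of hω hω),
    ← Char.conj_classInner (d.PhiW Complex.I ω') (d.FU ξ),
    d.inner_PhiW_FU hξ d.rootW_I hω'W,
    d.inner_PhiW d.rootW_I (d.rootW_of hω hω) d.rootW_I hω'W, d.I_pow_W, d.root_pow_W hω, h1,
    d.I_pow_r, h2]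
  simp only [if_true, if_neg h4.1, if_neg h4.2, if_neg b1, if_neg c1, if_neg hne,
    if_neg I_ne_neg_I, map_mul, map_sub, map_neg, map_one, map_natCast,
    show conj (2 : ℂ) = 2 from map_ofNat _ 2]
  have hW := d.W_eq hω
  have hη := d.eta_sq hω
  have hW0 : ((d.W : ℕ) : ℂ) ≠ 0 := Nat.cast_ne_zero.2 d.W_pos.ne'
  generalize d.W = W at *
  push_cast
  split_ifs <;> field_simp <;> rw [hW] <;> linear_combination 4 * hη

theorem inner_F0 : classInner (d.F0 ξ) (d.F0 ξ) = 8 := by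
  rw [F0, Char.classInner_sub_left, Char.classInner_sub_right, Char.classInner_sub_right,
    Char.classInner_smul_left, Char.classInner_smul_left, Char.classInner_smul_right,
    Char.classInner_smul_right, ← Char.conj_classInner (d.FU ξ) d.GB, d.inner_GB, d.inner_FU hξ,
    d.inner_FU_GB hξ]
  simp only [map_mul, map_natCast, show conj (2 : ℂ) = 2 from map_ofNat _ 2,
    show conj (4 : ℂ) = 4 from map_ofNat _ 4]
  have hW := d.W_eq hω
  have hη := d.eta_sq hω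
  have hg0 : (g : ℂ) ≠ 0 := Nat.cast_ne_zero.2 d.g_pos.ne'
  generalize d.W = W at *
  push_cast
  field_simp
  rw [hW]
  linear_combination 16 * hη

theorem inner_F0_PhiW {x : ℂ} (hx : d.RootW x) (hxW : x ^ d.W = 1) :
    classInner (d.PhiW x Complex.I) (d.F0 ξ) = 0 := by
  rw [F0, Char.classInner_sub_right, Char.classInner_smul_right, d.inner_PhiW_GB hx d.rootW_I,
    d.inner_PhiW_FU hξ hx d.rootW_I, hxW, d.I_pow_W]
  simp

theorem inner_F0_Om {ω' : ℂ} (hω'W : d.RootW ω') (h1 : ω' ^ d.W = -1) :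
    classInner (d.Om ξ ω') (d.F0 ξ) = 0 := by
  rw [Om, F0, Char.classInner_sub_left, Char.classInner_sub_right, Char.classInner_sub_right,
    Char.classInner_smul_right, Char.classInner_smul_right, d.inner_FU_GB hξ, d.inner_FU hξ,
    d.inner_PhiW_GB d.rootW_I hω'W, d.inner_PhiW_FU hξ d.rootW_I hω'W, d.I_pow_W, h1,
    show conj (2 : ℂ) = 2 from map_ofNat _ 2]
  have hW := d.W_eq hω
  generalize d.W = W at *
  rw [hW]
  ring

theorem inner_Om_FU {ω' : ℂ} (hω'W : d.RootW ω') (h1 : ω' ^ d.W = -1) :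
    classInner (d.Om ξ ω') (d.FU ξ) = 2 * (η : ℂ) := by
  rw [Om, Char.classInner_sub_left, d.inner_FU hξ, d.inner_PhiW_FU hξ d.rootW_I hω'W, d.I_pow_W,
    h1, d.eta_eq hω]
  ring

end Cent

/-- The exceptional constituents and their bounded multiplicities. -/
structure Exceptional (d : Cent z q η l g o) (ξ : ℂ) where
  ε : ℤ
  δ : ℤ
  E : ℤ
  D : ℤ
  X : IrrCharacter G
  v : IrrCharacter G
  hε : ε = 1 ∨ ε = -1
  hδ : δ = 1 ∨ δ = -1
  hX : X ≠ Char.trivialChar G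
  hv : v ≠ Char.trivialChar G
  hXv : X ≠ v
  decomp : ∀ x, d.alpha x = 1 + (ε : ℂ) * X.1 x + (δ : ℂ) * v.1 x
  inner_sum : ∀ f : IrrCharacter G → ℂ, ∑ χ, classInner d.alpha χ.1 * f χ =
    f (Char.trivialChar G) + (ε : ℂ) * f X + (δ : ℂ) * f v
  inner_X : classInner d.alpha X.1 = ε
  inner_FU : classInner (d.FU ξ) X.1 = ε * D
  inner_F0 : classInner (d.F0 ξ) X.1 = ε * E
  hE : E = 0 ∨ E = -1
  hD : 2 * (η * D - 1) ^ 2 ≤ (q : ℤ) - 2

theorem isGeneralized_ind {L : Subgroup G} {a : G} {n : ℕ} (c : CycOver L a n) {x y : ℂ}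
    (hx : x ^ n = 1) (hy : y ^ n = 1) :
    IsGeneralizedCharacter G (indFun (cyc L a) (c.wt fun i => x ^ i - y ^ i)) :=
  Char.isGeneralizedCharacter_indFun _
    ⟨fun k => c.lam hx k, fun k => c.lam hy k,
      Char.IsIrrCharacter.isCharacter (Char.isIrrCharacter_of_monoidHom _),
      Char.IsIrrCharacter.isCharacter (Char.isIrrCharacter_of_monoidHom _), rfl⟩

theorem ind_apply_one {L : Subgroup G} {a : G} {n : ℕ} (c : CycOver L a n) {x y : ℂ}
    (hx : x ^ n = 1) (hy : y ^ n = 1) :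
    indFun (cyc L a) (c.wt fun i => x ^ i - y ^ i) 1 = 0 := by
  rw [Char.indFun_apply_one, c.wt_apply (periodic_pow_sub hx hy) L.one_mem (j := 0) (by simp)]
  simp

theorem exists_exceptional (d : Cent z q η l g o) {ξ : ℂ} (hξ : IsPrimitiveRoot ξ q) :
    Nonempty (Exceptional d ξ) := by
  classical
  obtain ⟨ω, hω⟩ : ∃ ω : ℂ, IsPrimitiveRoot ω (2 ^ (l + 1)) :=
    ⟨_, Complex.isPrimitiveRoot_exp (2 ^ (l + 1)) (pow_ne_zero _ two_ne_zero)⟩
  have hω' : IsPrimitiveRoot ω⁻¹ (2 ^ (l + 1)) := hω.inv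
  have r1 := d.rootW_one
  have rm := d.rootW_neg_one
  have rI := d.rootW_I
  have rω := d.rootW_of hω hω
  have rω' := d.rootW_of hω' hω'
  have hxU : (ξ : ℂ) ^ (2 * q) = 1 := by rw [mul_comm, pow_mul, hξ.pow_eq_one, one_pow]
  have hxU' : (-ξ) ^ (2 * q) = 1 := by
    rw [pow_mul, neg_sq, ← pow_mul, hxU]
  have gW : ∀ {x y : ℂ}, d.RootW x → d.RootW y → IsGeneralizedCharacter G (d.PhiW x y) :=
    fun hx hy => isGeneralized_ind d.cwW (Cent.RootW.pow_two_W d hx) (Cent.RootW.pow_two_W d hy)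
  have gU : IsGeneralizedCharacter G (d.FU ξ) := isGeneralized_ind d.cu hxU hxU'
  have gB : IsGeneralizedCharacter G d.GB :=
    isGeneralized_ind d.cg (one_pow _) (by rw [pow_mul]; norm_num)
  have oW : ∀ {x y : ℂ}, d.RootW x → d.RootW y → d.PhiW x y 1 = 0 :=
    fun hx hy => ind_apply_one d.cwW (Cent.RootW.pow_two_W d hx) (Cent.RootW.pow_two_W d hy)
  have oU : d.FU ξ 1 = 0 := ind_apply_one d.cu hxU hxU'
  have gOm : ∀ {w : ℂ}, d.RootW w → IsGeneralizedCharacter G (d.Om ξ w) :=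
    fun hw => Char.IsGeneralizedCharacter.sub gU (gW rI hw)
  have gF : IsGeneralizedCharacter G (d.F0 ξ) := by
    refine Char.IsGeneralizedCharacter.sub gB ?_
    simpa using Char.IsGeneralizedCharacter.intCast_smul gU 2
  obtain ⟨a, ha, ha'⟩ := Char.IsGeneralizedCharacter.exists_decomp (gW r1 rI)
  obtain ⟨b, hb, hb'⟩ := Char.IsGeneralizedCharacter.exists_decomp (gW rm rI)
  obtain ⟨u₁, hu, hu'⟩ := Char.IsGeneralizedCharacter.exists_decomp (gOm rω)
  obtain ⟨u₂, hv, hv'⟩ := Char.IsGeneralizedCharacter.exists_decomp (gOm rω')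
  obtain ⟨f₀, hf, hf'⟩ := Char.IsGeneralizedCharacter.exists_decomp gF
  obtain ⟨fU, hh, hh'⟩ := Char.IsGeneralizedCharacter.exists_decomp gU
  have dot : ∀ {Φ Ψ : G → ℂ} {m m' : IrrCharacter G → ℤ}, Φ = ∑ χ, (m χ : ℂ) • χ.1 →
      (∀ χ, classInner Ψ χ.1 = m' χ) → classInner Ψ Φ = ((∑ χ, m' χ * m χ : ℤ) : ℂ) := by
    intro Φ Ψ m m' h1 h2
    rw [h1, Char.classInner_sum_right, Int.cast_sum]
    refine Finset.sum_congr rfl fun χ _ => ?_
    rw [Char.classInner_smul_right, h2, map_intCast]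
    push_cast
    ring
  have deg : ∀ {Φ : G → ℂ} {m : IrrCharacter G → ℤ}, Φ = ∑ χ, (m χ : ℂ) • χ.1 → Φ 1 = 0 →
      ∑ χ, m χ * (charDegree χ.1 : ℤ) = 0 := by
    intro Φ m h1 h2
    rw [h1, Finset.sum_apply] at h2
    simp only [Pi.smul_apply, smul_eq_mul, ← Char.charDegree_cast] at h2
    exact_mod_cast h2
  set t := Char.trivialChar G with ht
  have htfun : t.1 = fun _ => 1 := funext fun x => Char.trivialChar_apply x
  have sq : ∀ m : IrrCharacter G → ℤ, ∑ χ, m χ ^ 2 = ∑ χ, m χ * m χ := fun m =>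
    Finset.sum_congr rfl fun χ _ => pow_two _
  have hat : a t = 1 := by
    have h := ha' t
    rw [htfun, d.inner_PhiW_one r1 rI, if_pos rfl, if_neg I_ne_one, sub_zero] at h
    exact_mod_cast h.symm
  have hbt : b t = 0 := by
    have h := hb' t
    rw [htfun, d.inner_PhiW_one rm rI, if_neg (by norm_num), if_neg I_ne_one, sub_zero] at h
    exact_mod_cast h.symm
  have hu1 : ∀ {w : ℂ}, IsPrimitiveRoot w (2 ^ (l + 1)) → classInner (d.Om ξ w) t.1 = 0 := by
    intro w hw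
    rw [htfun, Cent.Om, Char.classInner_sub_left, d.inner_FU_one hξ,
      d.inner_PhiW_one rI (d.rootW_of hw hw), if_neg I_ne_one,
      if_neg (d.root_ne_fourth hw (one_pow 4)).1]
    simp
  have hut : u₁ t = 0 := by exact_mod_cast (hu' t).symm.trans (hu1 hω)
  have hut' : u₂ t = 0 := by exact_mod_cast (hv' t).symm.trans (hu1 hω')
  have hm1 : (-1 : ℂ) ^ d.W = 1 := by
    obtain ⟨m, hm⟩ := d.four_dvd_W
    rw [hm, pow_mul]; norm_num
  have hIω : ∀ {w : ℂ}, IsPrimitiveRoot w (2 ^ (l + 1)) →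
      Complex.I ≠ w ∧ Complex.I ≠ -w⁻¹ := fun hw =>
    ⟨(d.root_ne_fourth hw I_pow_four).2.1, (d.root_ne_fourth hw I_pow_four).2.2.1⟩
  have hnm : Complex.I ≠ -1 := I_ne_neg_one
  have haa : ∑ χ, a χ ^ 2 = 3 := by
    rw [sq]; exact_mod_cast (dot ha ha').symm.trans (d.inner_alpha hω)
  have hbb : ∑ χ, b χ ^ 2 = 3 := by
    rw [sq]; exact_mod_cast (dot hb hb').symm.trans (d.inner_beta hω)
  have hab : ∑ χ, a χ * b χ = 1 := by
    exact_mod_cast (dot hb ha').symm.trans (d.inner_alpha_beta hω)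
  have hOO : ∀ {w : ℂ}, IsPrimitiveRoot w (2 ^ (l + 1)) →
      classInner (d.Om ξ w) (d.Om ξ w) = 2 := fun {w} hw => by
    rw [d.inner_Om hw hξ (d.rootW_of hw hw) (d.root_pow_W hw) (d.root_pow_r hw) (hIω hw)
      (d.root_ne_neg_inv hw), if_pos rfl]
  have huu : ∑ χ, u₁ χ ^ 2 = 2 := by
    rw [sq]; exact_mod_cast (dot hu hu').symm.trans (hOO hω)
  have huu' : ∑ χ, u₂ χ ^ 2 = 2 := by
    rw [sq]; exact_mod_cast (dot hv hv').symm.trans (hOO hω')
  have hωne : ω ≠ -ω⁻¹⁻¹ := by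
    rw [inv_inv]
    intro h
    exact d.root_ne_zero hω (by linear_combination h / 2)
  have hωne' : ω ≠ ω⁻¹ := by
    intro h
    refine d.root_pow_four hω ?_
    have h2 : ω * ω = 1 := by
      nth_rw 2 [h]
      exact mul_inv_cancel₀ (d.root_ne_zero hω)
    linear_combination (ω * ω + 1) * h2
  have hu12 : ∑ χ, u₁ χ * u₂ χ = 1 := by
    have h := (dot hv hu').symm.trans (d.inner_Om hω hξ rω' (d.root_pow_W hω') (d.root_pow_r hω')
      (hIω hω') hωne)
    rw [if_neg hωne'] at h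
    exact_mod_cast h
  have hxI : (1 : ℂ) ≠ -Complex.I := fun h => hnm (by linear_combination h)
  have hxI' : (-1 : ℂ) ≠ -Complex.I := fun h => I_ne_one (by linear_combination h)
  have h14 : (-1 : ℂ) ^ 4 = 1 := by norm_num
  have hau : ∑ χ, a χ * u₁ χ = 1 := by
    exact_mod_cast (dot hu ha').symm.trans
      (d.inner_PhiW_I hω hξ r1 (one_pow 4) I_ne_one.symm hxI (one_pow _))
  have hau' : ∑ χ, a χ * u₂ χ = 1 := by
    exact_mod_cast (dot hv ha').symm.trans
      (d.inner_PhiW_I hω' hξ r1 (one_pow 4) I_ne_one.symm hxI (one_pow _))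
  have hbu : ∑ χ, b χ * u₁ χ = 1 := by
    exact_mod_cast (dot hu hb').symm.trans
      (d.inner_PhiW_I hω hξ rm h14 I_ne_neg_one.symm hxI' hm1)
  have hbu' : ∑ χ, b χ * u₂ χ = 1 := by
    exact_mod_cast (dot hv hb').symm.trans
      (d.inner_PhiW_I hω' hξ rm h14 I_ne_neg_one.symm hxI' hm1)
  have oOm : ∀ {w : ℂ}, d.RootW w → d.Om ξ w 1 = 0 := fun hw => by
    rw [Cent.Om, Pi.sub_apply, oU, oW rI hw, sub_zero]
  have hwt : (charDegree t.1 : ℤ) = 1 := by
    have : (charDegree t.1 : ℂ) = 1 := by rw [Char.charDegree_cast, htfun]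
    exact_mod_cast this
  obtain ⟨s⟩ := exists_shape (w := fun χ : IrrCharacter G => (charDegree χ.1 : ℤ))
    (fun χ => by exact_mod_cast Char.charDegree_pos χ) hwt hat hbt hut hut' haa hbb huu huu' hu12
    hab hau hau' hbu hbu' (deg ha (oW r1 rI)) (deg hb (oW rm rI)) (deg hu (oOm rω))
    (deg hv (oOm rω'))
  have sw : ∀ m m' : IrrCharacter G → ℤ, ∑ χ, m χ * m' χ = ∑ χ, m' χ * m χ := fun m m' =>
    Finset.sum_congr rfl fun χ _ => mul_comm _ _
  have hE : s.ε * f₀ s.X = 0 ∨ s.ε * f₀ s.X = -1 := by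
    refine s.bound_zero ?_ ?_ ?_ ?_ ?_ ?_
    · rw [sq]; exact_mod_cast (dot hf hf').symm.trans (d.inner_F0 hω hξ)
    · have h := hf' t
      rw [htfun, Cent.F0, Char.classInner_sub_left, Char.classInner_smul_left, d.inner_GB_one,
        d.inner_FU_one hξ, mul_zero, sub_zero] at h
      exact_mod_cast h.symm
    · rw [sw]; exact_mod_cast (dot hf ha').symm.trans (d.inner_F0_PhiW hω hξ r1 (one_pow _))
    · rw [sw]; exact_mod_cast (dot hf hb').symm.trans (d.inner_F0_PhiW hω hξ rm hm1)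
    · rw [sw]; exact_mod_cast (dot hf hu').symm.trans (d.inner_F0_Om hω hξ rω (d.root_pow_W hω))
    · rw [sw]
      exact_mod_cast (dot hf hv').symm.trans (d.inner_F0_Om hω hξ rω' (d.root_pow_W hω'))
  have hD : 2 * (η * (s.ε * fU s.X) - 1) ^ 2 ≤ (q : ℤ) - 2 := by
    refine s.bound_U d.hη ?_ ?_ ?_ ?_ ?_
    · rw [sq]; exact_mod_cast (dot hh hh').symm.trans (d.inner_FU hξ)
    · have h := hh' t
      rw [htfun, d.inner_FU_one hξ] at h
      exact_mod_cast h.symm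
    · rw [sw]
      have h := (dot hh ha').symm.trans (d.inner_PhiW_FU hξ r1 rI)
      rw [one_pow, d.I_pow_W, sub_self, mul_zero] at h
      exact_mod_cast h
    · rw [sw]
      exact_mod_cast (dot hh hu').symm.trans (d.inner_Om_FU hω hξ rω (d.root_pow_W hω))
    · rw [sw]
      exact_mod_cast (dot hh hv').symm.trans (d.inner_Om_FU hω hξ rω' (d.root_pow_W hω'))
  have hε2 : (s.ε : ℂ) * s.ε = 1 := by rcases s.hε with h | h <;> rw [h] <;> norm_num
  have hsum : ∀ f : IrrCharacter G → ℂ, ∑ χ, classInner d.alpha χ.1 * f χ =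
      f t + (s.ε : ℂ) * f s.X + (s.δ : ℂ) * f s.v := fun f => by
    rw [← s.sum_a f]
    exact Finset.sum_congr rfl fun χ _ => by rw [Cent.alpha, ha' χ]
  refine ⟨⟨s.ε, s.δ, s.ε * f₀ s.X, s.ε * fU s.X, s.X, s.v, s.hε, s.hδ, s.distinct.1,
    s.distinct.2.1, s.distinct.2.2.2.2.1, fun x => ?_, hsum, ?_, ?_, ?_, hE, hD⟩⟩
  · have h := congrFun ha x
    rw [Finset.sum_apply] at h
    simp only [Pi.smul_apply, smul_eq_mul] at h
    rw [Cent.alpha, h, s.sum_a fun χ => χ.1 x, htfun]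
  · rw [Cent.alpha, ha' s.X, s.ha s.X, if_neg s.distinct.1, if_pos rfl]
  · rw [hh' s.X]; push_cast; rw [← mul_assoc, hε2, one_mul]
  · rw [hf' s.X]; push_cast; rw [← mul_assoc, hε2, one_mul]

end Cfsg.Agent.SDCyclic
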