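import Cfsg.Agent.Lib.SDCyclic.PGLShape
import Cfsg.Agent.Lib.PSL2.Basic
import Mathlib.GroupTheory.SpecificGroups.ZGroup
import Mathlib.GroupTheory.Transfer
import Mathlib.GroupTheory.Solvable

/-!
# The odd kernel of a cover of `PGL₂(q)` is coprime to the order of `PGL₂(q)`

All odd Sylow subgroups cyclic and `5 ≤ q`: the perfect residual centralizes the kernel, so a
common prime would give a perfect group a central element in a cyclic Sylow subgroup.
-/

set_option autoImplicit false
set_option linter.style.haveILetI false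
set_option linter.unusedSectionVars false

namespace Cfsg.Agent.SDCyclic

open scoped MatrixGroups commutatorElement

theorem mulAut_comm_of_cyclic {A : Type*} [Group A] [IsCyclic A] (φ ψ : MulAut A) :
    φ * ψ = ψ * φ :=
  (IsCyclic.mulAutMulEquiv (G := A)).injective (by rw [map_mul, map_mul, mul_comm])

variable {C : Type*} [Group C] [Finite C]

theorem commutator_le_ker {A : Type*} [Group A] (χ : C →* A) (h : ∀ a b : C, χ a * χ b = χ b * χ a) :
    commutator C ≤ χ.ker := by
  rw [_root_.commutator_def, Subgroup.commutator_le]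
  intro a _ b _
  rw [MonoidHom.mem_ker, map_commutatorElement, commutatorElement_eq_one_iff_mul_comm]
  exact h a b

/-- A perfect subgroup centralizes a normal `Z`-group. -/
theorem le_centralizer_of_perfect (E K : Subgroup C) [K.Normal] [IsZGroup K] (hE : ⁅E, E⁆ = E) :
    E ≤ Subgroup.centralizer (K : Set C) := by
  have hEc : E ≤ commutator C := by
    rw [← hE, _root_.commutator_def]; exact Subgroup.commutator_mono le_top le_top
  -- the derived subgroup of `K`
  set K' : Subgroup C := (commutator K).map K.subtype with hK'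
  haveI : K'.Normal := by
    rw [hK']
    exact ConjAct.normal_of_characteristic_of_normal
  haveI : IsCyclic (commutator K) := IsZGroup.isCyclic_commutator K
  haveI : IsCyclic K' :=
    ((commutator K).equivMapOfInjective _ K.subtype_injective).isCyclic.1 inferInstance
  have h1 : ⁅E, K'⁆ = ⊥ := by
    rw [Subgroup.commutator_eq_bot_iff_le_centralizer]
    intro e he
    rw [Subgroup.mem_centralizer_iff]
    intro k hk
    have hker := commutator_le_ker (MulAut.conjNormal (H := K'))
      (fun _ _ => mulAut_comm_of_cyclic _ _) (hEc he)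
    have h3 : e * k * e⁻¹ = k := by
      rw [show e * k * e⁻¹ = ((MulAut.conjNormal e ⟨k, hk⟩ : K') : C) from
        (MulAut.conjNormal_apply e ⟨k, hk⟩).symm, MonoidHom.mem_ker.1 hker, MulAut.one_apply]
    exact (mul_inv_eq_iff_eq_mul.1 h3).symm
  -- the action on `K / K'`
  let ab : MulAut K →* MulAut (Abelianization K) :=
    MonoidHom.mk' (fun φ => MulEquiv.abelianizationCongr φ) (fun φ ψ => by
      refine MulEquiv.ext fun v => ?_
      obtain ⟨k, rfl⟩ := QuotientGroup.mk'_surjective (commutator K) v
      rfl)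
  have h2 : ⁅E, K⁆ ≤ K' := by
    rw [Subgroup.commutator_le]
    intro e he k hk
    have hker := commutator_le_ker (ab.comp (MulAut.conjNormal (H := K)))
      (fun _ _ => mulAut_comm_of_cyclic _ _) (hEc he)
    have h3 : Abelianization.of (MulAut.conjNormal e ⟨k, hk⟩) = Abelianization.of (⟨k, hk⟩ : K) :=
      DFunLike.congr_fun (MonoidHom.mem_ker.1 hker) (Abelianization.of (⟨k, hk⟩ : K))
    refine ⟨MulAut.conjNormal e ⟨k, hk⟩ * (⟨k, hk⟩ : K)⁻¹, ?_, ?_⟩
    · rw [SetLike.mem_coe, ← Abelianization.ker_of, MonoidHom.mem_ker, map_mul, map_inv, h3,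
        mul_inv_cancel]
    · rw [map_mul, map_inv, Subgroup.subtype_apply, MulAut.conjNormal_apply, commutatorElement_def]
      rfl
  have h4 : ⁅⁅E, K⁆, E⁆ = ⊥ := by
    refine le_bot_iff.1 ((Subgroup.commutator_mono h2 le_rfl).trans ?_)
    rw [Subgroup.commutator_comm, h1]
  have h5 : ⁅⁅K, E⁆, E⁆ = ⊥ := by rw [Subgroup.commutator_comm K E, h4]
  have h6 := Subgroup.commutator_commutator_eq_bot_of_rotate h4 h5
  rw [hE] at h6
  exact Subgroup.commutator_eq_bot_iff_le_centralizer.1 h6

/-- A perfect group has no central element of order `p` if a Sylow `p`-subgroup is abelian. -/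
theorem not_central_of_perfect {E : Type*} [Group E] [Finite E] (hE : commutator E = ⊤) {p : ℕ}
    [hp : Fact p.Prime] (P : Sylow p E) (hP : IsCyclic (P : Subgroup E)) {e : E}
    (he : orderOf e = p) (hc : ∀ g, Commute g e) : False := by
  letI : CommGroup (P : Subgroup E) := IsCyclic.commGroup
  have heP : e ∈ (P : Subgroup E) := by
    obtain ⟨Q, hQ⟩ := (IsPGroup.of_card (p := p) (n := 1) (G := Subgroup.zpowers e)
      (by rw [Nat.card_zpowers, he, pow_one])).exists_le_sylow
    obtain ⟨g, rfl⟩ := MulAction.exists_smul_eq E Q P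
    rw [Sylow.coe_subgroup_smul]
    have := Subgroup.smul_mem_pointwise_smul e (MulAut.conj g) _ (hQ (Subgroup.mem_zpowers e))
    rwa [MulAut.smul_def, MulAut.conj_apply, (hc g).eq, mul_inv_cancel_right] at this
  have key : ∀ (k : ℕ) (g₀ : E), g₀⁻¹ * e ^ k * g₀ ∈ (P : Subgroup E) →
      g₀⁻¹ * e ^ k * g₀ = e ^ k := fun k g₀ _ => by
    rw [mul_assoc, ← ((hc g₀).pow_right k).eq, inv_mul_cancel_left]
  set τ := MonoidHom.transfer (MonoidHom.id (P : Subgroup E)) with hτ
  have h1 : τ e = 1 := by
    have : commutator E ≤ τ.ker := commutator_le_ker τ fun a b => mul_comm _ _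
    rw [hE] at this
    exact this (Subgroup.mem_top e)
  rw [hτ, MonoidHom.transfer_eq_pow _ e key] at h1
  have h2 : e ^ (P : Subgroup E).index = 1 := congrArg Subtype.val h1
  rw [← orderOf_dvd_iff_pow_eq_one, he] at h2
  exact P.not_dvd_index h2

theorem le_derivedSeries {L : Type*} [Group L] {P : Subgroup L} (h : ⁅P, P⁆ = P) (n : ℕ) :
    P ≤ derivedSeries L n := by
  induction n with
  | zero => simp
  | succ k ih =>
    rw [derivedSeries_succ, ← h]
    exact Subgroup.commutator_mono ih ih

/-- Coprimality of the odd kernel. -/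
theorem coprime_kernel (hcyc : ∀ p, p.Prime → p ≠ 2 → ∀ Q : Subgroup C, IsPGroup p Q → IsCyclic Q)
    (K : Subgroup C) [K.Normal] (hK : Odd (Nat.card K)) {q : ℕ} [Fact q.Prime] (hq5 : 5 ≤ q)
    (f : C →* PGL(2, ZMod q)) (hf : Function.Surjective f) :
    (Nat.card K).Coprime (Nat.card PGL(2, ZMod q)) := by
  by_contra hcop
  obtain ⟨p, hp, hpK, hpL⟩ := Nat.Prime.not_coprime_iff_dvd.1 hcop
  haveI : Fact p.Prime := ⟨hp⟩
  have hp2 : p ≠ 2 := fun h => Nat.not_even_iff_odd.2 hK (even_iff_two_dvd.2 (h ▸ hpK))
  have hq2 : q ≠ 2 := by omega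
  -- the perfect residual
  obtain ⟨n, hn⟩ : ∃ n, derivedSeries C (n + 1) = derivedSeries C n := by
    by_contra hne
    push Not at hne
    have hlt : ∀ n, Nat.card (derivedSeries C n) + n ≤ Nat.card C := by
      intro n
      induction n with
      | zero => simpa using (Subgroup.card_le_card_group (derivedSeries C 0))
      | succ n ih =>
        have hle : derivedSeries C (n + 1) ≤ derivedSeries C n :=
          derivedSeries_antitone C (Nat.le_succ n)
        have : Nat.card (derivedSeries C (n + 1)) < Nat.card (derivedSeries C n) := by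
          by_contra hge
          exact hne n (Subgroup.eq_of_le_of_card_ge hle (not_lt.1 hge))
        omega
    have h1 := hlt (Nat.card C)
    have h3 : 0 < Nat.card (derivedSeries C (Nat.card C)) := Nat.card_pos
    omega
  set E := derivedSeries C n with hEdef
  haveI : E.Normal := derivedSeries_normal C n
  have hEE : ⁅E, E⁆ = E := (derivedSeries_succ C n).symm.trans hn
  haveI : IsZGroup K := ⟨fun r hr R => by
    haveI : Fact r.Prime := ⟨hr⟩
    rcases eq_or_ne r 2 with rfl | hr2
    · obtain ⟨k, hk⟩ := IsPGroup.iff_card.1 R.isPGroup'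
      have hd : 2 ^ k ∣ Nat.card K := hk ▸ Subgroup.card_subgroup_dvd_card (R : Subgroup K)
      have h1 : Nat.card (R : Subgroup K) = 1 :=
        hk.trans (Nat.eq_one_of_dvd_coprimes ((Nat.coprime_two_left.2 hK).pow_left k) dvd_rfl hd)
      haveI := (Nat.card_eq_one_iff_unique.1 h1).1
      exact isCyclic_of_subsingleton
    · exact ((R : Subgroup K).equivMapOfInjective _ K.subtype_injective).isCyclic.2
        (hcyc r hr hr2 _ (R.isPGroup'.map K.subtype))⟩
  have hcent := le_centralizer_of_perfect E K hEE
  -- `p` divides the order of `E`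
  have hPperf : ⁅sqPart (ZMod q), sqPart (ZMod q)⁆ = sqPart (ZMod q) := by
    have hSL := PSL2.sl_commutator_eq_top (F := ZMod q) (by rw [ZMod.card]; omega)
    have hrange : sqPart (ZMod q) =
        (⊤ : Subgroup SL(2, ZMod q)).map Matrix.SpecialLinearGroup.toPGL := by
      rw [← MonoidHom.range_eq_map]
      exact PSL2.Maximal.range_psi
    rw [hrange, ← Subgroup.map_commutator, ← _root_.commutator_def, hSL]
  have hPE : sqPart (ZMod q) ≤ E.map f := by
    rw [hEdef, map_derivedSeries_eq hf n]
    exact le_derivedSeries hPperf n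
  have hpE : p ∣ Nat.card E := by
    refine dvd_trans ?_ ((Subgroup.card_dvd_of_le hPE).trans (Subgroup.card_map_dvd E f))
    have h2 := (sqPart (ZMod q)).card_mul_index
    rw [PSL2.Maximal.index_range_psi (odd_card hq2)] at h2
    rw [← h2] at hpL
    exact (hp.dvd_mul.1 hpL).resolve_right fun h =>
      hp2 ((Nat.prime_dvd_prime_iff_eq hp Nat.prime_two).1 h)
  obtain ⟨e, he⟩ := exists_prime_orderOf_dvd_card' (G := E) p hpE
  obtain ⟨k, hk⟩ := exists_prime_orderOf_dvd_card' (G := K) p hpK
  -- a cyclic Sylow subgroup containing both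
  obtain ⟨R, hR⟩ := (IsPGroup.of_card (p := p) (n := 1) (G := Subgroup.zpowers (e : C))
    (by rw [Nat.card_zpowers, Subgroup.orderOf_coe, he, pow_one])).exists_le_sylow
  obtain ⟨Q, hQ⟩ := (IsPGroup.of_card (p := p) (n := 1) (G := Subgroup.zpowers (k : C))
    (by rw [Nat.card_zpowers, Subgroup.orderOf_coe, hk, pow_one])).exists_le_sylow
  obtain ⟨c, hc⟩ := MulAction.exists_smul_eq C Q R
  set k' := c * (k : C) * c⁻¹ with hk'
  have hk'R : k' ∈ (R : Subgroup C) := by
    rw [← hc, Sylow.coe_subgroup_smul]
    exact Subgroup.smul_mem_pointwise_smul (k : C) (MulAut.conj c) _ (hQ (Subgroup.mem_zpowers _))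
  have heR : (e : C) ∈ (R : Subgroup C) := hR (Subgroup.mem_zpowers _)
  haveI : IsCyclic (R : Subgroup C) := hcyc p hp hp2 _ R.isPGroup'
  have hk'o : orderOf k' = p := by
    rw [hk', ← MulAut.conj_apply, MulEquiv.orderOf_eq, Subgroup.orderOf_coe, hk]
  have heK : (e : C) ∈ K := by
    obtain ⟨j, hj⟩ : (⟨e, heR⟩ : (R : Subgroup C)) ∈ Subgroup.zpowers ⟨k', hk'R⟩ := by
      classical
      by_contra hnot
      haveI : Fintype (R : Subgroup C) := Fintype.ofFinite _
      set H := Subgroup.zpowers (⟨k', hk'R⟩ : (R : Subgroup C)) with hH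
      have hcard : Nat.card H = p := by rw [hH, Nat.card_zpowers, Subgroup.orderOf_mk, hk'o]
      have h2 : insert (⟨e, heR⟩ : (R : Subgroup C)) (H : Set (R : Subgroup C)).toFinset ⊆
          Finset.univ.filter (fun x : (R : Subgroup C) => x ^ p = 1) := by
        intro v hv
        rw [Finset.mem_filter]
        refine ⟨Finset.mem_univ v, orderOf_dvd_iff_pow_eq_one.1 ?_⟩
        rcases Finset.mem_insert.1 hv with rfl | hv
        · rw [Subgroup.orderOf_mk, Subgroup.orderOf_coe, he]
        · exact (Subgroup.orderOf_dvd_natCard H (Set.mem_toFinset.1 hv)).trans hcard.dvd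
      have h3 := (Finset.card_le_card h2).trans (IsCyclic.card_pow_eq_one_le hp.pos)
      rw [Finset.card_insert_of_notMem (fun h => hnot (Set.mem_toFinset.1 h)),
        Set.toFinset_card] at h3
      have h4 : Fintype.card ((H : Set (R : Subgroup C))) = p := by
        rw [← Nat.card_eq_fintype_card]; exact hcard
      omega
    rw [show (e : C) = k' ^ j from (congrArg Subtype.val hj).symm]
    exact Subgroup.zpow_mem _ ((inferInstance : K.Normal).conj_mem _ k.2 c) j
  obtain ⟨P⟩ := (inferInstance : Nonempty (Sylow p E))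
  refine not_central_of_perfect ?_ P ?_ he fun g => ?_
  · apply Subgroup.map_injective E.subtype_injective
    rw [Subgroup.map_subtype_commutator, hEE, ← MonoidHom.range_eq_map, Subgroup.range_subtype]
  · exact ((P : Subgroup E).equivMapOfInjective _ E.subtype_injective).isCyclic.2
      (hcyc p hp hp2 _ (P.isPGroup'.map E.subtype))
  · exact Subtype.ext ((Subgroup.mem_centralizer_iff.1 (hcent g.2) _ heK).symm)

end Cfsg.Agent.SDCyclic
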