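import Cfsg.Agent.Lib.SDCyclic.CyclicSylow
import Mathlib.GroupTheory.Transfer

/-!
# Counting fixed involutions, involutions on cyclic groups, normal complements

* `exists_card_eq_add_mul` : a cyclic `p`-group acts freely outside the fixed points of its
  subgroup of order `p`;
* `inv_or_centralize` : an involution on a cyclic group of odd prime power order inverts it or
  centralises it;
* `exists_pComplement` : a group with cyclic Sylow `p`-subgroup meeting the centre has a normal
  `p`-complement.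
-/

set_option autoImplicit false
set_option linter.style.haveILetI false
set_option linter.unusedSectionVars false

namespace Cfsg.Agent.SDCyclic

open Subgroup

universe u

variable {G : Type u} [Group G] [Finite G]

/-- Conjugation of `P` on `S`, free outside the fixed points of `x`. -/
theorem exists_card_eq_add_mul {P : Subgroup G} {x : G} (hx : x ∈ P)
    (hmin : ∀ w ∈ P, w ≠ 1 → x ∈ zpowers w) (hcomm : ∀ w ∈ P, Commute w x)
    {S : Set G} (hS : ∀ w ∈ P, ∀ i ∈ S, w * i * w⁻¹ ∈ S) :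
    ∃ c, Nat.card S = Nat.card {i : G // i ∈ S ∧ Commute x i} + Nat.card P * c := by
  classical
  let X := {i : G // i ∈ S ∧ ¬ Commute x i}
  have hsplit : Nat.card S = Nat.card {i : G // i ∈ S ∧ Commute x i} + Nat.card X := by
    rw [← Nat.card_sum]
    exact Nat.card_congr ((Equiv.sumCompl (fun i : S => Commute x (i : G))).symm.trans
      (Equiv.sumCongr (Equiv.subtypeSubtypeEquivSubtypeInter (fun i => i ∈ S) (Commute x))
        (Equiv.subtypeSubtypeEquivSubtypeInter (fun i => i ∈ S) (fun i => ¬ Commute x i))))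
  have hinv : ∀ (w : P) (i : X), (w : G) * i.1 * (w : G)⁻¹ ∈ S ∧
      ¬ Commute x ((w : G) * i.1 * (w : G)⁻¹) := by
    intro w i
    refine ⟨hS w w.2 _ i.2.1, fun h => i.2.2 ?_⟩
    have h1 := h.map (MulAut.conj (w : G)⁻¹).toMonoidHom
    simp only [MulEquiv.coe_toMonoidHom, MulAut.conj_apply, inv_inv] at h1
    have h2 := commute_iff_conj_eq.1 (hcomm w w.2).inv_left
    rw [inv_inv] at h2
    rwa [h2, show (w : G)⁻¹ * ((w : G) * i.1 * (w : G)⁻¹) * (w : G) = i.1 by group] at h1
  letI : MulAction P X :=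
    { smul := fun w i => ⟨(w : G) * i.1 * (w : G)⁻¹, hinv w i⟩
      one_smul := fun i => Subtype.ext (show ((1 : P) : G) * i.1 * ((1 : P) : G)⁻¹ = i.1 by simp)
      mul_smul := fun a b i => Subtype.ext (show ((a * b : P) : G) * i.1 * ((a * b : P) : G)⁻¹ =
        (a : G) * ((b : G) * i.1 * (b : G)⁻¹) * (a : G)⁻¹ by rw [coe_mul]; group) }
  have hfree : ∀ i : X, MulAction.stabilizer P i = ⊥ := by
    intro i
    rw [eq_bot_iff]
    intro w hw
    by_contra hne
    have h1 : (w : G) * i.1 * (w : G)⁻¹ = i.1 := congrArg Subtype.val (MulAction.mem_stabilizer_iff.1 hw)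
    obtain ⟨m, hm⟩ := mem_zpowers_iff.1 (hmin w w.2 fun h => hne (Subtype.ext h))
    exact i.2.2 (hm ▸ (commute_iff_conj_eq.2 h1).zpow_left m)
  refine ⟨Nat.card (Quotient (MulAction.orbitRel P X)), ?_⟩
  haveI := Fintype.ofFinite (Quotient (MulAction.orbitRel P X))
  have hX : Nat.card X = Nat.card P * Nat.card (Quotient (MulAction.orbitRel P X)) := by
    rw [Nat.card_congr (MulAction.selfEquivSigmaOrbitsQuotientStabilizer P X), Nat.card_sigma]
    rw [Finset.sum_congr rfl (g := fun _ => Nat.card P) fun a _ => ?_]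
    · simp [Nat.card_eq_fintype_card, mul_comm]
    · rw [hfree]
      exact Nat.card_congr (QuotientGroup.quotientBot (G := P)).toEquiv
  rw [hsplit, hX]

/-- The subgroup of order `p` of a cyclic `p`-group lies in every nontrivial cyclic subgroup. -/
theorem mem_zpowers_of_cyclic (hc : CycSylow G) {p : ℕ} (hp : p.Prime) (hp2 : p ≠ 2)
    {P : Subgroup G} (hP : IsPGroup p P) {x : G} (hx : x ∈ P) (hxo : orderOf x = p) {w : G}
    (hw : w ∈ P) (hw1 : w ≠ 1) : x ∈ zpowers w := by
  haveI := Fact.mk hp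
  obtain ⟨k, hk⟩ := IsPGroup.iff_orderOf.1 hP ⟨w, hw⟩
  rw [Subgroup.orderOf_mk] at hk
  have hd : p ∣ orderOf w := by
    rw [hk]
    refine dvd_pow_self p ?_
    rintro rfl
    exact hw1 (orderOf_eq_one_iff.1 (by rw [hk, pow_zero]))
  have h1 := hc.mem_zpowers_of_orderOf_eq hp hp2 hP (pow_mem hw (orderOf w / p)) hx
    (orderOf_pow_orderOf_div (orderOf_pos w).ne' hd) (hxo ▸ pow_orderOf_eq_one x)
  exact zpowers_le.2 (pow_mem (mem_zpowers w) _) h1

theorem commute_of_cyclic {P : Subgroup G} [IsCyclic P] {a b : G} (ha : a ∈ P) (hb : b ∈ P) :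
    Commute a b :=
  congrArg Subtype.val (IsMulCommutative.is_comm.comm (⟨a, ha⟩ : P) ⟨b, hb⟩)

/-- An involution normalising a cyclic group of odd prime power order inverts it or centralises
it. -/
theorem inv_or_centralize {p : ℕ} (hp : p.Prime) (hp2 : p ≠ 2) {L : Subgroup G}
    (hL : IsPGroup p L) [IsCyclic L] {s : G} (hs : s * s = 1)
    (hn : s ∈ normalizer (L : Set G)) :
    (∀ a ∈ L, s * a * s⁻¹ = a⁻¹) ∨ ∀ a ∈ L, Commute s a := by
  haveI := Fact.mk hp
  obtain ⟨π, hπ⟩ := IsCyclic.exists_generator (α := L)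
  obtain ⟨k, hk⟩ := IsPGroup.iff_orderOf.1 hL π
  obtain ⟨r, hr⟩ := mem_zpowers_iff.1 (hπ ⟨_, conj_mem_of_mem_normalizer hn π.2⟩)
  have hr' : (π : G) ^ r = s * π * s⁻¹ := congrArg Subtype.val hr
  have hsq : (π : G) ^ (r * r) = π := by
    rw [zpow_mul, hr', conj_zpow, hr', show s * (s * π * s⁻¹) * s⁻¹ = (s * s) * π * (s * s)⁻¹ by group,
      hs]
    group
  have hdvd : ((p : ℤ) ^ k) ∣ (r - 1) * (r + 1) := by
    have h1 : (π : G) ^ (r * r) = (π : G) ^ (1 : ℤ) := by rw [zpow_one, hsq]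
    rw [zpow_eq_zpow_iff_modEq, Int.modEq_iff_dvd, Subgroup.orderOf_coe, hk] at h1
    push_cast at h1
    rw [show (r - 1) * (r + 1) = -(1 - r * r) by ring]
    exact dvd_neg.2 h1
  have hall : ∀ e : ℤ, (π : G) ^ r = (π : G) ^ e → ∀ a ∈ L, s * a * s⁻¹ = a ^ e := by
    intro e he a ha
    obtain ⟨j, hj⟩ := mem_zpowers_iff.1 (hπ ⟨a, ha⟩)
    have hj' : (π : G) ^ j = a := congrArg Subtype.val hj
    rw [← hj', ← conj_zpow, ← hr', he, ← zpow_mul, ← zpow_mul, mul_comm]
  have hpow : ∀ e : ℤ, (p : ℤ) ^ k ∣ r - e → (π : G) ^ r = (π : G) ^ e := by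
    intro e he
    rw [zpow_eq_zpow_iff_modEq, Int.modEq_iff_dvd, Subgroup.orderOf_coe, hk]
    push_cast
    rw [show e - r = -(r - e) by ring]
    exact dvd_neg.2 he
  by_cases h : (p : ℤ) ∣ r + 1
  · left
    have hn1 : ¬ (p : ℤ) ∣ r - 1 := by
      intro h1
      have h2 := dvd_sub h h1
      rw [show r + 1 - (r - 1) = ((2 : ℕ) : ℤ) by push_cast; ring] at h2
      exact hp2 ((Nat.prime_dvd_prime_iff_eq hp Nat.prime_two).1 (Int.natCast_dvd_natCast.1 h2))
    have h3 := ((Nat.prime_iff_prime_int.1 hp).coprime_iff_not_dvd.2 hn1).pow_left.dvd_of_dvd_mul_left hdvd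
    intro a ha
    rw [hall (-1) (hpow (-1) (by simpa using h3)) a ha, zpow_neg_one]
  · right
    have h3 := ((Nat.prime_iff_prime_int.1 hp).coprime_iff_not_dvd.2 h).pow_left.dvd_of_dvd_mul_right hdvd
    intro a ha
    rw [commute_iff_conj_eq, hall 1 (hpow 1 h3) a ha, zpow_one]

/-- A cyclic Sylow subgroup containing a central element of order `p` has a normal complement. -/
theorem exists_pComplement (hc : CycSylow G) {p : ℕ} (hp : p.Prime) (hp2 : p ≠ 2) {x : G}
    (hxo : orderOf x = p) :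
    ∃ W : Subgroup (centralizer ({x} : Set G)), W.Normal ∧ ¬ p ∣ Nat.card W ∧
      W.index = p ^ (Nat.card (centralizer ({x} : Set G))).factorization p := by
  haveI := Fact.mk hp
  set H := centralizer ({x} : Set G)
  have hxH : x ∈ H := mem_centralizer_singleton_iff.2 rfl
  have hcent : ∀ h : H, h * ⟨x, hxH⟩ = ⟨x, hxH⟩ * h := fun h =>
    Subtype.ext (mem_centralizer_singleton_iff.1 h.2)
  have h1 : IsPGroup p (zpowers (⟨x, hxH⟩ : H)) := by
    refine IsPGroup.of_card (n := 1) ?_
    rw [Nat.card_zpowers, Subgroup.orderOf_mk, hxo, pow_one]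
  obtain ⟨P, hP⟩ := h1.exists_le_sylow
  haveI : IsCyclic (P : Subgroup H) := by
    haveI := hc.isCyclic_of_isPGroup hp hp2 (P.2.map H.subtype)
    exact isCyclic_of_surjective ((P : Subgroup H).equivMapOfInjective _ H.subtype_injective).symm
      (MulEquiv.surjective _)
  rcases Sylow.normalizer_le_centralizer_or_le_commutator P with hN | hN
  · refine ⟨(MonoidHom.transferSylow P hN).ker, inferInstance,
      MonoidHom.not_dvd_card_ker_transferSylow P hN, ?_⟩
    rw [(MonoidHom.ker_transferSylow_isComplement' P hN).symm.index_eq_card,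
      P.card_eq_multiplicity]
  · -- impossible: a central element of an abelian Sylow subgroup is not a commutator
    exfalso
    haveI : IsMulCommutative (P : Subgroup H) := ⟨⟨fun a b => Subtype.ext
      (commute_of_cyclic (P := (P : Subgroup H)) a.2 b.2).eq⟩⟩
    open scoped IsMulCommutative in
    let f : H →* (P : Subgroup H) := MonoidHom.transfer (MonoidHom.id (P : Subgroup H))
    have key : ∀ (k : ℕ) (g₀ : H), g₀⁻¹ * (⟨x, hxH⟩ : H) ^ k * g₀ ∈ (P : Subgroup H) →
        g₀⁻¹ * (⟨x, hxH⟩ : H) ^ k * g₀ = (⟨x, hxH⟩ : H) ^ k := fun k g₀ _ => by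
      rw [mul_assoc, ← (show Commute g₀ (⟨x, hxH⟩ : H) from hcent g₀).pow_right k |>.eq,
        inv_mul_cancel_left]
    have hxP : (⟨x, hxH⟩ : H) ∈ (P : Subgroup H) := hP (mem_zpowers _)
    have hker : (⟨x, hxH⟩ : H) ∈ f.ker := Abelianization.commutator_subset_ker f (hN hxP)
    rw [MonoidHom.mem_ker] at hker
    have heq := MonoidHom.transfer_eq_pow (MonoidHom.id (P : Subgroup H)) (⟨x, hxH⟩ : H) key
    have h2 : (⟨x, hxH⟩ : H) ^ (P : Subgroup H).index = 1 := by
      have := congrArg Subtype.val (hker.symm.trans heq)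
      simpa using this.symm
    have h3 := orderOf_dvd_iff_pow_eq_one.2 h2
    rw [Subgroup.orderOf_mk, hxo] at h3
    exact P.not_dvd_index h3

end Cfsg.Agent.SDCyclic
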