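import Cfsg.Agent.Lib.SDCyclic.PGLShape

/-!
# Double covers of `PGL₂(q)` with semidihedral Sylow 2-subgroups

`Cover f zd P`: `f` is onto with kernel `{1, zd}`, an involution inside `P` lifts to square roots
of `zd` and one outside `P` to involutions.  `Cover.exists_elems` lifts a `TorusShape`.
-/

set_option autoImplicit false
set_option linter.unusedSectionVars false

namespace Cfsg.Agent.SDCyclic

variable {D L : Type*} [Group D] [Group L]

/-- A double cover of the semidihedral kind. -/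
structure Cover (f : D →* L) (zd : D) (P : Subgroup L) : Prop where
  surj : Function.Surjective f
  z_ne : zd ≠ 1
  z_sq : zd * zd = 1
  z_comm : ∀ d, Commute zd d
  ker : ∀ d, f d = 1 ↔ d = 1 ∨ d = zd
  inner : ∀ d, orderOf (f d) = 2 → f d ∈ P → d ^ 2 = zd
  outer : ∀ d, orderOf (f d) = 2 → f d ∉ P → d ^ 2 = 1

/-- The lifted elements and their properties. -/
structure Elems (f : D →* L) (zd : D) (q W g : ℕ) (η : ℤ) (aw au ag t τ ρ : D) : Prop where
  cw : ∀ j : ℕ, aw ^ j = 1 ↔ 2 * W ∣ j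
  cu : ∀ j : ℕ, au ^ j = 1 ↔ 2 * q ∣ j
  cg : ∀ j : ℕ, ag ^ j = 1 ↔ 2 * g ∣ j
  cgt : ∀ j : ℕ, ag ^ j ∈ Subgroup.zpowers t ↔ 2 * g ∣ j
  zw : aw ^ W = zd
  zu : au ^ q = zd
  zg : ag ^ g = zd
  t_sq : t * t = 1
  t_ne : t ≠ 1
  t_ne_z : t ≠ zd
  t_notMem : t ∉ Subgroup.zpowers ag
  t_comm : t * ag * t⁻¹ = ag
  τ_sq : τ * τ = 1
  τ_ne_z : τ ≠ zd
  τ_notMem : τ ∉ Subgroup.zpowers aw
  τ_conj : τ * aw * τ⁻¹ = aw ^ (W - 1)
  τ_mul_z : ∃ c : D, c * τ * c⁻¹ = zd * τ
  ρ_notMem : ρ ∉ Subgroup.zpowers t ⊔ Subgroup.zpowers ag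
  ρ_conj : ρ * ag * ρ⁻¹ = ag⁻¹
  ρ_t : ρ * t * ρ⁻¹ = zd * t
  selfW : ∀ a ∈ Subgroup.zpowers aw, a ≠ 1 → a ≠ zd → ∀ x, x⁻¹ * a * x ∈ Subgroup.zpowers aw →
    x ∈ Subgroup.zpowers aw ∨ x * τ ∈ Subgroup.zpowers aw
  selfU : ∀ a ∈ Subgroup.zpowers au, a ≠ 1 → a ≠ zd → ∀ x, x⁻¹ * a * x ∈ Subgroup.zpowers au →
    x⁻¹ * au * x ∈ Subgroup.zpowers au
  kerU : ∀ x, x⁻¹ * au * x = au → x ∈ Subgroup.zpowers au
  surU : ∀ j : ℕ, Odd j → ¬ q ∣ j → ∃ x, x⁻¹ * au * x = au ^ j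
  selfG : ∀ a ∈ Subgroup.zpowers t ⊔ Subgroup.zpowers ag, a ≠ 1 → a ≠ zd → ∀ x,
    x⁻¹ * a * x ∈ Subgroup.zpowers t ⊔ Subgroup.zpowers ag →
      x ∈ Subgroup.zpowers t ⊔ Subgroup.zpowers ag ∨ x * ρ ∈ Subgroup.zpowers t ⊔ Subgroup.zpowers ag
  crossWU : ∀ a ∈ Subgroup.zpowers aw, a ≠ 1 → a ≠ zd → ∀ x, x⁻¹ * a * x ∉ Subgroup.zpowers au
  crossWG : ∀ a ∈ Subgroup.zpowers aw, a ≠ 1 → a ≠ zd → ∀ x,
    x⁻¹ * a * x ∉ Subgroup.zpowers t ⊔ Subgroup.zpowers ag
  crossUG : ∀ a ∈ Subgroup.zpowers au, a ≠ 1 → a ≠ zd → ∀ x,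
    x⁻¹ * a * x ∉ Subgroup.zpowers t ⊔ Subgroup.zpowers ag
  invU : η = 1 → ∃ x, x * x = 1 ∧ x ≠ 1 ∧ x ≠ zd ∧ x⁻¹ * au * x = au ^ (2 * q - 1)
  borel : η = -1 → aw * au * aw⁻¹ ∈ Subgroup.zpowers au
  invol : ∀ d, d * d = 1 → d ≠ 1 → d ≠ zd → ∃ c, c * τ * c⁻¹ = d

namespace Cover

variable {f : D →* L} {zd : D} {P : Subgroup L} (hc : Cover f zd P)
include hc

theorem f_z : f zd = 1 := (hc.ker zd).2 (Or.inr rfl)

theorem eq_or_eq {x y : D} (h : f x = f y) : x = y ∨ x = zd * y := by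
  rcases (hc.ker (x * y⁻¹)).1 (by rw [map_mul, map_inv, h, mul_inv_cancel]) with e | e
  · exact Or.inl (mul_inv_eq_one.1 e)
  · exact Or.inr (mul_inv_eq_iff_eq_mul.1 e)

theorem z_pow {k : ℕ} : zd ^ k = if Even k then 1 else zd := by
  rcases Nat.even_or_odd k with ⟨r, rfl⟩ | ⟨r, rfl⟩
  · rw [if_pos ⟨r, rfl⟩, ← two_mul, pow_mul, pow_two, hc.z_sq, one_pow]
  · rw [if_neg (by simp [Nat.even_add_one]), pow_succ, pow_mul, pow_two, hc.z_sq, one_pow, one_mul]

theorem z_pow_odd {k : ℕ} (hk : Odd k) : zd ^ k = zd := by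
  rw [hc.z_pow, if_neg (Nat.not_even_iff_odd.2 hk)]

theorem mul_z_pow {k : ℕ} (hk : Odd k) (x : D) : (zd * x) ^ k = zd * x ^ k := by
  rw [(hc.z_comm x).mul_pow, hc.z_pow_odd hk]

theorem z_ne_mul (x : D) : x ≠ zd * x := fun h =>
  hc.z_ne (mul_eq_right.1 h.symm)

theorem f_zpowers {x : D} {y : L} (hx : f x = y) (hz : zd ∈ Subgroup.zpowers x) {d : D} :
    d ∈ Subgroup.zpowers x ↔ f d ∈ Subgroup.zpowers y := by
  constructor
  · rintro ⟨k, rfl⟩
    exact ⟨k, by rw [← hx]; exact (map_zpow f x k).symm⟩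
  · rintro ⟨k, hk⟩
    have h1 : f d = f (x ^ k) := by rw [map_zpow, hx]; exact hk.symm
    rcases hc.eq_or_eq h1 with e | e <;> rw [e]
    · exact Subgroup.zpow_mem _ (Subgroup.mem_zpowers x) k
    · exact mul_mem hz (Subgroup.zpow_mem _ (Subgroup.mem_zpowers x) k)

theorem exists_odd_lift {u : L} {n : ℕ} (hu : orderOf u = n) (hn : Odd n) :
    ∃ x : D, f x = u ∧ x ^ n = zd ∧ ∀ j : ℕ, x ^ j = 1 ↔ 2 * n ∣ j := by
  obtain ⟨x₀, hx₀⟩ := hc.surj u
  have h1 : f (x₀ ^ n) = 1 := by rw [map_pow, hx₀, ← hu, pow_orderOf_eq_one]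
  obtain ⟨x, hx, hxn⟩ : ∃ x : D, f x = u ∧ x ^ n = zd := by
    rcases (hc.ker _).1 h1 with e | e
    · exact ⟨zd * x₀, by rw [map_mul, hc.f_z, one_mul, hx₀], by rw [hc.mul_z_pow hn, e, mul_one]⟩
    · exact ⟨x₀, hx₀, e⟩
  refine ⟨x, hx, hxn, fun j => ⟨fun hj => ?_, fun ⟨c, hcj⟩ => ?_⟩⟩
  · have h2 : u ^ j = 1 := by rw [← hx, ← map_pow, hj, map_one]
    rw [← orderOf_dvd_iff_pow_eq_one, hu] at h2
    obtain ⟨c, rfl⟩ := h2
    rw [pow_mul, hxn, hc.z_pow] at hj
    rcases Nat.even_or_odd c with ⟨r, rfl⟩ | ho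
    · exact ⟨r, by ring⟩
    · rw [if_neg (Nat.not_even_iff_odd.2 ho)] at hj; exact absurd hj hc.z_ne
  · rw [hcj, show 2 * n * c = n * (2 * c) by ring, pow_mul, hxn, hc.z_pow, if_pos (even_two_mul c)]

theorem exists_invol_lift {v : L} (hv : orderOf v = 2) (hvP : v ∉ P) :
    ∃ x : D, f x = v ∧ x * x = 1 ∧ x ≠ 1 ∧ x ≠ zd := by
  obtain ⟨x, hx⟩ := hc.surj v
  refine ⟨x, hx, ?_, fun h => ?_, fun h => ?_⟩
  · rw [← pow_two]; exact hc.outer x (by rw [hx, hv]) (by rwa [hx])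
  · rw [h, map_one] at hx; rw [← hx, orderOf_one] at hv; omega
  · rw [h, hc.f_z] at hx; rw [← hx, orderOf_one] at hv; omega

variable {q W g : ℕ} {η : ℤ} {a u b s r : L}

theorem exists_aw (hs : TorusShape P q W g η a u b s r) (hW : 4 ∣ W) (hW0 : 0 < W) :
    ∃ x : D, f x = a ∧ x ^ W = zd ∧ ∀ j : ℕ, x ^ j = 1 ↔ 2 * W ∣ j := by
  obtain ⟨x, hx⟩ := hc.surj a
  obtain ⟨h, rfl⟩ := hW
  have hh : a ^ (2 * h) ∈ P := by
    rw [two_mul, pow_add]; exact Subgroup.mul_self_mem_of_index_two hs.index _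
  have ho : orderOf (f (x ^ (2 * h))) = 2 := by
    rw [map_pow, hx, orderOf_pow_of_dvd (by omega) (by rw [hs.a_order]; exact ⟨2, by ring⟩),
      hs.a_order, show 4 * h = 2 * h * 2 by ring, Nat.mul_div_cancel_left _ (by omega)]
  have hxW : x ^ (4 * h) = zd := by
    rw [show 4 * h = 2 * h * 2 by ring, pow_mul]
    exact hc.inner _ ho (by rw [map_pow, hx]; exact hh)
  refine ⟨x, hx, hxW, fun j => ⟨fun hj => ?_, fun ⟨c, hcj⟩ => ?_⟩⟩
  · have h2 : a ^ j = 1 := by rw [← hx, ← map_pow, hj, map_one]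
    rw [← orderOf_dvd_iff_pow_eq_one, hs.a_order] at h2
    obtain ⟨c, rfl⟩ := h2
    rw [pow_mul, hxW, hc.z_pow] at hj
    rcases Nat.even_or_odd c with ⟨k, rfl⟩ | hc'
    · exact ⟨k, by ring⟩
    · rw [if_neg (Nat.not_even_iff_odd.2 hc')] at hj; exact absurd hj hc.z_ne
  · rw [hcj, show 2 * (4 * h) * c = 4 * h * (2 * c) by ring, pow_mul, hxW, hc.z_pow,
      if_pos (even_two_mul c)]

/-- Lifting a shape. -/
theorem exists_elems (hs : TorusShape P q W g η a u b s r) (hW : 4 ∣ W) (hW0 : 0 < W) (hg : Odd g)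
    (hqodd : Odd q) (hqp : q.Prime) :
    ∃ aw au ag t τ ρ : D, Elems f zd q W g η aw au ag t τ ρ := by
  obtain ⟨aw, haw, hzw, hcw⟩ := hc.exists_aw hs hW hW0
  obtain ⟨au, hau, hzu, hcu⟩ := hc.exists_odd_lift hs.u_order hqodd
  have hb2o : orderOf (b ^ 2) = g := by
    rw [orderOf_pow_of_dvd two_ne_zero (by rw [hs.b_order]; exact dvd_mul_right _ _), hs.b_order,
      Nat.mul_div_cancel_left _ two_pos]
  obtain ⟨ag, hag, hzg, hcg⟩ := hc.exists_odd_lift hb2o hg
  -- the involution of the second torus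
  have hbgo : orderOf (b ^ g) = 2 := by
    rw [orderOf_pow_of_dvd hg.pos.ne' (by rw [hs.b_order]; exact dvd_mul_left _ _), hs.b_order,
      Nat.mul_div_cancel _ hg.pos]
  have hbgP : b ^ g ∉ P := by
    obtain ⟨k, rfl⟩ := hg
    intro h
    refine hs.b_notMem ?_
    have h2 : b ^ (2 * k) ∈ P := by
      rw [two_mul, pow_add]; exact Subgroup.mul_self_mem_of_index_two hs.index _
    have := mul_mem (inv_mem h2) h
    rwa [pow_succ, inv_mul_cancel_left] at this
  obtain ⟨t, ht, htt, ht1, htz⟩ := hc.exists_invol_lift hbgo hbgP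
  obtain ⟨τ, hτ, hττ, hτ1, hτz⟩ := hc.exists_invol_lift hs.s_order hs.s_notMem
  obtain ⟨ρ, hρ⟩ := hc.surj r
  -- the preimages of the tori
  have hzw' : zd ∈ Subgroup.zpowers aw := ⟨W, by simpa using hzw⟩
  have hzu' : zd ∈ Subgroup.zpowers au := ⟨q, by simpa using hzu⟩
  have hzg' : zd ∈ Subgroup.zpowers ag := ⟨g, by simpa using hzg⟩
  have hmw := fun d => hc.f_zpowers haw hzw' (d := d)
  have hmu := fun d => hc.f_zpowers hau hzu' (d := d)
  have hmg : ∀ d, d ∈ Subgroup.zpowers t ⊔ Subgroup.zpowers ag ↔ f d ∈ Subgroup.zpowers b := by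
    intro d
    refine ⟨fun hd => ?_, fun hd => ?_⟩
    · have hle : Subgroup.zpowers t ⊔ Subgroup.zpowers ag ≤ (Subgroup.zpowers b).comap f :=
        sup_le (Subgroup.zpowers_le.2 (by
          rw [Subgroup.mem_comap, ht]; exact pow_mem (Subgroup.mem_zpowers b) g))
          (Subgroup.zpowers_le.2 (by
            rw [Subgroup.mem_comap, hag]; exact pow_mem (Subgroup.mem_zpowers b) 2))
      exact hle hd
    · obtain ⟨k, hk⟩ := hd
      obtain ⟨g', hg'⟩ := hg
      -- `k = 2 * m + g * c`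
      have hkd : f d = f (ag ^ (-(g' : ℤ) * k) * t ^ k) := by
        rw [map_mul, map_zpow, map_zpow, hag, ht, ← zpow_natCast, ← zpow_natCast, ← zpow_mul,
          ← zpow_mul, ← zpow_add, hg']
        exact hk.symm.trans (congrArg (b ^ ·) (by push_cast; ring))
      have hm : ag ^ (-(g' : ℤ) * k) * t ^ k ∈ Subgroup.zpowers t ⊔ Subgroup.zpowers ag :=
        mul_mem (Subgroup.mem_sup_right (Subgroup.zpow_mem _ (Subgroup.mem_zpowers _) _))
          (Subgroup.mem_sup_left (Subgroup.zpow_mem _ (Subgroup.mem_zpowers _) _))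
      rcases hc.eq_or_eq hkd with e | e <;> rw [e]
      · exact hm
      · exact mul_mem (Subgroup.mem_sup_right hzg') hm
  have hne : ∀ {x : D}, x ≠ 1 → x ≠ zd → f x ≠ 1 := fun h1 h2 h =>
    ((hc.ker _).1 h).elim h1 h2
  have hfconj : ∀ x y : D, f (x⁻¹ * y * x) = (f x)⁻¹ * f y * f x := fun x y => by
    rw [map_mul, map_mul, map_inv]
  -- the action of `t` on `ag`
  have htag : t * ag * t⁻¹ = ag := by
    have h1 : f (t * ag * t⁻¹) = f ag := by
      rw [map_mul, map_mul, map_inv, ht, hag, ← pow_add, add_comm, pow_add, mul_inv_cancel_right]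
    refine (hc.eq_or_eq h1).resolve_right fun e => ?_
    have h2 := congrArg (· ^ g) e
    rw [conj_pow, hzg, hc.mul_z_pow hg, hzg, hc.z_sq, ((hc.z_comm t).symm).eq,
      mul_inv_cancel_right] at h2
    exact hc.z_ne h2
  -- the action of `τ` on `aw`
  have hzinv : zd⁻¹ = zd := inv_eq_of_mul_eq_one_right hc.z_sq
  have hτaw : τ * aw * τ⁻¹ = zd * aw⁻¹ := by
    have h1 : f (τ * aw * τ⁻¹) = f aw⁻¹ := by
      rw [map_mul, map_mul, map_inv, map_inv, hτ, haw, hs.s_conj]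
    refine (hc.eq_or_eq h1).resolve_left fun e => ?_
    have hτi : τ⁻¹ = τ := inv_eq_of_mul_eq_one_right hττ
    have h2 : (τ * aw) ^ 2 = 1 := by
      rw [pow_two, show τ * aw * (τ * aw) = τ * aw * τ * aw by group]
      nth_rw 2 [← hτi]
      rw [e, inv_mul_cancel]
    have ho : orderOf (f (τ * aw)) = 2 := by
      refine orderOf_eq_prime (by rw [← map_pow, h2, map_one]) fun h3 => hs.s_notin ?_
      rw [map_mul, hτ, haw] at h3
      rw [eq_inv_of_mul_eq_one_left h3]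
      exact inv_mem (Subgroup.mem_zpowers a)
    have hmem : f (τ * aw) ∈ P := by
      rw [map_mul, hτ, haw, Subgroup.mul_mem_iff_of_index_two hs.index]
      exact iff_of_false hs.s_notMem hs.a_notMem
    exact hc.z_ne ((hc.inner _ ho hmem).symm.trans h2)
  have hawinv : zd * aw⁻¹ = aw ^ (W - 1) := by
    rw [← hzw, ← eq_mul_inv_iff_mul_eq, inv_inv, ← pow_succ, Nat.sub_add_cancel hW0]
  have hτaw' : τ * aw * τ⁻¹ = aw ^ (W - 1) := hτaw.trans hawinv
  -- the action of `ρ`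
  have hρag : ρ * ag * ρ⁻¹ = ag⁻¹ := by
    have h1 : f (ρ * ag * ρ⁻¹) = f ag⁻¹ := by
      rw [map_mul, map_mul, map_inv, map_inv, hρ, hag, ← conj_pow, hs.r_conj, inv_pow]
    refine (hc.eq_or_eq h1).resolve_right fun e => ?_
    have h2 := congrArg (· ^ g) e
    rw [conj_pow, hzg, hc.mul_z_pow hg, inv_pow, hzg, hzinv, hc.z_sq, (hc.z_comm ρ).symm.eq,
      mul_inv_cancel_right] at h2
    exact hc.z_ne h2
  have hrn : f ρ ∉ Subgroup.zpowers b := by rw [hρ]; exact hs.r_notin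
  have hbg_inv : (b ^ g)⁻¹ = b ^ g := by
    refine inv_eq_of_mul_eq_one_right ?_
    have := pow_orderOf_eq_one (b ^ g); rwa [hbgo, pow_two] at this
  have hρt : ρ * t * ρ⁻¹ = zd * t := by
    have h1 : f (ρ * t * ρ⁻¹) = f t := by
      rw [map_mul, map_mul, map_inv, hρ, ht, ← conj_pow, hs.r_conj, inv_pow, hbg_inv]
    refine (hc.eq_or_eq h1).resolve_left fun e => ?_
    have hcomm : Commute ρ t := mul_inv_eq_iff_eq_mul.1 e
    have hprod : (ρ * t) ^ 2 = ρ ^ 2 := by rw [hcomm.mul_pow, pow_two t, htt, mul_one]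
    have hor : orderOf (f ρ) = 2 := by rw [hρ]; exact hs.r_order
    have hot : orderOf (f (ρ * t)) = 2 := by
      refine orderOf_eq_prime ?_ fun h3 => hrn ?_
      · rw [← map_pow, hprod, map_pow]
        exact hor ▸ pow_orderOf_eq_one _
      · rw [map_mul, ht] at h3
        rw [eq_inv_of_mul_eq_one_left h3]
        exact inv_mem (pow_mem (Subgroup.mem_zpowers b) g)
    have hmul : f (ρ * t) ∈ P ↔ f ρ ∉ P := by
      rw [map_mul, Subgroup.mul_mem_iff_of_index_two hs.index, ht]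
      exact ⟨fun h h' => hbgP (h.1 h'), fun h => iff_of_false h hbgP⟩
    by_cases hP : f ρ ∈ P
    · exact hc.z_ne ((hc.inner ρ hor hP).symm.trans
        (hprod.symm.trans (hc.outer _ hot fun h => hmul.1 h hP)))
    · exact hc.z_ne ((hc.inner _ hot (hmul.2 hP)).symm.trans (hprod.trans (hc.outer ρ hor hP)))
  -- powers of `au`
  have hzau : ∀ {x : D} {j : ℕ}, Odd j → f (x⁻¹ * au * x) = f (au ^ j) → x⁻¹ * au * x = au ^ j := by
    intro x j hj h1
    refine (hc.eq_or_eq h1).resolve_right fun e => ?_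
    have h2 := congrArg (· ^ q) e
    rw [show x⁻¹ * au * x = x⁻¹ * au * x⁻¹⁻¹ by rw [inv_inv], conj_pow, hzu,
      hc.mul_z_pow hqodd, ← pow_mul, mul_comm j q, pow_mul, hzu, hc.z_pow_odd hj, hc.z_sq,
      (hc.z_comm x⁻¹).symm.eq, mul_inv_cancel_right] at h2
    exact hc.z_ne h2
  have hτz' : ∃ c : D, c * τ * c⁻¹ = zd * τ := by
    obtain ⟨h, hh⟩ := hW
    refine ⟨aw ^ (2 * h), ?_⟩
    have hτi : τ⁻¹ = τ := inv_eq_of_mul_eq_one_right hττ
    have e1 : τ * aw ^ (2 * h) * τ⁻¹ = (aw ^ (2 * h))⁻¹ := by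
      rw [← conj_pow, hτaw, (hc.z_comm _).mul_pow, hc.z_pow, if_pos (even_two_mul h), one_mul,
        inv_pow]
    have e2 : (aw ^ (2 * h))⁻¹ * τ = τ * aw ^ (2 * h) := by
      rw [← e1, mul_assoc, inv_mul_cancel, mul_one]
    calc aw ^ (2 * h) * τ * (aw ^ (2 * h))⁻¹
        = aw ^ (2 * h) * aw ^ (2 * h) * ((aw ^ (2 * h))⁻¹ * τ) * (aw ^ (2 * h))⁻¹ := by group
      _ = aw ^ W * τ := by
          rw [e2, ← pow_add, show 2 * h + 2 * h = W by omega]; group
      _ = zd * τ := by rw [hzw]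
  refine ⟨aw, au, ag, t, τ, ρ, ?_⟩
  exact
    { cw := hcw, cu := hcu, cg := hcg
      cgt := fun j => by
        refine ⟨fun hj => ?_, fun hj => by rw [(hcg j).2 hj]; exact one_mem _⟩
        obtain ⟨k, hk⟩ := hj
        replace hk : t ^ k = ag ^ j := hk
        rcases Int.even_or_odd k with ⟨m, rfl⟩ | ⟨m, rfl⟩
        · rw [← two_mul, _root_.zpow_mul, zpow_two, htt, _root_.one_zpow] at hk
          exact (hcg j).1 hk.symm
        · rw [zpow_add_one, _root_.zpow_mul, zpow_two, htt, _root_.one_zpow, one_mul] at hk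
          exfalso
          have h1 : orderOf (f t) ∣ orderOf (f ag) := by
            rw [hk, map_pow]; exact orderOf_dvd_of_mem (pow_mem (Subgroup.mem_zpowers _) j)
          rw [ht, hag, hbgo, hb2o] at h1
          exact Nat.not_even_iff_odd.2 hg (even_iff_two_dvd.2 h1)
      zw := hzw, zu := hzu, zg := hzg
      t_sq := htt, t_ne := ht1, t_ne_z := htz
      t_notMem := fun h => by
        obtain ⟨k, hk⟩ := h
        have h1 : orderOf (f t) ∣ orderOf (f ag) :=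
          orderOf_dvd_of_mem ⟨k, by rw [← hk]; exact (map_zpow f ag k).symm⟩
        rw [ht, hag, hbgo, hb2o] at h1
        exact Nat.not_even_iff_odd.2 hg (even_iff_two_dvd.2 h1)
      t_comm := htag
      τ_sq := hττ, τ_ne_z := hτz
      τ_notMem := fun h => hs.s_notin (hτ ▸ (hmw τ).1 h)
      τ_conj := hτaw'
      τ_mul_z := hτz'
      ρ_notMem := fun h => hrn ((hmg ρ).1 h)
      ρ_conj := hρag
      ρ_t := hρt
      selfW := fun x hx h1 hz y hy => by
        simp only [hmw, hfconj] at hx hy ⊢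
        rw [map_mul, hτ]
        exact hs.selfW _ hx (hne h1 hz) _ hy
      selfU := fun x hx h1 hz y hy => by
        simp only [hmu, hfconj] at hx hy ⊢
        rw [hau]
        have hfx := hne h1 hz
        obtain ⟨k, hk⟩ := hx
        obtain ⟨i, hi⟩ := hy
        have hgen : u ∈ Subgroup.zpowers (f x) := by
          have h2 : orderOf (f x) = q := by
            refine ((Nat.dvd_prime hqp).1 ?_).resolve_left (mt orderOf_eq_one_iff.1 hfx)
            exact hs.u_order ▸ orderOf_dvd_of_mem ⟨k, hk⟩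
          have h3 : Subgroup.zpowers (f x) = Subgroup.zpowers u := by
            haveI : Finite (Subgroup.zpowers u) :=
              Nat.finite_of_card_ne_zero (by rw [Nat.card_zpowers, hs.u_order]; exact hqp.pos.ne')
            exact Subgroup.eq_of_le_of_card_ge (Subgroup.zpowers_le.2 ⟨k, hk⟩)
              (by rw [Nat.card_zpowers, Nat.card_zpowers, hs.u_order, h2])
          rw [h3]; exact Subgroup.mem_zpowers u
        obtain ⟨m, hm⟩ := hgen
        refine ⟨i * m, ?_⟩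
        show u ^ (i * m) = (f y)⁻¹ * u * f y
        rw [zpow_mul, show u ^ i = (f y)⁻¹ * f x * (f y)⁻¹⁻¹ by rw [inv_inv]; exact hi, conj_zpow,
          inv_inv]
        exact congrArg (fun v => (f y)⁻¹ * v * f y) hm
      kerU := fun x hx => (hmu x).2 (hs.kerU _ (by rw [← hau, ← hfconj, hx]))
      surU := fun j hj hjq => by
        obtain ⟨y, hy⟩ := hs.surU j hjq
        obtain ⟨x, rfl⟩ := hc.surj y
        exact ⟨x, hzau hj (by rw [hfconj, hau, hy, map_pow, hau])⟩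
      selfG := fun x hx h1 hz y hy => by
        simp only [hmg, hfconj] at hx hy ⊢
        rw [map_mul, hρ]
        exact hs.selfG _ hx (hne h1 hz) _ hy
      crossWU := fun x hx h1 hz y hy => by
        simp only [hmw, hmu, hfconj] at hx hy
        exact hs.crossWU _ hx (hne h1 hz) _ hy
      crossWG := fun x hx h1 hz y hy => by
        simp only [hmw, hmg, hfconj] at hx hy
        exact hs.crossWG _ hx (hne h1 hz) _ hy
      crossUG := fun x hx h1 hz y hy => by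
        simp only [hmu, hmg, hfconj] at hx hy
        exact hs.crossUG _ hx (hne h1 hz) _ hy
      invU := fun hη => by
        obtain ⟨y, hy, hyP, hyu⟩ := hs.invU hη
        obtain ⟨x, hx, hxx, hx1, hxz⟩ := hc.exists_invol_lift hy hyP
        have hq0 := hqp.pos
        refine ⟨x, hxx, hx1, hxz, hzau ⟨q - 1, by omega⟩ ?_⟩
        rw [hfconj, hau, hx, hyu, map_pow, hau]
        refine inv_eq_of_mul_eq_one_right ?_
        rw [← pow_succ', Nat.sub_add_cancel (by omega), ← orderOf_dvd_iff_pow_eq_one, hs.u_order]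
        exact dvd_mul_left _ _
      borel := fun hη => (hmu _).2 (by
        rw [map_mul, map_mul, map_inv, haw, hau]; exact hs.borel hη)
      invol := fun d hd hd1 hdz => by
        have hdo : orderOf (f d) = 2 :=
          orderOf_eq_prime (by rw [← map_pow, pow_two, hd, map_one]) (hne hd1 hdz)
        have hdP : f d ∉ P := fun h => hc.z_ne (by rw [← hc.inner d hdo h, pow_two, hd])
        obtain ⟨y, hy⟩ := isConj_iff.1 (hs.conj_outer _ _ hs.s_order hdo hs.s_notMem hdP)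
        obtain ⟨c, rfl⟩ := hc.surj y
        have h1 : f (c * τ * c⁻¹) = f d := by rw [map_mul, map_mul, map_inv, hτ, hy]
        rcases hc.eq_or_eq h1 with e | e
        · exact ⟨c, e⟩
        · obtain ⟨c', e3⟩ := hτz'
          refine ⟨c * c', ?_⟩
          calc c * c' * τ * (c * c')⁻¹
              = c * (c' * τ * c'⁻¹) * c⁻¹ := by group
            _ = zd * (c * τ * c⁻¹) := by
                rw [e3, ← mul_assoc c, ← (hc.z_comm c).eq]; group
            _ = d := by rw [e, ← mul_assoc, hc.z_sq, one_mul] }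

end Cover

end Cfsg.Agent.SDCyclic
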