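import Cfsg.Agent.Lib.Char.Induction
import Mathlib.GroupTheory.SpecificGroups.Cyclic
import Mathlib.RingTheory.RootsOfUnity.Complex

/-!
# Subgroups that are cyclic over a normalized subgroup

`CycOver L a n` : `a` normalizes `L` and has order `n` modulo `L`; `cyc L a` is the subgroup
`L⟨a⟩`, `CycOver.lam` its linear characters trivial on `L`, `sum_cyc` the coset decomposition.
-/

set_option autoImplicit false
set_option linter.style.haveILetI false
set_option linter.unusedSectionVars false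

namespace Cfsg.Agent.SDCyclic

variable {G : Type*} [Group G] [Finite G]

/-- `a` has order `n` modulo the subgroup `L` it normalizes. -/
structure CycOver (L : Subgroup G) (a : G) (n : ℕ) : Prop where
  norm : ∀ x ∈ L, a * x * a⁻¹ ∈ L
  pos : 0 < n
  mem_iff : ∀ j : ℕ, a ^ j ∈ L ↔ n ∣ j

/-- The subgroup `L⟨a⟩`. -/
def cyc (L : Subgroup G) (a : G) : Subgroup G := L ⊔ Subgroup.zpowers a

theorem left_le_cyc (L : Subgroup G) (a : G) : L ≤ cyc L a := le_sup_left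

theorem self_mem_cyc (L : Subgroup G) (a : G) : a ∈ cyc L a :=
  Subgroup.mem_sup_right (Subgroup.mem_zpowers a)

theorem mul_pow_mem_cyc {L : Subgroup G} {a x : G} (hx : x ∈ L) (j : ℕ) : x * a ^ j ∈ cyc L a :=
  mul_mem (left_le_cyc L a hx) (pow_mem (self_mem_cyc L a) j)

namespace CycOver

variable {L : Subgroup G} {a : G} {n : ℕ} (c : CycOver L a n)
include c

theorem norm_pow (j : ℕ) {x : G} (hx : x ∈ L) : a ^ j * x * (a ^ j)⁻¹ ∈ L := by
  induction j with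
  | zero => simpa
  | succ j ih =>
    rw [pow_succ', show a * a ^ j * x * (a * a ^ j)⁻¹ = a * (a ^ j * x * (a ^ j)⁻¹) * a⁻¹ by group]
    exact c.norm _ ih

theorem mem_normalizer : a ∈ Subgroup.normalizer (L : Set G) := by
  have hfin : (L : Set G).Finite := Set.toFinite _
  rw [Subgroup.mem_normalizer_iff]
  intro x
  refine ⟨c.norm x, fun h => ?_⟩
  have h1 : Set.SurjOn (fun y => a * y * a⁻¹) (L : Set G) (L : Set G) :=
    hfin.surjOn_iff_bijOn_of_mapsTo (fun y hy => c.norm y hy) |>.2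
      ((hfin.injOn_iff_bijOn_of_mapsTo (fun y hy => c.norm y hy)).1
        (fun y _ y' _ e => by simpa using e))
  obtain ⟨y, hy, e⟩ := h1 h
  have : y = x := mul_left_cancel (mul_right_cancel e)
  exact this ▸ hy

theorem mem_cyc_iff {g : G} : g ∈ cyc L a ↔ ∃ x ∈ L, ∃ j : ℕ, g = x * a ^ j := by
  refine ⟨fun hg => ?_, fun ⟨x, hx, j, hj⟩ => hj ▸ mul_pow_mem_cyc hx j⟩
  rw [cyc, sup_comm, ← SetLike.mem_coe, Subgroup.coe_mul_of_left_le_normalizer_right _ _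
    (Subgroup.zpowers_le.2 c.mem_normalizer)] at hg
  obtain ⟨y, hy, x, hx, rfl⟩ := hg
  obtain ⟨j, rfl⟩ := (mem_powers_iff_mem_zpowers.2 hy)
  exact ⟨_, c.norm_pow j hx, j, by simp⟩

theorem pow_mem_iff_modEq {i j : ℕ} : a ^ i * (a ^ j)⁻¹ ∈ L ↔ i ≡ j [MOD n] := by
  have key : ∀ i j : ℕ, j ≤ i → (a ^ i * (a ^ j)⁻¹ ∈ L ↔ i ≡ j [MOD n]) := by
    intro i j h
    obtain ⟨d, rfl⟩ := Nat.exists_eq_add_of_le h
    rw [add_comm, pow_add, mul_inv_cancel_right, c.mem_iff, Nat.ModEq.comm,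
      Nat.modEq_iff_dvd' (Nat.le_add_left j d), Nat.add_sub_cancel]
  rcases le_total j i with h | h
  · exact key i j h
  · rw [Nat.ModEq.comm, ← key j i h, ← Subgroup.inv_mem_iff, mul_inv_rev, inv_inv]

theorem pow_mem_cyc_eq {i j : ℕ} {x y : G} (hx : x ∈ L) (hy : y ∈ L)
    (h : x * a ^ i = y * a ^ j) : i ≡ j [MOD n] := by
  rw [← c.pow_mem_iff_modEq, show a ^ i * (a ^ j)⁻¹ = x⁻¹ * y by
    rw [eq_inv_mul_iff_mul_eq, ← mul_assoc, h, mul_inv_cancel_right]]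
  exact mul_mem (inv_mem hx) hy

/-- The canonical coordinates of an element of `L⟨a⟩`. -/
theorem existsUnique_coord {g : G} (hg : g ∈ cyc L a) :
    ∃ x ∈ L, ∃ i, i < n ∧ g = x * a ^ i := by
  obtain ⟨x, hx, j, rfl⟩ := c.mem_cyc_iff.1 hg
  have h1 : a ^ j * (a ^ (j % n))⁻¹ ∈ L := c.pow_mem_iff_modEq.2 (Nat.mod_modEq _ _).symm
  exact ⟨x * (a ^ j * (a ^ (j % n))⁻¹), mul_mem hx h1, j % n, Nat.mod_lt _ c.pos, by group⟩

theorem equivProd : Nonempty (L × Fin n ≃ cyc L a) := by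
  refine ⟨Equiv.ofBijective (fun p => ⟨(p.1 : G) * a ^ (p.2 : ℕ), mul_pow_mem_cyc p.1.2 _⟩)
    ⟨fun p p' h => ?_, fun g => ?_⟩⟩
  · have h' : (p.1 : G) * a ^ (p.2 : ℕ) = (p'.1 : G) * a ^ (p'.2 : ℕ) := congrArg Subtype.val h
    have h2 : (p.2 : ℕ) = p'.2 :=
      Nat.ModEq.eq_of_lt_of_lt (c.pow_mem_cyc_eq p.1.2 p'.1.2 h') p.2.2 p'.2.2
    rw [h2] at h'
    exact Prod.ext (Subtype.ext (mul_right_cancel h')) (Fin.ext h2)
  · obtain ⟨x, hx, i, hi, e⟩ := c.existsUnique_coord g.2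
    exact ⟨(⟨x, hx⟩, ⟨i, hi⟩), Subtype.ext e.symm⟩

theorem card_cyc : Nat.card (cyc L a) = Nat.card L * n := by
  obtain ⟨e⟩ := c.equivProd
  rw [← Nat.card_congr e, Nat.card_prod, Nat.card_fin]

/-- The coset decomposition of a sum over `L⟨a⟩`. -/
theorem sum_cyc [Fintype L] [Fintype (cyc L a)] {R : Type*} [AddCommMonoid R] (f : G → R) :
    ∑ g : cyc L a, f g = ∑ i ∈ Finset.range n, ∑ x : L, f ((x : G) * a ^ i) := by
  obtain ⟨e⟩ := c.equivProd
  rw [← Fin.sum_univ_eq_sum_range (fun i => ∑ x : L, f ((x : G) * a ^ i)), Finset.sum_comm,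
    ← Fintype.sum_prod_type']
  symm
  refine Fintype.sum_bijective (fun p : L × Fin n =>
    (⟨(p.1 : G) * a ^ (p.2 : ℕ), mul_pow_mem_cyc p.1.2 _⟩ : cyc L a))
    ⟨fun p p' h => ?_, fun g => ?_⟩ _ _ fun p => rfl
  · have h' : (p.1 : G) * a ^ (p.2 : ℕ) = (p'.1 : G) * a ^ (p'.2 : ℕ) := congrArg Subtype.val h
    have h2 : (p.2 : ℕ) = p'.2 :=
      Nat.ModEq.eq_of_lt_of_lt (c.pow_mem_cyc_eq p.1.2 p'.1.2 h') p.2.2 p'.2.2
    rw [h2] at h'
    exact Prod.ext (Subtype.ext (mul_right_cancel h')) (Fin.ext h2)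
  · obtain ⟨x, hx, i, hi, e⟩ := c.existsUnique_coord g.2
    exact ⟨(⟨x, hx⟩, ⟨i, hi⟩), Subtype.ext e.symm⟩

/-- The exponent of an element of `L⟨a⟩`. -/
noncomputable def expo (g : cyc L a) : ℕ := (c.mem_cyc_iff.1 g.2).choose_spec.2.choose

theorem expo_eq {g : cyc L a} {x : G} (hx : x ∈ L) {j : ℕ} (h : (g : G) = x * a ^ j) :
    c.expo g ≡ j [MOD n] := by
  obtain ⟨h1, h2⟩ := (c.mem_cyc_iff.1 g.2).choose_spec
  exact c.pow_mem_cyc_eq h1 hx (h2.choose_spec.symm.trans h)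

/-- The linear character `a ↦ ω` of `L⟨a⟩` trivial on `L`. -/
noncomputable def lam {ω : ℂ} (hω : ω ^ n = 1) : cyc L a →* ℂ where
  toFun g := ω ^ c.expo g
  map_one' := by
    refine (pow_eq_pow_of_modEq ?_ hω).trans (pow_zero ω)
    exact c.expo_eq (x := 1) L.one_mem (by simp)
  map_mul' g h := by
    rw [← pow_add]
    refine pow_eq_pow_of_modEq ?_ hω
    obtain ⟨x, hx, i, hi, eg⟩ := c.existsUnique_coord g.2
    obtain ⟨y, hy, j, hj, eh⟩ := c.existsUnique_coord h.2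
    have e : ((g * h : cyc L a) : G) = x * (a ^ i * y * (a ^ i)⁻¹) * a ^ (i + j) := by
      rw [Subgroup.coe_mul, eg, eh, pow_add]; group
    exact (c.expo_eq (mul_mem hx (c.norm_pow i hy)) e).trans
      ((c.expo_eq hx eg).add (c.expo_eq hy eh)).symm

theorem lam_apply {ω : ℂ} (hω : ω ^ n = 1) {g : cyc L a} {x : G} (hx : x ∈ L) {j : ℕ}
    (h : (g : G) = x * a ^ j) : c.lam hω g = ω ^ j :=
  pow_eq_pow_of_modEq (c.expo_eq hx h) hω

end CycOver

/-- Sums of the powers of a root of unity. -/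
theorem sum_pow_root {n : ℕ} {ω : ℂ} (hω : ω ^ n = 1) :
    ∑ i ∈ Finset.range n, ω ^ i = if ω = 1 then (n : ℂ) else 0 := by
  split_ifs with h
  · simp [h]
  · rw [geom_sum_eq h, hω, sub_self, zero_div]

end Cfsg.Agent.SDCyclic
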