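import Cfsg.Agent.Lib.PCore.Basic
import Cfsg.Agent.Lib.ZStar.Main
import Cfsg.Agent.Lib.Involution.Dihedral
import Mathlib.GroupTheory.SpecificGroups.ZGroup

/-!
# Finite groups with cyclic Sylow subgroups of odd order: local tools

* subgroups of odd prime order of a subgroup are conjugate in it;
* a commutator of `N` centralises every cyclic subgroup that `N` normalises, and for an odd
  Z-group `O` normalised by `N` it acts trivially on `O'` and on `O/O'`;
* `Oc H` is the odd core of a subgroup; an involution of `H` that is the only involution of `H`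
  commuting with it is conjugate to every involution and central modulo `Oc H` (Z*-theorem).
-/

set_option autoImplicit false
set_option linter.style.haveILetI false
set_option linter.unusedSectionVars false

namespace Cfsg.Agent.SDCyclic

open Subgroup
open scoped commutatorElement

universe u

/-- All Sylow subgroups of odd order are cyclic. -/
def CycSylow (G : Type u) [Group G] : Prop :=
  ∀ p : ℕ, p.Prime → p ≠ 2 → ∀ P : Sylow p G, IsCyclic P

variable {G : Type u} [Group G] [Finite G]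

/-! ### Conjugation -/

theorem mem_normalizer_of_conj_mem {H : Subgroup G} {n : G}
    (h : ∀ x ∈ H, n * x * n⁻¹ ∈ H) : n ∈ normalizer (H : Set G) := by
  rw [mem_normalizer_iff]
  intro x
  refine ⟨h x, fun hx => ?_⟩
  have h1 : H.map (MulAut.conj n).toMonoidHom = H := by
    refine eq_of_le_of_card_ge (map_le_iff_le_comap.2 fun y hy => h y hy) (le_of_eq ?_)
    exact (card_map_of_injective (MulAut.conj n).injective).symm
  obtain ⟨y, hy, e⟩ := h1.symm ▸ hx
  exact mul_left_cancel (mul_right_cancel e) ▸ hy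

theorem conj_mem_of_mem_normalizer {H : Subgroup G} {n x : G}
    (hn : n ∈ normalizer (H : Set G)) (hx : x ∈ H) : n * x * n⁻¹ ∈ H :=
  (mem_normalizer_iff.1 hn x).1 hx

theorem mem_normalizer_zpowers_of_conj_mem {x n : G} (h : n * x * n⁻¹ ∈ zpowers x) :
    n ∈ normalizer (zpowers x : Set G) := by
  refine mem_normalizer_of_conj_mem fun y hy => ?_
  obtain ⟨i, rfl⟩ := mem_zpowers_iff.1 hy
  rw [← conj_zpow]
  exact zpow_mem h i

theorem mem_normalizer_zpowers_of_commute {x n : G} (h : Commute n x) :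
    n ∈ normalizer (zpowers x : Set G) :=
  mem_normalizer_zpowers_of_conj_mem (by rw [h.eq, mul_inv_cancel_right]; exact mem_zpowers x)

theorem orderOf_conj (n x : G) : orderOf (n * x * n⁻¹) = orderOf x := by
  rw [← MulAut.conj_apply, MulEquiv.orderOf_eq]

theorem commute_iff_conj_eq {n x : G} : Commute n x ↔ n * x * n⁻¹ = x :=
  mul_inv_eq_iff_eq_mul.symm

/-- An element of odd order cannot invert a nontrivial element of odd order. -/
theorem eq_one_of_odd_inverter {n v : G} (hn : Odd (orderOf n)) (hv : Odd (orderOf v))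
    (h : n * v * n⁻¹ = v⁻¹) : v = 1 := by
  have key : ∀ j : ℕ, n ^ j * v * (n ^ j)⁻¹ = if Even j then v else v⁻¹ := by
    intro j
    induction j with
    | zero => simp
    | succ j ih =>
      rw [pow_succ', mul_inv_rev, show n * n ^ j * v * ((n ^ j)⁻¹ * n⁻¹) =
        n * (n ^ j * v * (n ^ j)⁻¹) * n⁻¹ by group, ih]
      simp only [Nat.even_add_one]
      split_ifs with h'
      · exact h
      · rw [show n * v⁻¹ * n⁻¹ = (n * v * n⁻¹)⁻¹ by group, h, inv_inv]
  have h1 := key (orderOf n)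
  rw [pow_orderOf_eq_one, if_neg (Nat.not_even_iff_odd.2 hn), one_mul, inv_one, mul_one] at h1
  obtain ⟨m, hm⟩ := hv
  have h2 : v ^ 2 = 1 := by rw [pow_two]; nth_rw 2 [h1]; exact mul_inv_cancel v
  have h3 := pow_orderOf_eq_one v
  rw [hm, pow_succ, pow_mul, h2, one_pow, one_mul] at h3
  exact h3

theorem commute_of_sq_commute {e v : G} (he : Odd (orderOf e)) (h : Commute (e ^ 2) v) :
    Commute e v := by
  obtain ⟨m, hm⟩ := he
  have h1 : (e ^ 2) ^ (m + 1) = e := by
    rw [← pow_mul, show 2 * (m + 1) = orderOf e + 1 by omega, pow_succ, pow_orderOf_eq_one, one_mul]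
  exact h1 ▸ h.pow_left (m + 1)

theorem eq_one_of_sq_eq_one {e : G} (he : Odd (orderOf e)) (h : e * e = 1) : e = 1 := by
  obtain ⟨m, hm⟩ := he
  have h3 := pow_orderOf_eq_one e
  rw [hm, pow_succ, pow_mul, pow_two, h, one_pow, one_mul] at h3
  exact h3

theorem odd_orderOf_of_mem {H : Subgroup G} (hH : Odd (Nat.card H)) {x : G} (hx : x ∈ H) :
    Odd (orderOf x) :=
  hH.of_dvd_nat (H.orderOf_dvd_natCard hx)

/-! ### Cyclic Sylow subgroups -/

namespace CycSylow

variable (hc : CycSylow G)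
include hc

theorem isCyclic_of_isPGroup {p : ℕ} (hp : p.Prime) (hp2 : p ≠ 2) {Q : Subgroup G}
    (hQ : IsPGroup p Q) : IsCyclic Q := by
  obtain ⟨P, hP⟩ := hQ.exists_le_sylow
  haveI := hc p hp hp2 P
  exact isCyclic_of_le hP

theorem mem_zpowers_of_orderOf_eq {p : ℕ} (hp : p.Prime) (hp2 : p ≠ 2) {Q : Subgroup G}
    (hQ : IsPGroup p Q) {x y : G} (hx : x ∈ Q) (hy : y ∈ Q) (hxo : orderOf x = p)
    (hyo : y ^ p = 1) : y ∈ zpowers x := by
  classical
  haveI := hc.isCyclic_of_isPGroup hp hp2 hQ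
  haveI := Fintype.ofFinite Q
  have hcard : (Finset.univ.filter fun a : Q => a ^ p = 1).card ≤ p :=
    IsCyclic.card_pow_eq_one_le hp.pos
  have hsub : (zpowers (⟨x, hx⟩ : Q) : Set Q) ⊆ {a | a ^ p = 1} := by
    rintro a ⟨i, rfl⟩
    apply Subtype.ext
    simp only [SubmonoidClass.coe_pow, SubgroupClass.coe_zpow, OneMemClass.coe_one]
    rw [← zpow_natCast, zpow_comm, zpow_natCast, ← hxo, pow_orderOf_eq_one, one_zpow]
  have heq : (zpowers (⟨x, hx⟩ : Q) : Set Q) = {a | a ^ p = 1} := by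
    refine Set.eq_of_subset_of_ncard_le hsub ?_ (Set.toFinite _)
    rw [← Nat.card_coe_set_eq (zpowers (⟨x, hx⟩ : Q) : Set Q), SetLike.coe_sort_coe,
      Nat.card_zpowers, Subgroup.orderOf_mk, hxo]
    rw [show {a : Q | a ^ p = 1} = ↑(Finset.univ.filter fun a : Q => a ^ p = 1) by simp,
      Set.ncard_coe_finset]
    exact hcard
  have h1 : (⟨y, hy⟩ : Q) ∈ (zpowers (⟨x, hx⟩ : Q) : Set Q) := by
    rw [heq]; exact Subtype.ext hyo
  obtain ⟨i, hi⟩ := mem_zpowers_iff.1 h1
  exact mem_zpowers_iff.2 ⟨i, by simpa using congrArg Subtype.val hi⟩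

/-- Two commuting elements of the same odd prime order generate the same subgroup. -/
theorem mem_zpowers_of_commute {p : ℕ} (hp : p.Prime) (hp2 : p ≠ 2) {x y : G} (hxo : orderOf x = p)
    (hyo : y ^ p = 1) (hxy : Commute x y) : y ∈ zpowers x := by
  haveI := Fact.mk hp
  have hQ : IsPGroup p (closure ({x, y} : Set G)) := by
    intro a
    refine ⟨1, Subtype.ext ?_⟩
    obtain ⟨m, n, e⟩ : ∃ m n : ℤ, x ^ m * y ^ n = (a : G) := by
      refine closure_induction (p := fun b _ => ∃ m n : ℤ, x ^ m * y ^ n = b) ?_ ?_ ?_ ?_ a.2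
      · rintro b (rfl | rfl)
        · exact ⟨1, 0, by simp⟩
        · exact ⟨0, 1, by simp⟩
      · exact ⟨0, 0, by simp⟩
      · rintro b c - - ⟨m, n, rfl⟩ ⟨m', n', rfl⟩
        exact ⟨m + m', n + n', by
          rw [(hxy.zpow_zpow m' n).symm.mul_mul_mul_comm, ← zpow_add, ← zpow_add]⟩
      · rintro b - ⟨m, n, rfl⟩
        exact ⟨-m, -n, by rw [mul_inv_rev, zpow_neg, zpow_neg,
          (hxy.zpow_zpow m n).inv_inv.eq]⟩
    rw [SubmonoidClass.coe_pow, ← e, pow_one, OneMemClass.coe_one, (hxy.zpow_zpow m n).mul_pow,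
      ← zpow_natCast, zpow_comm, zpow_natCast, ← hxo, pow_orderOf_eq_one, one_zpow, one_mul,
      hxo, ← zpow_natCast, zpow_comm, zpow_natCast, hyo, one_zpow]
  exact hc.mem_zpowers_of_orderOf_eq hp hp2 hQ (subset_closure (Set.mem_insert _ _))
    (subset_closure (Set.mem_insert_of_mem _ rfl)) hxo hyo

/-- Subgroups of the same odd prime order of a subgroup are conjugate in it. -/
theorem exists_conj_mem_zpowers (H : Subgroup G) {p : ℕ} (hp : p.Prime) (hp2 : p ≠ 2) {x y : G}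
    (hx : x ∈ H) (hy : y ∈ H) (hxo : orderOf x = p) (hyo : orderOf y = p) :
    ∃ h ∈ H, h * y * h⁻¹ ∈ zpowers x := by
  haveI := Fact.mk hp
  have hP : ∀ a ∈ H, orderOf a = p → ∃ P : Sylow p H, a ∈ (P : Subgroup H).map H.subtype := by
    intro a ha hao
    have h1 : IsPGroup p (zpowers (⟨a, ha⟩ : H)) := by
      refine IsPGroup.of_card (n := 1) ?_
      rw [Nat.card_zpowers, Subgroup.orderOf_mk, hao, pow_one]
    obtain ⟨P, hP⟩ := h1.exists_le_sylow
    exact ⟨P, ⟨a, ha⟩, hP (mem_zpowers _), rfl⟩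
  obtain ⟨P, hxP⟩ := hP x hx hxo
  obtain ⟨Q, hyQ⟩ := hP y hy hyo
  obtain ⟨h, hh⟩ := MulAction.exists_smul_eq H Q P
  obtain ⟨y', hy', rfl⟩ := hyQ
  refine ⟨h, h.2, hc.mem_zpowers_of_orderOf_eq hp hp2 (P.2.map H.subtype) hxP ?_ hxo ?_⟩
  · refine ⟨h * y' * h⁻¹, ?_, by simp⟩
    rw [← hh, Sylow.coe_subgroup_smul]
    exact Subgroup.smul_mem_pointwise_smul _ (MulAut.conj h) _ hy'
  · rw [conj_pow, ← hyo, pow_orderOf_eq_one, mul_one, mul_inv_cancel]

/-- Frattini argument for a subgroup of odd prime order. -/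
theorem exists_mul_mem_normalizer {H : Subgroup G} {p : ℕ} (hp : p.Prime) (hp2 : p ≠ 2) {x c : G}
    (hx : x ∈ H) (hxo : orderOf x = p) (hcx : c * x * c⁻¹ ∈ H) :
    ∃ h ∈ H, h * c ∈ normalizer (zpowers x : Set G) := by
  obtain ⟨h, hh, h1⟩ := hc.exists_conj_mem_zpowers H hp hp2 hx hcx hxo (by rw [orderOf_conj, hxo])
  refine ⟨h, hh, mem_normalizer_zpowers_of_conj_mem ?_⟩
  rwa [mul_inv_rev, show h * c * x * (c⁻¹ * h⁻¹) = h * (c * x * c⁻¹) * h⁻¹ by group]

theorem isZGroup {H : Subgroup G} (hH : Odd (Nat.card H)) : IsZGroup H := by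
  refine ⟨fun p hp P => ?_⟩
  haveI := Fact.mk hp
  by_cases hp2 : p = 2
  · subst hp2
    have h1 : Subsingleton (P : Subgroup H) := by
      obtain ⟨n, hn⟩ := IsPGroup.iff_card.1 P.2
      refine (Nat.card_eq_one_iff_unique.1 ?_).1
      have h2 : Odd (Nat.card (P : Subgroup H)) := hH.of_dvd_nat (card_subgroup_dvd_card _)
      rw [hn] at h2 ⊢
      rcases n with - | n
      · rfl
      · exact absurd h2 (Nat.not_odd_iff_even.2 (Nat.even_pow.2 ⟨even_two, n.succ_ne_zero⟩))
    exact isCyclic_of_subsingleton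
  · haveI := hc.isCyclic_of_isPGroup hp hp2 (P.2.map H.subtype)
    exact isCyclic_of_surjective ((P : Subgroup H).equivMapOfInjective _ H.subtype_injective).symm
      (MulEquiv.surjective _)

end CycSylow

/-! ### Commutators acting on cyclic groups and odd Z-groups -/

theorem commute_of_mem_commutator {A N : Subgroup G} [IsCyclic A]
    (hN : ∀ n ∈ N, n ∈ normalizer (A : Set G)) {c : G} (hc : c ∈ ⁅N, N⁆) {a : G} (ha : a ∈ A) :
    Commute c a := by
  suffices h : ⁅N, N⁆ ≤ centralizer (A : Set G) from (mem_centralizer_iff.1 (h hc) a ha).symm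
  rw [commutator_le]
  intro g hg k hk
  rw [mem_centralizer_iff]
  intro b hb
  have key : ∀ n ∈ N, ∃ i : ℤ, ∀ x ∈ A, n * x * n⁻¹ = x ^ i := by
    intro n hn
    obtain ⟨i, hi⟩ := MonoidHom.map_cyclic
      ((((MulAut.conj n).toMonoidHom).comp A.subtype).codRestrict A
        fun x => conj_mem_of_mem_normalizer (hN n hn) x.2)
    exact ⟨i, fun x hx => congrArg Subtype.val (hi ⟨x, hx⟩)⟩
  obtain ⟨i, hi⟩ := key g hg
  obtain ⟨j, hj⟩ := key k hk
  obtain ⟨b', hb', rfl⟩ : ∃ b' ∈ A, (k * g) * b' * (k * g)⁻¹ = b := by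
    have hn := inv_mem (mul_mem (hN k hk) (hN g hg))
    refine ⟨_, conj_mem_of_mem_normalizer hn hb, ?_⟩
    group
  have h1 : (g * k) * b' * (g * k)⁻¹ = (k * g) * b' * (k * g)⁻¹ := by
    rw [show (g * k) * b' * (g * k)⁻¹ = g * (k * b' * k⁻¹) * g⁻¹ by group, hj b' hb',
      hi _ (zpow_mem hb' j), show (k * g) * b' * (k * g)⁻¹ = k * (g * b' * g⁻¹) * k⁻¹ by group,
      hi b' hb', hj _ (zpow_mem hb' i), ← zpow_mul, ← zpow_mul, mul_comm]
  rw [commutatorElement_def]
  calc k * g * b' * (k * g)⁻¹ * (g * k * g⁻¹ * k⁻¹)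
      = (g * k) * b' * (g * k)⁻¹ * (g * k * g⁻¹ * k⁻¹) := by rw [h1]
    _ = _ := by group

theorem commute_of_mem_commutator_zpowers {N : Subgroup G} {x : G}
    (hN : ∀ n ∈ N, n ∈ normalizer (zpowers x : Set G)) {c : G} (hc : c ∈ ⁅N, N⁆) : Commute c x :=
  commute_of_mem_commutator hN hc (mem_zpowers x)

theorem conj_mem_commutator {O : Subgroup G} {n : G} (hn : n ∈ normalizer (O : Set G)) :
    ∀ x ∈ ⁅O, O⁆, n * x * n⁻¹ ∈ ⁅O, O⁆ := by
  intro x hx
  have h1 : O.map (MulAut.conj n).toMonoidHom ≤ O :=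
    map_le_iff_le_comap.2 fun y hy => conj_mem_of_mem_normalizer hn hy
  refine commutator_mono h1 h1 ?_
  rw [← map_commutator]
  exact ⟨x, hx, rfl⟩

/-- A commutator of `N` acts trivially on `O / O'` for an odd order Z-group `O`. -/
theorem conj_mul_inv_mem_commutator {O N : Subgroup G} (hO : IsZGroup O)
    (hN : ∀ n ∈ N, n ∈ normalizer (O : Set G)) {c : G} (hc : c ∈ ⁅N, N⁆) {x : G} (hx : x ∈ O) :
    c * x * c⁻¹ * x⁻¹ ∈ ⁅O, O⁆ := by
  haveI := hO
  haveI : IsCyclic (Abelianization O) := inferInstance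
  have key : ∀ n, ∀ hn : n ∈ N, ∃ i : ℤ, ∀ y, ∀ hy : y ∈ O,
      Abelianization.of (⟨n * y * n⁻¹, conj_mem_of_mem_normalizer (hN n hn) hy⟩ : O) =
        Abelianization.of (⟨y, hy⟩ : O) ^ i := by
    intro n hn
    obtain ⟨i, hi⟩ := MonoidHom.map_cyclic (Abelianization.map
      ((((MulAut.conj n).toMonoidHom).comp O.subtype).codRestrict O
        fun y => conj_mem_of_mem_normalizer (hN n hn) y.2))
    refine ⟨i, fun y hy => ?_⟩
    have h1 := hi (Abelianization.of (⟨y, hy⟩ : O))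
    rwa [Abelianization.map_of] at h1
  -- the elements acting trivially form a subgroup containing every commutator
  let T : Subgroup G :=
    { carrier := {n | n ∈ normalizer (O : Set G) ∧ ∀ y ∈ O, n * y * n⁻¹ * y⁻¹ ∈ ⁅O, O⁆}
      one_mem' := ⟨one_mem _, fun y _ => by simp⟩
      mul_mem' := by
        rintro a b ⟨ha, ha'⟩ ⟨hb, hb'⟩
        refine ⟨mul_mem ha hb, fun y hy => ?_⟩
        rw [show a * b * y * (a * b)⁻¹ * y⁻¹ =
          (a * (b * y * b⁻¹) * a⁻¹ * (b * y * b⁻¹)⁻¹) * (b * y * b⁻¹ * y⁻¹) by group]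
        exact mul_mem (ha' _ (conj_mem_of_mem_normalizer hb hy)) (hb' y hy)
      inv_mem' := by
        rintro a ⟨ha, ha'⟩
        refine ⟨inv_mem ha, fun y hy => ?_⟩
        have h1 := inv_mem (ha' _ (conj_mem_of_mem_normalizer (inv_mem ha) hy))
        rwa [show (a * (a⁻¹ * y * a⁻¹⁻¹) * a⁻¹ * (a⁻¹ * y * a⁻¹⁻¹)⁻¹)⁻¹ =
          a⁻¹ * y * a⁻¹⁻¹ * y⁻¹ by group] at h1 }
  suffices h : ⁅N, N⁆ ≤ T from (h hc).2 x hx
  rw [commutator_le]
  intro g hg k hk
  have hgn := hN g hg
  have hkn := hN k hk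
  refine ⟨?_, fun y hy => ?_⟩
  · rw [commutatorElement_def]
    exact mul_mem (mul_mem (mul_mem hgn hkn) (inv_mem hgn)) (inv_mem hkn)
  obtain ⟨i, hi⟩ := key g hg
  obtain ⟨j, hj⟩ := key k hk
  have hu : (k * g)⁻¹ * y * (k * g)⁻¹⁻¹ ∈ O :=
    conj_mem_of_mem_normalizer (inv_mem (mul_mem hkn hgn)) hy
  generalize hy' : (k * g)⁻¹ * y * (k * g)⁻¹⁻¹ = y' at hu
  have e1 : ⁅g, k⁆ * y * ⁅g, k⁆⁻¹ = g * (k * y' * k⁻¹) * g⁻¹ := by
    rw [← hy', commutatorElement_def]; group
  have e2 : y = k * (g * y' * g⁻¹) * k⁻¹ := by rw [← hy']; group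
  have hm1 := conj_mem_of_mem_normalizer hgn (conj_mem_of_mem_normalizer hkn hu)
  have hm2 := conj_mem_of_mem_normalizer hkn (conj_mem_of_mem_normalizer hgn hu)
  have h2 : Abelianization.of (⟨_, hm1⟩ : O) = Abelianization.of (⟨_, hm2⟩ : O) := by
    rw [hi _ (conj_mem_of_mem_normalizer hkn hu), hj y' hu,
      hj _ (conj_mem_of_mem_normalizer hgn hu), hi y' hu, ← zpow_mul, ← zpow_mul, mul_comm]
  rw [e1, e2, ← map_subtype_commutator]
  refine ⟨(⟨_, hm1⟩ : O) * (⟨_, hm2⟩ : O)⁻¹, ?_, by simp⟩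
  rw [← Abelianization.ker_of, SetLike.mem_coe, MonoidHom.mem_ker, map_mul, map_inv, h2,
    mul_inv_cancel]

/-- A commutator of `N` centralises `O'` for an odd order Z-group `O`. -/
theorem commute_commutator_of_mem {O N : Subgroup G} (hO : IsZGroup O)
    (hN : ∀ n ∈ N, n ∈ normalizer (O : Set G)) {c : G} (hc : c ∈ ⁅N, N⁆) {x : G}
    (hx : x ∈ ⁅O, O⁆) : Commute c x := by
  haveI := hO
  haveI : IsCyclic (⁅O, O⁆ : Subgroup G) := by
    haveI := IsZGroup.isCyclic_commutator O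
    rw [← map_subtype_commutator]
    exact isCyclic_of_surjective ((commutator O).equivMapOfInjective _ O.subtype_injective)
      (MulEquiv.surjective _)
  exact commute_of_mem_commutator
    (fun n hn => mem_normalizer_of_conj_mem (conj_mem_commutator (hN n hn))) hc hx

/-- An involution that is a commutator of `N` centralises the odd Z-group `O`. -/
theorem commute_of_invol_mem_commutator {O N : Subgroup G} (hO : IsZGroup O)
    (hodd : Odd (Nat.card O)) (hN : ∀ n ∈ N, n ∈ normalizer (O : Set G)) {c : G}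
    (hc : c ∈ ⁅N, N⁆) (hc2 : c * c = 1) {x : G} (hx : x ∈ O) : Commute c x := by
  obtain ⟨d, hdef⟩ : ∃ d, d = c * x * c⁻¹ * x⁻¹ := ⟨_, rfl⟩
  have hd := conj_mul_inv_mem_commutator hO hN hc hx
  rw [← hdef] at hd
  have hcd : c * d * c⁻¹ = d := commute_iff_conj_eq.1 (commute_commutator_of_mem hO hN hc hd)
  have hci : c⁻¹ = c := inv_eq_of_mul_eq_one_right hc2
  have e1 : c * x * c⁻¹ = d * x := by rw [hdef]; group
  have e2 : x = d * (d * x) := by
    calc x = c * (c * x * c⁻¹) * c⁻¹ := by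
          rw [hci, ← mul_assoc, ← mul_assoc, hc2, one_mul, mul_assoc, hc2, mul_one]
      _ = c * d * c⁻¹ * (c * x * c⁻¹) := by nth_rw 1 [e1]; group
      _ = d * (d * x) := by rw [hcd, e1]
  have hd1 : d = 1 := by
    refine eq_one_of_sq_eq_one (odd_orderOf_of_mem hodd (commutator_le_self O hd)) ?_
    rwa [← mul_assoc, eq_comm, mul_eq_right] at e2
  rw [commute_iff_conj_eq, e1, hd1, one_mul]

/-- The odd core of a subgroup, as a subgroup of the whole group. -/
def Oc (H : Subgroup G) : Subgroup G := (Cfsg.oddCore H).map H.subtype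

theorem Oc_le (H : Subgroup G) : Oc H ≤ H := map_subtype_le _

theorem odd_Oc (H : Subgroup G) : Odd (Nat.card (Oc H)) := by
  rw [Oc, card_map_of_injective H.subtype_injective]
  exact PCore.odd_card_oddCore

theorem mem_normalizer_Oc {H : Subgroup G} {n : G} (hn : n ∈ normalizer (H : Set G)) :
    n ∈ normalizer (Oc H : Set G) := by
  have hmap : H.map (MulAut.conj n).toMonoidHom = H := by
    refine eq_of_le_of_card_ge (map_le_iff_le_comap.2 fun y hy => conj_mem_of_mem_normalizer hn hy)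
      (le_of_eq ?_)
    exact (card_map_of_injective (MulAut.conj n).injective).symm
  let e : H ≃* H := (H.equivMapOfInjective _ (MulAut.conj n).injective).trans
    (MulEquiv.subgroupCongr hmap)
  have hmem : ∀ x : H, x ∈ Cfsg.oddCore H → e x ∈ Cfsg.oddCore H := by
    intro x hx
    haveI : ((Cfsg.oddCore H).map e.toMonoidHom).Normal :=
      Subgroup.Normal.map inferInstance _ e.surjective
    refine PCore.le_oddCore (N := (Cfsg.oddCore H).map e.toMonoidHom) ?_ ⟨x, hx, rfl⟩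
    rw [card_map_of_injective e.injective]
    exact PCore.odd_card_oddCore
  refine mem_normalizer_of_conj_mem ?_
  rintro _ ⟨x, hx, rfl⟩
  exact ⟨e x, hmem x hx, rfl⟩

theorem conj_mem_Oc {H : Subgroup G} {h x : G} (hh : h ∈ H) (hx : x ∈ Oc H) :
    h * x * h⁻¹ ∈ Oc H :=
  conj_mem_of_mem_normalizer (mem_normalizer_Oc (le_normalizer hh)) hx

/-- If `z` is the only involution of `H` commuting with `z`, all involutions of `H` are conjugate
to `z`. -/
theorem exists_conj_eq_of_unique {H : Subgroup G} {z : G} (hz : z ∈ H) (hz2 : orderOf z = 2)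
    (huniq : ∀ i ∈ H, orderOf i = 2 → Commute z i → i = z) {i : G} (hi : i ∈ H)
    (hi2 : orderOf i = 2) : ∃ h ∈ H, h * z * h⁻¹ = i := by
  have hz' := Involution.sq_of_orderOf_two hz2
  have hi' := Involution.sq_of_orderOf_two hi2
  rcases Nat.even_or_odd (orderOf (z * i)) with he | ho
  · obtain ⟨hj, hjz, hji⟩ := Involution.half_power_facts hz' hi' he
    have hjH : (z * i) ^ (orderOf (z * i) / 2) ∈ H := pow_mem (mul_mem hz hi) _
    have hje := huniq _ hjH hj hjz.symm
    rw [hje] at hji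
    exact ⟨1, one_mem _, by rw [huniq i hi hi2 hji]; simp⟩
  · obtain ⟨h, hh, e⟩ := Involution.exists_conj_pair_of_odd hz' hi' ho
    refine ⟨h, (closure_le H).2 ?_ hh, e⟩
    rintro a (rfl | rfl) <;> assumption

theorem commutator_mem_Oc {H : Subgroup G} {z : G} (hz : z ∈ H) (hz2 : orderOf z = 2)
    (huniq : ∀ i ∈ H, orderOf i = 2 → Commute z i → i = z) {h : G} (hh : h ∈ H) :
    z * h * z⁻¹ * h⁻¹ ∈ Oc H := by
  have hiso : Cfsg.IsIsolatedInvolution (⟨z, hz⟩ : H) := by
    refine ⟨by rw [Subgroup.orderOf_mk, hz2], fun g hg => Subtype.ext ?_⟩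
    refine huniq _ (Subgroup.mul_mem _ (Subgroup.mul_mem _ g.2 hz) (inv_mem g.2)) ?_ ?_
    · show orderOf ((g : G) * z * (g : G)⁻¹) = 2
      rw [orderOf_conj, hz2]
    · exact congrArg Subtype.val hg.eq
  exact ⟨_, ZStar.commutator_mem_oddCore (ZStar.inZStar hiso) ⟨h, hh⟩, rfl⟩

/-- If moreover `z` centralises the odd core, then `H` centralises `z`. -/
theorem le_centralizer_of_unique {H : Subgroup G} {z : G} (hz : z ∈ H) (hz2 : orderOf z = 2)
    (huniq : ∀ i ∈ H, orderOf i = 2 → Commute z i → i = z)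
    (htriv : ∀ o ∈ Oc H, Commute z o) : H ≤ centralizer ({z} : Set G) := by
  intro h hh
  have ho := commutator_mem_Oc hz hz2 huniq hh
  generalize heq : z * h * z⁻¹ * h⁻¹ = o at ho
  have hzz := Involution.sq_of_orderOf_two hz2
  have hzi := Involution.inv_of_orderOf_two hz2
  have e1 : h * z * h⁻¹ = z * o := by
    rw [← heq, hzi, ← mul_assoc, ← mul_assoc, ← mul_assoc, hzz, one_mul]
  have h2 : (z * o) * (z * o) = 1 := by
    rw [← e1, show h * z * h⁻¹ * (h * z * h⁻¹) = h * (z * z) * h⁻¹ by group, hzz]; group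
  rw [(htriv o ho).symm.mul_mul_mul_comm, hzz, one_mul] at h2
  have ho1 := eq_one_of_sq_eq_one (odd_orderOf_of_mem (odd_Oc H) ho) h2
  rw [ho1, mul_one, ← commute_iff_conj_eq] at e1
  exact mem_centralizer_singleton_iff.2 e1.eq

end Cfsg.Agent.SDCyclic
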