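import Cfsg.Agent.Lib.SDCyclic.CycOver

/-!
# The centralizer of an involution for semidihedral Sylow 2-subgroups and cyclic odd Sylow subgroups

`Cent z q η l g o` : all involutions are conjugate to `z`; modulo `K` (an odd normal subgroup of
`C = C(z)`) the centralizer is the double cover of `PGL₂(q)` with semidihedral Sylow 2-subgroups,
described by its three maximal cyclic subgroups `Aw`, `Au`, `Bg` (and `Ag = Bg⟨t⟩`), their
normalizers and the triviality of their intersections with each other's conjugates.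

`Z` below is `K⟨z⟩`; `W = 2 ^ l * o = q + η`, `q - η = 2 g`.
-/

set_option autoImplicit false

namespace Cfsg.Agent.SDCyclic

universe u

/-- The structure of the centralizer of the involution `z`. -/
structure Cent {G : Type u} [Group G] [Finite G] (z : G) (q : ℕ) (η : ℤ) (l g o : ℕ) where
  K : Subgroup G
  aw : G
  au : G
  ag : G
  t : G
  τ : G
  ρ : G
  hq : q.Prime
  hη : η = 1 ∨ η = -1
  hl : 2 ≤ l
  hg : Odd g
  ho : Odd o
  hqp : (q : ℤ) + η = 2 ^ l * o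
  hqm : (q : ℤ) - η = 2 * g
  zorder : orderOf z = 2
  conjAll : ∀ s : G, orderOf s = 2 → IsConj z s
  K_le : ∀ k ∈ K, Commute z k
  oddK : Odd (Nat.card K)
  normK : ∀ c, Commute z c → ∀ k ∈ K, c * k * c⁻¹ ∈ K
  card_C : Nat.card (Subgroup.centralizer ({z} : Set G)) =
    4 * q * (2 ^ l * o) * g * Nat.card K
  comm_w : Commute z aw
  comm_u : Commute z au
  comm_g : Commute z ag
  comm_t : Commute z t
  comm_τ : Commute z τ
  comm_ρ : Commute z ρ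
  cw : CycOver K aw (2 * (2 ^ l * o))
  cu : CycOver K au (2 * q)
  cg : CycOver K ag (2 * g)
  cgt : CycOver (K ⊔ Subgroup.zpowers t) ag (2 * g)
  zw : aw ^ (2 ^ l * o) * z ∈ K
  zu : au ^ q * z ∈ K
  zg : ag ^ g * z ∈ K
  t_order : orderOf t = 2
  t_notMem : t ∉ cyc K ag
  t_comm : t * ag * t⁻¹ * ag⁻¹ ∈ K
  τ_order : orderOf τ = 2
  τ_notMem : τ ∉ cyc K aw
  τ_conj : τ * aw * τ⁻¹ * (aw ^ (2 ^ l * o - 1))⁻¹ ∈ K
  ρ_notMem : ρ ∉ cyc (K ⊔ Subgroup.zpowers t) ag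
  ρ_conj : ρ * ag * ρ⁻¹ * ag ∈ K
  ρ_t : ρ * t * ρ⁻¹ * (z * t) ∈ K
  selfW : ∀ a ∈ cyc K aw, a ∉ K ⊔ Subgroup.zpowers z → ∀ x, Commute z x →
    x⁻¹ * a * x ∈ cyc K aw → x ∈ cyc K aw ∨ x * τ ∈ cyc K aw
  selfU : ∀ a ∈ cyc K au, a ∉ K ⊔ Subgroup.zpowers z → ∀ x, Commute z x →
    x⁻¹ * a * x ∈ cyc K au → x⁻¹ * au * x ∈ cyc K au
  kerU : ∀ x, Commute z x → x⁻¹ * au * x * au⁻¹ ∈ K → x ∈ cyc K au
  surU : ∀ j : ℕ, Odd j → ¬ q ∣ j →
    ∃ x, Commute z x ∧ x⁻¹ * au * x * (au ^ j)⁻¹ ∈ K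
  selfG : ∀ a ∈ cyc (K ⊔ Subgroup.zpowers t) ag, a ∉ K ⊔ Subgroup.zpowers z → ∀ x, Commute z x →
    x⁻¹ * a * x ∈ cyc (K ⊔ Subgroup.zpowers t) ag →
      x ∈ cyc (K ⊔ Subgroup.zpowers t) ag ∨ x * ρ ∈ cyc (K ⊔ Subgroup.zpowers t) ag
  crossWU : ∀ a ∈ cyc K aw, a ∉ K ⊔ Subgroup.zpowers z → ∀ x, Commute z x →
    x⁻¹ * a * x ∉ cyc K au
  crossWG : ∀ a ∈ cyc K aw, a ∉ K ⊔ Subgroup.zpowers z → ∀ x, Commute z x →
    x⁻¹ * a * x ∉ cyc (K ⊔ Subgroup.zpowers t) ag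
  crossUG : ∀ a ∈ cyc K au, a ∉ K ⊔ Subgroup.zpowers z → ∀ x, Commute z x →
    x⁻¹ * a * x ∉ cyc (K ⊔ Subgroup.zpowers t) ag
  coprimeK : 5 ≤ q → (Nat.card K).Coprime (q * (2 ^ l * o) * g)
  invU : η = 1 → ∃ x, orderOf x = 2 ∧ Commute z x ∧ x⁻¹ * au * x * (au ^ (2 * q - 1))⁻¹ ∈ K
  borel : η = -1 → aw * au * aw⁻¹ ∈ cyc K au
  conjNC : ∀ s, orderOf s = 2 → Commute z s → s ≠ z → ∃ c, Commute z c ∧ c * τ * c⁻¹ = s

namespace Cent

variable {G : Type u} [Group G] [Finite G] {z : G} {q : ℕ} {η : ℤ} {l g o : ℕ}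
  (d : Cent z q η l g o)

/-- `q + η`. -/
abbrev W (_d : Cent z q η l g o) : ℕ := 2 ^ l * o

/-- `K⟨z⟩`. -/
abbrev KZ : Subgroup G := d.K ⊔ Subgroup.zpowers z

/-- The maximal cyclic subgroup of order `2 (q + η)` modulo `K`. -/
abbrev Aw : Subgroup G := cyc d.K d.aw

/-- The subgroup of order `2 q` modulo `K`. -/
abbrev Au : Subgroup G := cyc d.K d.au

/-- The cyclic subgroup of order `2 g` modulo `K`. -/
abbrev Bg : Subgroup G := cyc d.K d.ag

/-- The centralizer modulo `K` of the noncentral involution `t`. -/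
abbrev Ag : Subgroup G := cyc (d.K ⊔ Subgroup.zpowers d.t) d.ag

/-- The number of elements of `K` inverted by `τ`. -/
noncomputable def invNum : ℕ := Nat.card {k : d.K // (d.τ * (k : G)) * (d.τ * (k : G)) = 1}

/-- What the Sylow structure of the whole group gives: with `R = |G : C|` and `I = invNum`,
`R ≡ 1` modulo the `q`-part of `|C|` or `I = 1` and the number `M` of involutions commuting with an
element of order `q` is small, and `R` is coprime to the order of `C` except for a possible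
factor `3`. -/
def LocalFacts : Prop :=
  ∃ k : ℕ, q ^ k ∣ d.invNum ∧ ¬ q ^ (k + 1) ∣ d.invNum ∧
    Odd (Subgroup.centralizer ({z} : Set G)).index ∧
    ¬ q ∣ (Subgroup.centralizer ({z} : Set G)).index ∧
    ((Subgroup.centralizer ({z} : Set G)).index ≡ 1 [MOD q ^ (k + 1)] ∨
      d.invNum = 1 ∧ ∃ M, Odd M ∧ (Subgroup.centralizer ({z} : Set G)).index ≡ M [MOD q] ∧
        (η = 1 ∧ M ∣ g ∨ η = -1 ∧ M ∣ (Subgroup.centralizer ({z} : Set G)).index ∧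
          ∀ p : ℕ, p.Prime → p ∣ M → 2 * (2 ^ l * o) ∣ p - 1)) ∧
    ((Subgroup.centralizer ({z} : Set G)).index.Coprime (2 ^ l * o * g * d.invNum) ∨
      ∃ R', (Subgroup.centralizer ({z} : Set G)).index = 3 * R' ∧ R' ≡ 1 [MOD 3] ∧
        R'.Coprime (2 ^ l * o * g) ∧ d.invNum = 1 ∧ 3 ∣ g)

end Cent

end Cfsg.Agent.SDCyclic
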