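import Cfsg.Agent.Lib.SDCyclic.AtZ
import Cfsg.Agent.Lib.SDCyclic.Arith
import Cfsg.Agent.Lib.Char.Descend
import Cfsg.Agent.Lib.ZStar.Assemble

/-!
# The exclusion from the structure of the centralizer and the local facts

The order formula with `ε X(z) = E + D (q - η)` contradicts the arithmetic of the index.
-/

set_option autoImplicit false
set_option linter.style.haveILetI false
set_option linter.unusedSectionVars false

namespace Cfsg.Agent.SDCyclic

open Cfsg

universe u

variable {G : Type u} [Group G] [Finite G] {z : G} {q : ℕ} {η : ℤ} {l g o : ℕ}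

namespace Cent

variable (d : Cent z q η l g o)
include d

theorem not_two_pow_dvd_card (hR : Odd (Subgroup.centralizer ({z} : Set G)).index) :
    ¬ 2 ^ (l + 3) ∣ Nat.card G := by
  rw [← (Subgroup.centralizer ({z} : Set G)).card_mul_index, d.card_C,
    show 4 * q * (2 ^ l * o) * g * Nat.card d.K * (Subgroup.centralizer ({z} : Set G)).index =
      2 ^ (l + 2) * (q * o * g * Nat.card d.K * (Subgroup.centralizer ({z} : Set G)).index) by ring,
    show l + 3 = l + 2 + 1 from rfl, pow_succ]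
  intro h
  have h2 := Nat.dvd_of_mul_dvd_mul_left (Nat.two_pow_pos _) h
  exact absurd (((((d.q_odd.mul d.ho).mul d.hg).mul d.oddK).mul hR).of_dvd_nat h2) (by decide)

theorem false_of_localFacts (h : d.LocalFacts) : False := by
  haveI := Fintype.ofFinite G
  obtain ⟨k, hk, hk', hodd, hRn, hcong, hcop⟩ := h
  obtain ⟨M, hM⟩ := ZStar.exists_isPModular_two
  obtain ⟨ξ, hξ⟩ : ∃ ξ : ℂ, IsPrimitiveRoot ξ q :=
    ⟨_, Complex.isPrimitiveRoot_exp q d.hq.ne_zero⟩
  obtain ⟨e⟩ := exists_exceptional d hξ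
  set R := (Subgroup.centralizer ({z} : Set G)).index
  set Δ : ℤ := e.ε * (charDegree e.X.1 : ℤ) with hΔdef
  have hΔ : (e.ε : ℂ) * e.X.1 1 = Δ := by
    rw [hΔdef, ← Char.charDegree_cast]
    push_cast
    rfl
  have hx : (e.ε : ℂ) * e.X.1 z = ((e.E + e.D * ((q : ℤ) - η) : ℤ) : ℂ) := by
    rw [X_apply_z d hξ e hM, d.hqm]
    push_cast
    ring
  obtain ⟨hΔ1, hform⟩ := d.order_formula e hx hΔ
  have hdeg : ∀ χ : IrrCharacter G, ¬ 2 ^ (l + 3) ∣ charDegree χ.1 := fun χ hd =>
    d.not_two_pow_dvd_card hodd (hd.trans (Char.charDegree_dvd_card χ))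
  have hD0 : Δ ≠ 0 := by
    rw [hΔdef]
    have := Char.charDegree_pos e.X
    rcases e.hε with h | h <;> rw [h] <;> omega
  have h2D : ¬ (2 : ℤ) ^ (l + 3) ∣ Δ := by
    intro hd
    apply hdeg e.X
    have h1 : (2 : ℤ) ^ (l + 3) ∣ (charDegree e.X.1 : ℤ) := by
      rcases e.hε with h | h <;> rw [hΔdef, h] at hd <;> simpa using hd
    exact_mod_cast h1
  have h2D' : ¬ (2 : ℤ) ^ (l + 3) ∣ Δ + 1 := by
    intro hd
    apply hdeg e.v
    have hv : (e.δ * (charDegree e.v.1 : ℤ) : ℤ) = -(1 + Δ) := by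
      have h := e.decomp 1
      rw [d.alpha_one, hΔ, ← Char.charDegree_cast] at h
      have h' : ((e.δ * (charDegree e.v.1 : ℤ) : ℤ) : ℂ) = ((-(1 + Δ) : ℤ) : ℂ) := by
        push_cast
        linear_combination -h
      exact_mod_cast h'
    have h1 : (2 : ℤ) ^ (l + 3) ∣ (charDegree e.v.1 : ℤ) := by
      have h' : (2 : ℤ) ^ (l + 3) ∣ e.δ * (charDegree e.v.1 : ℤ) := by
        rw [hv, dvd_neg, add_comm 1 Δ]
        exact hd
      rcases e.hδ with h | h <;> rw [h] at h' <;> simpa using h'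
    exact_mod_cast h1
  have hη2 : η * η = 1 := by rcases d.hη with h | h <;> subst h <;> norm_num
  have hWg : ((2 ^ l * o * g : ℕ) : ℤ) * 2 = (q : ℤ) ^ 2 - 1 := by
    push_cast
    linear_combination -(2 * (g : ℤ)) * d.hqp - ((q : ℤ) + η) * d.hqm + (-1 : ℤ) * hη2
  have hI : ∀ {a : ℕ}, Nat.Coprime R a → IsCoprime (R : ℤ) (a : ℤ) := fun h =>
    Int.isCoprime_iff_gcd_eq_one.2 (by simpa using h)
  have hR2 : IsCoprime (R : ℤ) (2 : ℤ) := by
    simpa using hI (Nat.coprime_two_right.2 hodd)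
  refine false_of_data (q := q) (η := η) d.hq d.hη d.hl (g := (g : ℤ)) (o := (o : ℤ))
    (by exact_mod_cast d.hg) d.hqm d.hqp (R := (R : ℤ)) (I := (d.invNum : ℤ)) (D := Δ)
    (e := e.E) (d := e.D) (by exact_mod_cast hodd) hD0 hΔ1 e.hE e.hD hform (k := k)
    (by exact_mod_cast hk) (by exact_mod_cast hk') (by exact_mod_cast hRn) ?_ ?_ h2D h2D'
  · rcases hcong with h | ⟨h1, N, hN, hmod, hcase⟩
    · left
      have := Nat.ModEq.dvd h.symm
      exact_mod_cast this
    · refine Or.inr ⟨by exact_mod_cast h1, N, by exact_mod_cast hN, by exact_mod_cast hN.pos,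
        Nat.modEq_iff_dvd.1 hmod.symm, ?_⟩
      rcases hcase with ⟨he, hd⟩ | ⟨he, hd, hp⟩
      · exact Or.inl ⟨he, by exact_mod_cast hd⟩
      · refine Or.inr ⟨he, by exact_mod_cast hd, fun p hp' hpN => ?_⟩
        have h2 := hp p hp' (by exact_mod_cast hpN)
        have h3 : ((2 * (2 ^ l * o) : ℕ) : ℤ) = 2 * ((q : ℤ) - 1) := by
          push_cast
          linear_combination -2 * d.hqp + 2 * he
        rw [← h3, show (p : ℤ) - 1 = ((p - 1 : ℕ) : ℤ) by
          rw [Nat.cast_sub hp'.one_le, Nat.cast_one]]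
        exact Int.natCast_dvd_natCast.2 h2
  · rcases hcop with h | ⟨R', h1, h2, h3, h4, h5⟩
    · left
      rw [Nat.coprime_mul_iff_right] at h
      rw [← hWg]
      exact ((hI h.1).mul_right hR2).mul_right (hI h.2)
    · refine Or.inr ⟨(R' : ℤ), by exact_mod_cast h1, ?_, ?_, by exact_mod_cast h4, ?_⟩
      · exact_mod_cast Nat.modEq_iff_dvd.1 h2.symm
      · rw [← hWg]
        refine IsCoprime.mul_right (Int.isCoprime_iff_gcd_eq_one.2 ?_) ?_
        · rw [Int.gcd_natCast_natCast]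
          exact h3
        have : IsCoprime (R : ℤ) (2 : ℤ) := hR2
        rw [h1] at this
        push_cast at this
        exact this.of_mul_left_right
      · rw [d.hqm]
        exact (Int.natCast_dvd_natCast.2 h5).mul_left 2

end Cent

end Cfsg.Agent.SDCyclic
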