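import Cfsg.Agent.Lib.SDCyclic.Values

/-!
# The exceptional class functions and their inner products

`alpha`, `beta` and `Gam ω` are induced from `Aw`, `FU` from `Au`, `GB` from `Bg`; `Om ω = FU - Gam ω`
and `F0 = GB - 2 FU`.
-/

set_option autoImplicit false
set_option linter.style.haveILetI false
set_option linter.unusedSectionVars false

namespace Cfsg.Agent.SDCyclic

open Cfsg
open scoped ComplexConjugate

universe u

variable {G : Type u} [Group G] [Fintype G]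

/-- Multiplicities through the exponents. -/
theorem classInner_wt {L : Subgroup G} {a : G} {n : ℕ} (c : CycOver L a n) {f : ℕ → ℂ}
    (hf : Function.Periodic f n) {Φ : G → ℂ} (hΦ : IsClassFunction G Φ) {V : ℕ → ℂ}
    (hV : ∀ i, i < n → f i ≠ 0 → ∀ k ∈ L, Φ (k * a ^ i) = V i) :
    classInner (indFun (cyc L a) (c.wt f)) Φ =
      (n : ℂ)⁻¹ * ∑ i ∈ Finset.range n, f i * conj (V i) := by
  classical
  haveI := Fintype.ofFinite L
  haveI := Fintype.ofFinite (cyc L a)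
  rw [Char.classInner_indFun _ _ hΦ, classInner,
    Finset.sum_congr rfl (g := fun x : cyc L a =>
      (fun y => extendByZero (cyc L a) (c.wt f) y * conj (Φ y)) x) fun x _ => by
        simp only [Char.extendByZero_coe],
    c.sum_cyc fun y => extendByZero (cyc L a) (c.wt f) y * conj (Φ y),
    Finset.sum_congr rfl (g := fun i => (Nat.card L : ℂ) * (f i * conj (V i))) fun i hi => ?_,
    ← Finset.mul_sum, c.card_cyc, Nat.cast_mul, mul_inv]
  · rw [mul_comm ((Nat.card L : ℂ))⁻¹, mul_assoc, ← mul_assoc ((Nat.card L : ℂ))⁻¹,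
      inv_mul_cancel₀ Char.card_ne_zero, one_mul]
  · rw [Finset.sum_congr rfl (g := fun _ => f i * conj (V i)) fun x _ => ?_, Finset.sum_const,
      Finset.card_univ, nsmul_eq_mul, Nat.card_eq_fintype_card]
    rw [c.ext_wt hf x.2 rfl]
    by_cases h : f i = 0
    · rw [h, zero_mul, zero_mul]
    · rw [hV i (Finset.mem_range.1 hi) h x x.2]

theorem card_ne (A : Subgroup G) : (Nat.card A : ℂ) ≠ 0 := Nat.cast_ne_zero.2 Nat.card_pos.ne'

theorem periodic_pow {n : ℕ} {x : ℂ} (hx : x ^ n = 1) : Function.Periodic (fun i => x ^ i) n :=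
  fun i => by simp only [pow_add, hx, mul_one]

theorem periodic_pow_sub {n : ℕ} {x y : ℂ} (hx : x ^ n = 1) (hy : y ^ n = 1) :
    Function.Periodic (fun i => x ^ i - y ^ i) n :=
  fun i => by simp only [pow_add, hx, hy, mul_one]

theorem conj_root {n : ℕ} (hn : n ≠ 0) {x : ℂ} (hx : x ^ n = 1) : conj x = x⁻¹ :=
  (Complex.inv_eq_conj (Complex.norm_eq_one_of_pow_eq_one hx hn)).symm

open Classical in
theorem sum_pow_conj {n : ℕ} (hn : n ≠ 0) {x u : ℂ} (hx : x ^ n = 1) (hu : u ^ n = 1) :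
    ∑ i ∈ Finset.range n, x ^ i * conj (u ^ i) = if x = u then (n : ℂ) else 0 := by
  have hu0 : u ≠ 0 := fun h => by simp [h, zero_pow hn] at hu
  simp only [map_pow, conj_root hn hu, ← mul_pow]
  rw [sum_pow_root (by rw [mul_pow, hx, inv_pow, hu, inv_one, mul_one])]
  exact if_congr (by rw [mul_inv_eq_one₀ hu0]) rfl rfl

namespace Cent

variable {z : G} {q : ℕ} {η : ℤ} {l g o : ℕ} (d : Cent z q η l g o)
include d

theorem cwW : CycOver d.K d.aw (2 * d.W) := d.cw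

theorem zwW : d.aw ^ d.W * z ∈ d.K := d.zw

/-- An element with `z` as a power. -/
theorem exists_pow_eq_z {a : G} {h : ℕ} (c : CycOver d.K a (2 * h)) (hz : a ^ h * z ∈ d.K)
    {k : G} (hk : k ∈ d.K) {i m : ℕ} (him : i * m ≡ h [MOD 2 * h]) :
    ∃ N, (k * a ^ i) ^ N = z := by
  obtain ⟨y, hy, e⟩ := c.mul_pow_pow hk i m
  obtain ⟨w, hw, hzw⟩ := d.z_eq_coset c hz
  have h1 : a ^ (i * m) * (a ^ h)⁻¹ ∈ d.K := c.pow_mem_iff_modEq.2 him
  have hy' : y * (a ^ (i * m) * (a ^ h)⁻¹) * w⁻¹ ∈ d.K := mul_mem (mul_mem hy h1) (inv_mem hw)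
  refine ⟨m * Nat.card d.K, ?_⟩
  rw [pow_mul, e, show y * a ^ (i * m) = y * (a ^ (i * m) * (a ^ h)⁻¹) * w⁻¹ * z by rw [hzw]; group,
    (d.K_le _ hy').symm.mul_pow, orderOf_dvd_iff_pow_eq_one.1
      (Subgroup.orderOf_dvd_natCard d.K hy'), one_mul]
  obtain ⟨s, hs⟩ := d.oddK
  rw [hs, pow_succ, pow_mul, pow_two, d.z_sq, one_pow, one_mul]

theorem exists_mul_modEq_W {i : ℕ} (h : ¬ 2 ^ (l + 1) ∣ i) :
    ∃ m, i * m ≡ d.W [MOD 2 * d.W] := by
  have hi : i ≠ 0 := fun hi => h (hi ▸ dvd_zero _)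
  obtain ⟨e, i', hi', rfl⟩ := Nat.exists_eq_two_pow_mul_odd hi
  have he : e ≤ l := by
    by_contra hc
    exact h ((pow_dvd_pow 2 (by omega : l + 1 ≤ e)).mul_right i')
  obtain ⟨m, rfl⟩ := hi'
  refine ⟨o * 2 ^ (l - e), ?_⟩
  have h1 : 2 ^ e * (2 * m + 1) * (o * 2 ^ (l - e)) = d.W + m * (2 * d.W) := by
    have h2 : (2 : ℕ) ^ e * 2 ^ (l - e) = 2 ^ l := by rw [← pow_add]; congr 1; omega
    show _ = 2 ^ l * o + m * (2 * (2 ^ l * o))
    rw [← h2]; ring
  rw [h1]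
  exact Nat.add_mul_mod_self_right _ _ _

theorem inv_W : (2 * d.W : ℕ) ≠ 0 := by have := d.W_pos; omega

theorem sum_eq_sumC' {a : G} {h : ℕ} (c : CycOver d.K a (2 * h)) (hz : a ^ h * z ∈ d.K)
    (f : ℕ → ℂ) {x : G} (hx : ∃ m : ℕ, x ^ m = z) :
    indFun (cyc d.K a) (c.wt f) x =
      (Nat.card (cyc d.K a) : ℂ)⁻¹ * sumC z (cyc d.K a) (c.wt f) x := by
  obtain ⟨m, hm⟩ := hx
  exact sum_eq_sumC (fun s hs h2 => d.eq_z_of_sq c hz hs h2) d.z_sq d.z_ne_one _ hm

/-- The value at `zK` of a function induced from a subgroup cyclic over `K`. -/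
theorem ind_zK {a : G} {h : ℕ} (c : CycOver d.K a (2 * h)) (hz : a ^ h * z ∈ d.K) {f : ℕ → ℂ}
    (hf : Function.Periodic f (2 * h)) {k : G} (hk : k ∈ d.K) :
    indFun (cyc d.K a) (c.wt f) (k * a ^ h) =
      ((4 * q * d.W * g : ℕ) : ℂ) / ((2 * h : ℕ) : ℂ) * f h := by
  obtain ⟨w, hw, hzw⟩ := d.z_eq_coset c hz
  have e : k * a ^ h = z * (k * w⁻¹) := by
    rw [(d.K_le _ (mul_mem hk (inv_mem hw))).eq, hzw]; group
  have him : h * 1 ≡ h [MOD 2 * h] := by rw [mul_one]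
  rw [d.sum_eq_sumC' c hz f (d.exists_pow_eq_z c hz hk him), e,
    d.sumC_zK c le_rfl hz hf (mul_mem hk (inv_mem hw)), c.card_cyc, d.card_C]
  have h2 : (Nat.card d.K : ℂ) ≠ 0 := card_ne _
  have h3 : (h : ℂ) ≠ 0 := Nat.cast_ne_zero.2 (by have := c.pos; omega)
  simp only [Cent.W]
  push_cast
  field_simp

/-- `x ^ i - y ^ i` as a weight on `Aw`. -/
noncomputable def PhiW (x y : ℂ) : G → ℂ := indFun d.Aw (d.cwW.wt fun i => x ^ i - y ^ i)

/-- The function induced from `Au`. -/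
noncomputable def FU (ξ : ℂ) : G → ℂ := indFun d.Au (d.cu.wt fun i => ξ ^ i - (-ξ) ^ i)

/-- The function induced from `Bg`. -/
noncomputable def GB : G → ℂ := indFun d.Bg (d.cg.wt fun i => (1 : ℂ) ^ i - (-1) ^ i)

/-- Roots of unity usable on `Aw`: they are roots of order dividing `2 ^ (l + 1)`. -/
def RootW (_d : Cent z q η l g o) (x : ℂ) : Prop := x ^ 2 ^ (l + 1) = 1

theorem RootW.pow_two_W {x : ℂ} (hx : d.RootW x) : x ^ (2 * d.W) = 1 := by
  rw [show 2 * d.W = 2 ^ (l + 1) * o by rw [Cent.W]; ring, pow_mul, hx, one_pow]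

theorem RootW.pow_eq_one {x : ℂ} (hx : d.RootW x) {i : ℕ} (hi : 2 ^ (l + 1) ∣ i) : x ^ i = 1 := by
  obtain ⟨m, rfl⟩ := hi
  rw [pow_mul, hx, one_pow]

theorem isClassFunction_PhiW (x y : ℂ) : IsClassFunction G (d.PhiW x y) :=
  Char.isClassFunction_indFun _ _

theorem isClassFunction_FU (ξ : ℂ) : IsClassFunction G (d.FU ξ) :=
  Char.isClassFunction_indFun _ _

theorem isClassFunction_GB : IsClassFunction G d.GB := Char.isClassFunction_indFun _ _

/-- An exponent with nonzero weight is a `z`-exponent or lies off `K⟨z⟩`. -/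
theorem cases_W {i : ℕ} (hi : i < 2 * d.W) (h0 : i ≠ 0) : i = d.W ∨ ¬ d.W ∣ i := by
  by_cases h : d.W ∣ i
  · obtain ⟨m, rfl⟩ := h
    have h1 : m < 2 := Nat.lt_of_mul_lt_mul_left (a := d.W) (by rwa [mul_comm d.W 2])
    interval_cases m
    · exact absurd (mul_zero _) h0
    · exact Or.inl (mul_one _)
  · exact Or.inr h

theorem weight_ne_zero {x y : ℂ} (hx : d.RootW x) (hy : d.RootW y) {i : ℕ}
    (h : x ^ i - y ^ i ≠ 0) : i ≠ 0 ∧ ¬ 2 ^ (l + 1) ∣ i := by
  refine ⟨fun h0 => h (by rw [h0]; simp), fun hd => h ?_⟩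
  rw [RootW.pow_eq_one d hx hd, RootW.pow_eq_one d hy hd, sub_self]

/-- Values of `PhiW` on `Aw`. -/
theorem PhiW_Aw {x y : ℂ} (hx : d.RootW x) (hy : d.RootW y) {k : G} (hk : k ∈ d.K) {i : ℕ}
    (hi : ¬ d.W ∣ i) (hz : ¬ 2 ^ (l + 1) ∣ i) :
    d.PhiW x y (k * d.aw ^ i) =
      (x ^ i - y ^ i) + (x ^ ((d.W - 1) * i) - y ^ ((d.W - 1) * i)) := by
  obtain ⟨m, hm⟩ := d.exists_mul_modEq_W hz
  rw [PhiW, d.sum_eq_sumC' d.cwW d.zwW _ (d.exists_pow_eq_z d.cwW d.zwW hk hm),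
    d.sumC_Aw (periodic_pow_sub (RootW.pow_two_W d hx) (RootW.pow_two_W d hy)) hk hi,
    ← mul_assoc, inv_mul_cancel₀ (card_ne _), one_mul]

theorem PhiW_zK {x y : ℂ} (hx : d.RootW x) (hy : d.RootW y) {k : G} (hk : k ∈ d.K) :
    d.PhiW x y (k * d.aw ^ d.W) = (2 * q * g : ℕ) * (x ^ d.W - y ^ d.W) := by
  rw [PhiW, d.ind_zK d.cwW d.zwW (periodic_pow_sub (RootW.pow_two_W d hx) (RootW.pow_two_W d hy)) hk]
  have hW := d.W_pos
  generalize d.W = W at *
  have hW' : (W : ℂ) ≠ 0 := Nat.cast_ne_zero.2 hW.ne'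
  push_cast
  field_simp
  ring

open Classical in
/-- Inner products on `Aw`. -/
theorem inner_PhiW {x y u v : ℂ} (hx : d.RootW x) (hy : d.RootW y) (hu : d.RootW u)
    (hv : d.RootW v) :
    classInner (d.PhiW x y) (d.PhiW u v) =
      ((if x = u then 1 else 0) - (if x = v then 1 else 0) - (if y = u then 1 else 0) +
        (if y = v then 1 else 0)) +
      ((if x = u ^ (d.W - 1) then 1 else 0) - (if x = v ^ (d.W - 1) then 1 else 0) -
        (if y = u ^ (d.W - 1) then 1 else 0) + (if y = v ^ (d.W - 1) then 1 else 0)) +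
      ((2 * q * g : ℕ) - 2 : ℂ) / (2 * d.W : ℕ) *
        ((x ^ d.W - y ^ d.W) * conj (u ^ d.W - v ^ d.W)) := by
  have hn := d.inv_W
  have hW1 : ∀ w : ℂ, d.RootW w → (w ^ (d.W - 1)) ^ (2 * d.W) = 1 := fun w hw => by
    rw [← pow_mul, mul_comm, pow_mul, RootW.pow_two_W d hw, one_pow]
  rw [show d.PhiW x y = indFun d.Aw (d.cwW.wt fun i => x ^ i - y ^ i) from rfl,
    classInner_wt d.cwW (periodic_pow_sub (RootW.pow_two_W d hx) (RootW.pow_two_W d hy))
      (d.isClassFunction_PhiW u v)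
      (V := fun i => (u ^ i - v ^ i) + ((u ^ (d.W - 1)) ^ i - (v ^ (d.W - 1)) ^ i) +
        if i = d.W then ((2 * q * g : ℕ) - 2 : ℂ) * (u ^ d.W - v ^ d.W) else 0) ?_]
  · simp only [map_add, map_sub, mul_add, Finset.sum_add_distrib, sub_mul, mul_sub,
      Finset.sum_sub_distrib]
    rw [sum_pow_conj hn (RootW.pow_two_W d hx) (RootW.pow_two_W d hu),
      sum_pow_conj hn (RootW.pow_two_W d hx) (RootW.pow_two_W d hv),
      sum_pow_conj hn (RootW.pow_two_W d hy) (RootW.pow_two_W d hu),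
      sum_pow_conj hn (RootW.pow_two_W d hy) (RootW.pow_two_W d hv),
      sum_pow_conj hn (RootW.pow_two_W d hx) (hW1 u hu),
      sum_pow_conj hn (RootW.pow_two_W d hx) (hW1 v hv),
      sum_pow_conj hn (RootW.pow_two_W d hy) (hW1 u hu),
      sum_pow_conj hn (RootW.pow_two_W d hy) (hW1 v hv)]
    simp only [apply_ite (starRingEnd ℂ), map_zero, mul_ite, mul_zero, Finset.sum_ite_eq',
      Finset.mem_range, show d.W < 2 * d.W by have := d.W_pos; omega, if_true, map_mul, map_sub,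
      map_pow, map_natCast, show conj (2 : ℂ) = 2 from map_ofNat _ 2]
    have hcast : ((2 * d.W : ℕ) : ℂ) ≠ 0 := Nat.cast_ne_zero.2 hn
    field_simp
    split_ifs <;> ring
  · intro i hi hne k hk
    obtain ⟨h0, hd⟩ := d.weight_ne_zero hx hy hne
    rcases d.cases_W hi h0 with rfl | hW
    · have hr : ∀ w : ℂ, d.RootW w → (w ^ (d.W - 1)) ^ d.W = w ^ d.W := fun w hw => by
        rw [← pow_mul]
        refine pow_eq_pow_of_modEq ?_ (RootW.pow_two_W d hw)
        obtain ⟨m, hm⟩ := d.four_dvd_W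
        have hW0 := d.W_pos
        have e : (d.W - 1) * d.W = d.W + (2 * m - 1) * (2 * d.W) := by
          generalize d.W = W at *
          obtain ⟨m', rfl⟩ : ∃ m', m = m' + 1 := ⟨m - 1, by omega⟩
          subst hm
          rw [show 4 * (m' + 1) - 1 = 4 * m' + 3 by omega,
            show 2 * (m' + 1) - 1 = 2 * m' + 1 by omega]
          ring
        rw [e]
        exact Nat.add_mul_mod_self_right _ _ _
      rw [if_pos rfl, hr u hu, hr v hv, d.PhiW_zK hu hv hk]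
      ring
    · rw [if_neg (fun h => hW (by rw [h])), add_zero, d.PhiW_Aw hu hv hk hW hd]
      simp only [pow_mul]

theorem inner_PhiW_one {x y : ℂ} (hx : d.RootW x) (hy : d.RootW y) :
    classInner (d.PhiW x y) (fun _ => 1) =
      (if x = 1 then 1 else 0) - (if y = 1 then 1 else 0) := by
  classical
  rw [show d.PhiW x y = indFun d.Aw (d.cwW.wt fun i => x ^ i - y ^ i) from rfl,
    classInner_wt d.cwW (periodic_pow_sub (RootW.pow_two_W d hx) (RootW.pow_two_W d hy))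
      (fun _ _ => rfl) (V := fun _ => 1) (fun _ _ _ _ _ => rfl)]
  simp only [map_one, mul_one, Finset.sum_sub_distrib, sum_pow_root (RootW.pow_two_W d hx),
    sum_pow_root (RootW.pow_two_W d hy)]
  have hcast : ((2 * d.W : ℕ) : ℂ) ≠ 0 := Nat.cast_ne_zero.2 d.inv_W
  split_ifs <;> field_simp <;> ring

section FUGB

variable {ξ : ℂ} (hξ : IsPrimitiveRoot ξ q)
include hξ

theorem periodic_FU : Function.Periodic (fun i => ξ ^ i - (-ξ) ^ i) (2 * q) :=
  periodic_pow_sub (by rw [mul_comm, pow_mul, hξ.pow_eq_one, one_pow])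
    (by rw [pow_mul, neg_sq, ← pow_mul, mul_comm, pow_mul, hξ.pow_eq_one, one_pow])

theorem odd_of_weight_ne_zero {x : ℂ} {i : ℕ} (h : x ^ i - (-x) ^ i ≠ 0) : Odd i := by
  by_contra h'
  exact h (by rw [(Nat.not_odd_iff_even.1 h').neg_pow, sub_self])

theorem cases_q {i : ℕ} (hi : i < 2 * q) (h0 : Odd i) : i = q ∨ ¬ q ∣ i := by
  by_cases h : q ∣ i
  · obtain ⟨m, rfl⟩ := h
    have h1 : m < 2 := Nat.lt_of_mul_lt_mul_left (a := q) (by rwa [mul_comm q 2])
    interval_cases m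
    · simp at h0
    · exact Or.inl (mul_one _)
  · exact Or.inr h

theorem FU_zK {k : G} (hk : k ∈ d.K) :
    d.FU ξ (k * d.au ^ q) = 2 * (2 * d.W * g : ℕ) := by
  rw [FU, d.ind_zK d.cu d.zu (d.periodic_FU hξ) hk, hξ.pow_eq_one, d.q_odd.neg_pow,
    hξ.pow_eq_one]
  have h : (q : ℂ) ≠ 0 := Nat.cast_ne_zero.2 d.hq.ne_zero
  push_cast
  field_simp
  ring

theorem sum_units {i : ℕ} (hi : Odd i) (hqi : ¬ q ∣ i) :
    ∑ j ∈ units q, (ξ ^ (j * i) - (-ξ) ^ (j * i)) = -2 := by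
  rw [Finset.sum_congr rfl (g := fun j => 2 * (ξ ^ i) ^ j) fun j hj => by
    rw [((Finset.mem_filter.1 hj).2.1.mul hi).neg_pow, sub_neg_eq_add, ← pow_mul, mul_comm i j]
    ring, ← Finset.mul_sum]
  have hω : IsPrimitiveRoot (ξ ^ i) q :=
    hξ.pow_of_coprime i ((Nat.coprime_comm.1 ((d.hq.coprime_iff_not_dvd).2 hqi)))
  set ω := ξ ^ i
  suffices h : ∑ j ∈ units q, ω ^ j = -1 by rw [h]; ring
  rw [Finset.sum_nbij' (t := (Finset.range q).erase 0) (fun j => j % q)
    (fun j => if Odd j then j else j + q) ?_ ?_ ?_ ?_ (g := fun j => ω ^ j)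
    (fun j _ => pow_eq_pow_of_modEq (Nat.mod_modEq j q).symm hω.pow_eq_one),
    Finset.sum_erase_eq_sub (Finset.mem_range.2 d.hq.pos), hω.geom_sum_eq_zero d.hq.one_lt,
    pow_zero, zero_sub]
  · intro j hj
    obtain ⟨-, hj2, hj3⟩ := Finset.mem_filter.1 (Finset.mem_coe.1 hj)
    exact Finset.mem_erase.2 ⟨fun h => hj3 (Nat.dvd_of_mod_eq_zero h),
      Finset.mem_range.2 (Nat.mod_lt _ d.hq.pos)⟩
  · intro j hj
    obtain ⟨h0, h1⟩ := Finset.mem_erase.1 (Finset.mem_coe.1 hj)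
    have h1' := Finset.mem_range.1 h1
    have hq := d.q_odd
    refine Finset.mem_filter.2 ⟨Finset.mem_range.2 ?_, ?_, fun h => ?_⟩
    · show (if Odd j then j else j + q) < 2 * q
      split_ifs <;> omega
    · split_ifs with hjo
      · exact hjo
      · exact (Nat.not_odd_iff_even.1 hjo).add_odd hq
    · have : q ∣ j := by
        split_ifs at h with hjo
        · exact h
        · exact (Nat.dvd_add_left dvd_rfl).1 h
      have := Nat.le_of_dvd (Nat.pos_of_ne_zero h0) this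
      omega
  · intro j hj
    obtain ⟨hj1, hj2, hj3⟩ := Finset.mem_filter.1 (Finset.mem_coe.1 hj)
    have h1 := Finset.mem_range.1 hj1
    have hq := Nat.odd_iff.1 d.q_odd
    have hj' := Nat.odd_iff.1 hj2
    have := d.hq.pos
    show (if Odd (j % q) then j % q else j % q + q) = j
    rcases lt_or_ge j q with hlt | hge
    · rw [Nat.mod_eq_of_lt hlt, if_pos hj2]
    · rw [Nat.mod_eq_sub_mod hge, Nat.mod_eq_of_lt (by omega),
        if_neg (by rw [Nat.odd_iff]; omega)]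
      omega
  · intro j hj
    obtain ⟨h0, h1⟩ := Finset.mem_erase.1 (Finset.mem_coe.1 hj)
    have := Finset.mem_range.1 h1
    show (if Odd j then j else j + q) % q = j
    split_ifs
    · exact Nat.mod_eq_of_lt this
    · rw [Nat.add_mod_right, Nat.mod_eq_of_lt this]

theorem FU_Au {k : G} (hk : k ∈ d.K) {i : ℕ} (hi : Odd i) (hqi : ¬ q ∣ i) :
    d.FU ξ (k * d.au ^ i) = -2 := by
  have hm : i * q ≡ q [MOD 2 * q] := by
    obtain ⟨m, rfl⟩ := hi
    rw [show (2 * m + 1) * q = q + m * (2 * q) by ring]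
    exact Nat.add_mul_mod_self_right _ _ _
  rw [FU, d.sum_eq_sumC' d.cu d.zu _ (d.exists_pow_eq_z d.cu d.zu hk hm),
    d.sumC_Au (d.periodic_FU hξ) hk hqi, ← mul_assoc, inv_mul_cancel₀ (card_ne _), one_mul]
  exact d.sum_units hξ hi hqi

theorem FU_Aw {k : G} (hk : k ∈ d.K) {i : ℕ} (hi : ¬ d.W ∣ i) (hz : ¬ 2 ^ (l + 1) ∣ i) :
    d.FU ξ (k * d.aw ^ i) = 0 := by
  obtain ⟨m, hm⟩ := d.exists_mul_modEq_W hz
  rw [FU, d.sum_eq_sumC' d.cu d.zu _ (d.exists_pow_eq_z d.cwW d.zwW hk hm),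
    sumC_eq_zero _ fun y hy => d.crossWU _ (mul_pow_mem_cyc hk i)
      (fun h => hi ((d.mem_KZ_iff d.cwW d.zwW hk i).1 h)) y hy, mul_zero]

theorem inner_FU : classInner (d.FU ξ) (d.FU ξ) = 2 * q := by
  classical
  rw [show classInner (d.FU ξ) (d.FU ξ) =
    classInner (indFun d.Au (d.cu.wt fun i => ξ ^ i - (-ξ) ^ i)) (d.FU ξ) from rfl,
    classInner_wt d.cu (d.periodic_FU hξ) (d.isClassFunction_FU ξ)
    (V := fun i => (-2 : ℂ) + if i = q then (2 * (2 * d.W * g : ℕ) + 2 : ℂ) else 0) ?_]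
  · simp only [map_add, map_neg, mul_add, Finset.sum_add_distrib, apply_ite (starRingEnd ℂ),
      map_zero, mul_ite, mul_zero, Finset.sum_ite_eq', Finset.mem_range,
      show q < 2 * q by have := d.hq.pos; omega, if_true, ← Finset.sum_mul, hξ.pow_eq_one,
      d.q_odd.neg_pow, map_mul, map_natCast, show conj (2 : ℂ) = 2 from map_ofNat _ 2]
    rw [Finset.sum_sub_distrib,
      sum_pow_root (by rw [mul_comm, pow_mul, hξ.pow_eq_one, one_pow]),
      sum_pow_root (show (-ξ) ^ (2 * q) = 1 by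
        rw [pow_mul, neg_sq, ← pow_mul, mul_comm, pow_mul, hξ.pow_eq_one, one_pow]),
      if_neg (hξ.ne_one d.hq.one_lt), if_neg]
    · have hW : (d.W : ℂ) = 2 * q - 2 * g := by
        have h1 := d.W_cast
        have h2 := d.hqm
        have h3 : (d.W : ℤ) = 2 * q - 2 * g := by omega
        exact_mod_cast h3
      have hη : ((q : ℂ) - 2 * g) ^ 2 = 1 := by
        have h2 := d.hqm
        have h3 : ((q : ℤ) - 2 * g) ^ 2 = 1 := by
          rw [show (q : ℤ) - 2 * g = η by omega]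
          rcases d.hη with h | h <;> subst h <;> norm_num
        exact_mod_cast h3
      have hq0 : (q : ℂ) ≠ 0 := Nat.cast_ne_zero.2 d.hq.ne_zero
      generalize d.W = W at *
      push_cast
      rw [hW]
      field_simp
      linear_combination (-2) * hη
    · intro h
      have h' : ξ ^ q = (-1) ^ q := by rw [← neg_neg ξ, h]
      rw [hξ.pow_eq_one, d.q_odd.neg_pow, one_pow] at h'
      norm_num at h'
  · intro i hi hne k hk
    have ho := d.odd_of_weight_ne_zero hξ hne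
    rcases d.cases_q hξ hi ho with hiq | hq'
    · subst i
      rw [if_pos rfl, d.FU_zK hξ hk]; ring
    · rw [if_neg (fun h => hq' (by rw [h])), add_zero, d.FU_Au hξ hk ho hq']

theorem inner_FU_one : classInner (d.FU ξ) (fun _ => 1) = 0 := by
  classical
  rw [show d.FU ξ = indFun d.Au (d.cu.wt fun i => ξ ^ i - (-ξ) ^ i) from rfl,
    classInner_wt d.cu (d.periodic_FU hξ) (fun _ _ => rfl) (V := fun _ => 1)
      (fun _ _ _ _ _ => rfl)]
  simp only [map_one, mul_one, Finset.sum_sub_distrib]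
  rw [sum_pow_root (by rw [mul_comm, pow_mul, hξ.pow_eq_one, one_pow]),
    sum_pow_root (show (-ξ) ^ (2 * q) = 1 by
      rw [pow_mul, neg_sq, ← pow_mul, mul_comm, pow_mul, hξ.pow_eq_one, one_pow]),
    if_neg (hξ.ne_one d.hq.one_lt), if_neg]
  · simp
  · intro h
    have h' : ξ ^ q = (-1) ^ q := by rw [← neg_neg ξ, h]
    rw [hξ.pow_eq_one, d.q_odd.neg_pow, one_pow] at h'
    norm_num at h'

theorem inner_PhiW_FU {x y : ℂ} (hx : d.RootW x) (hy : d.RootW y) :
    classInner (d.PhiW x y) (d.FU ξ) = 2 * g * (x ^ d.W - y ^ d.W) := by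
  classical
  rw [show d.PhiW x y = indFun d.Aw (d.cwW.wt fun i => x ^ i - y ^ i) from rfl,
    classInner_wt d.cwW (periodic_pow_sub (RootW.pow_two_W d hx) (RootW.pow_two_W d hy))
      (d.isClassFunction_FU ξ)
      (V := fun i => if i = d.W then (2 * (2 * d.W * g : ℕ) : ℂ) else 0) ?_]
  · simp only [apply_ite (starRingEnd ℂ), map_zero, mul_ite, mul_zero, Finset.sum_ite_eq',
      Finset.mem_range, show d.W < 2 * d.W by have := d.W_pos; omega, if_true, map_mul,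
      map_natCast, show conj (2 : ℂ) = 2 from map_ofNat _ 2]
    have hW0 := d.W_pos
    generalize d.W = W at *
    have hcast : (W : ℂ) ≠ 0 := Nat.cast_ne_zero.2 hW0.ne'
    push_cast
    field_simp
  · intro i hi hne k hk
    obtain ⟨h0, hd⟩ := d.weight_ne_zero hx hy hne
    rcases d.cases_W hi h0 with rfl | hW
    · obtain ⟨w, hw, hzw⟩ := d.z_eq_coset d.cwW d.zwW
      obtain ⟨w', hw', hzw'⟩ := d.z_eq_coset d.cu d.zu
      have e : k * d.aw ^ d.W = k * w⁻¹ * w' * d.au ^ q := by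
        calc k * d.aw ^ d.W = k * w⁻¹ * (w * d.aw ^ d.W) := by group
          _ = k * w⁻¹ * (w' * d.au ^ q) := by rw [← hzw, ← hzw']
          _ = _ := (mul_assoc _ _ _).symm
      rw [if_pos rfl, e,
        d.FU_zK hξ (mul_mem (mul_mem hk (inv_mem hw)) hw')]
    · rw [if_neg (fun h => hW (by rw [h])), d.FU_Aw hξ hk hW hd]

end FUGB

theorem periodic_GB : Function.Periodic (fun i => (1 : ℂ) ^ i - (-1) ^ i) (2 * g) :=
  periodic_pow_sub (one_pow _) (by rw [pow_mul]; norm_num)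

theorem cases_g {i : ℕ} (hi : i < 2 * g) (h0 : Odd i) : i = g ∨ ¬ g ∣ i := by
  by_cases h : g ∣ i
  · obtain ⟨m, rfl⟩ := h
    have h1 : m < 2 := Nat.lt_of_mul_lt_mul_left (a := g) (by rwa [mul_comm g 2])
    interval_cases m
    · simp at h0
    · exact Or.inl (mul_one _)
  · exact Or.inr h

theorem odd_of_weight_GB {i : ℕ} (h : (1 : ℂ) ^ i - (-1) ^ i ≠ 0) : Odd i := by
  by_contra h'
  exact h (by rw [(Nat.not_odd_iff_even.1 h').neg_pow, sub_self])

theorem GB_zK {k : G} (hk : k ∈ d.K) : d.GB (k * d.ag ^ g) = 2 * (2 * q * d.W : ℕ) := by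
  rw [GB, d.ind_zK d.cg d.zg d.periodic_GB hk, one_pow, d.hg.neg_one_pow]
  have h : (g : ℂ) ≠ 0 := Nat.cast_ne_zero.2 d.g_pos.ne'
  push_cast
  field_simp
  ring

theorem GB_Bg {k : G} (hk : k ∈ d.K) {i : ℕ} (hi : Odd i) (hgi : ¬ g ∣ i) :
    d.GB (k * d.ag ^ i) = 8 := by
  have hm : i * g ≡ g [MOD 2 * g] := by
    obtain ⟨m, rfl⟩ := hi
    rw [show (2 * m + 1) * g = g + m * (2 * g) by ring]
    exact Nat.add_mul_mod_self_right _ _ _
  rw [GB, d.sum_eq_sumC' d.cg d.zg _ (d.exists_pow_eq_z d.cg d.zg hk hm),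
    d.sumC_Bg d.periodic_GB hk hgi, d.card_Bg, d.card_Ag]
  have hodd : Odd ((2 * g - 1) * i) := by
    refine Odd.mul ?_ hi
    rw [Nat.odd_iff]
    have := d.g_pos
    omega
  have hK : (Nat.card d.K : ℂ) ≠ 0 := card_ne _
  have hg0 : (g : ℂ) ≠ 0 := Nat.cast_ne_zero.2 d.g_pos.ne'
  simp only [one_pow, hi.neg_one_pow, hodd.neg_one_pow]
  push_cast
  field_simp
  ring

theorem inner_GB :
    classInner d.GB d.GB = ((8 * q * d.W : ℕ) + 16 * ((g : ℂ) - 1)) / (2 * g : ℕ) := by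
  classical
  rw [show classInner d.GB d.GB =
    classInner (indFun d.Bg (d.cg.wt fun i => (1 : ℂ) ^ i - (-1) ^ i)) d.GB from rfl,
    classInner_wt d.cg d.periodic_GB d.isClassFunction_GB
    (V := fun i => (8 : ℂ) + if i = g then (2 * (2 * q * d.W : ℕ) - 8 : ℂ) else 0) ?_]
  · simp only [map_add, mul_add, Finset.sum_add_distrib, apply_ite (starRingEnd ℂ),
      map_zero, mul_ite, mul_zero, Finset.sum_ite_eq', Finset.mem_range,
      show g < 2 * g by have := d.g_pos; omega, if_true, ← Finset.sum_mul, map_sub, map_mul,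
      map_natCast, show conj (2 : ℂ) = 2 from map_ofNat _ 2,
      show conj (8 : ℂ) = 8 from map_ofNat _ 8]
    rw [Finset.sum_sub_distrib, sum_pow_root (one_pow _),
      sum_pow_root (show (-1 : ℂ) ^ (2 * g) = 1 by rw [pow_mul]; norm_num), if_pos rfl,
      if_neg (by norm_num), one_pow, d.hg.neg_one_pow]
    have hg0 : (g : ℂ) ≠ 0 := Nat.cast_ne_zero.2 d.g_pos.ne'
    push_cast
    field_simp
    ring
  · intro i hi hne k hk
    have ho := d.odd_of_weight_GB hne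
    rcases d.cases_g hi ho with rfl | hg'
    · rw [if_pos rfl, d.GB_zK hk]; ring
    · rw [if_neg (fun h => hg' (by rw [h])), add_zero, d.GB_Bg hk ho hg']

theorem inner_GB_one : classInner d.GB (fun _ => 1) = 1 := by
  classical
  rw [show d.GB = indFun d.Bg (d.cg.wt fun i => (1 : ℂ) ^ i - (-1) ^ i) from rfl,
    classInner_wt d.cg d.periodic_GB (fun _ _ => rfl) (V := fun _ => 1) (fun _ _ _ _ _ => rfl)]
  simp only [map_one, mul_one, Finset.sum_sub_distrib]
  rw [sum_pow_root (one_pow _),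
    sum_pow_root (show (-1 : ℂ) ^ (2 * g) = 1 by rw [pow_mul]; norm_num), if_pos rfl,
    if_neg (by norm_num), sub_zero, inv_mul_cancel₀ (Nat.cast_ne_zero.2 (by
      have := d.g_pos; omega))]

theorem GB_Aw {k : G} (hk : k ∈ d.K) {i : ℕ} (hi : ¬ d.W ∣ i) (hz : ¬ 2 ^ (l + 1) ∣ i) :
    d.GB (k * d.aw ^ i) = 0 := by
  obtain ⟨m, hm⟩ := d.exists_mul_modEq_W hz
  rw [GB, d.sum_eq_sumC' d.cg d.zg _ (d.exists_pow_eq_z d.cwW d.zwW hk hm),
    sumC_eq_zero _ fun y hy h => d.crossWG _ (mul_pow_mem_cyc hk i)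
      (fun h => hi ((d.mem_KZ_iff d.cwW d.zwW hk i).1 h)) y hy (d.Bg_le_Ag h), mul_zero]

theorem GB_Au {k : G} (hk : k ∈ d.K) {i : ℕ} (hi : Odd i) (hqi : ¬ q ∣ i) :
    d.GB (k * d.au ^ i) = 0 := by
  have hm : i * q ≡ q [MOD 2 * q] := by
    obtain ⟨m, rfl⟩ := hi
    rw [show (2 * m + 1) * q = q + m * (2 * q) by ring]
    exact Nat.add_mul_mod_self_right _ _ _
  rw [GB, d.sum_eq_sumC' d.cg d.zg _ (d.exists_pow_eq_z d.cu d.zu hk hm),
    sumC_eq_zero _ fun y hy h => d.crossUG _ (mul_pow_mem_cyc hk i)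
      (fun h => hqi ((d.mem_KZ_iff d.cu d.zu hk i).1 h)) y hy (d.Bg_le_Ag h), mul_zero]

theorem inner_PhiW_GB {x y : ℂ} (hx : d.RootW x) (hy : d.RootW y) :
    classInner (d.PhiW x y) d.GB = 2 * q * (x ^ d.W - y ^ d.W) := by
  classical
  rw [show d.PhiW x y = indFun d.Aw (d.cwW.wt fun i => x ^ i - y ^ i) from rfl,
    classInner_wt d.cwW (periodic_pow_sub (RootW.pow_two_W d hx) (RootW.pow_two_W d hy))
      d.isClassFunction_GB
      (V := fun i => if i = d.W then (2 * (2 * q * d.W : ℕ) : ℂ) else 0) ?_]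
  · simp only [apply_ite (starRingEnd ℂ), map_zero, mul_ite, mul_zero, Finset.sum_ite_eq',
      Finset.mem_range, show d.W < 2 * d.W by have := d.W_pos; omega, if_true, map_mul,
      map_natCast, show conj (2 : ℂ) = 2 from map_ofNat _ 2]
    have hW0 := d.W_pos
    generalize d.W = W at *
    have hcast : (W : ℂ) ≠ 0 := Nat.cast_ne_zero.2 hW0.ne'
    push_cast
    field_simp
  · intro i hi hne k hk
    obtain ⟨h0, hd⟩ := d.weight_ne_zero hx hy hne
    rcases d.cases_W hi h0 with rfl | hW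
    · obtain ⟨w, hw, hzw⟩ := d.z_eq_coset d.cwW d.zwW
      obtain ⟨w', hw', hzw'⟩ := d.z_eq_coset d.cg d.zg
      have e : k * d.aw ^ d.W = k * w⁻¹ * w' * d.ag ^ g := by
        calc k * d.aw ^ d.W = k * w⁻¹ * (w * d.aw ^ d.W) := by group
          _ = k * w⁻¹ * (w' * d.ag ^ g) := by rw [← hzw, ← hzw']
          _ = _ := (mul_assoc _ _ _).symm
      rw [if_pos rfl, e,
        d.GB_zK (mul_mem (mul_mem hk (inv_mem hw)) hw')]
    · rw [if_neg (fun h => hW (by rw [h])), d.GB_Aw hk hW hd]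

theorem inner_FU_GB {ξ : ℂ} (hξ : IsPrimitiveRoot ξ q) :
    classInner (d.FU ξ) d.GB = 4 * d.W := by
  classical
  rw [show d.FU ξ = indFun d.Au (d.cu.wt fun i => ξ ^ i - (-ξ) ^ i) from rfl,
    classInner_wt d.cu (d.periodic_FU hξ) d.isClassFunction_GB
      (V := fun i => if i = q then (2 * (2 * q * d.W : ℕ) : ℂ) else 0) ?_]
  · simp only [apply_ite (starRingEnd ℂ), map_zero, mul_ite, mul_zero, Finset.sum_ite_eq',
      Finset.mem_range, show q < 2 * q by have := d.hq.pos; omega, if_true, map_mul,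
      map_natCast, show conj (2 : ℂ) = 2 from map_ofNat _ 2, hξ.pow_eq_one, d.q_odd.neg_pow]
    have hcast : (q : ℂ) ≠ 0 := Nat.cast_ne_zero.2 d.hq.ne_zero
    push_cast
    field_simp
    ring
  · intro i hi hne k hk
    have ho := d.odd_of_weight_ne_zero hξ hne
    rcases d.cases_q hξ hi ho with hiq | hq'
    · subst i
      obtain ⟨w, hw, hzw⟩ := d.z_eq_coset d.cu d.zu
      obtain ⟨w', hw', hzw'⟩ := d.z_eq_coset d.cg d.zg
      have e : k * d.au ^ q = k * w⁻¹ * w' * d.ag ^ g := by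
        calc k * d.au ^ q = k * w⁻¹ * (w * d.au ^ q) := by group
          _ = k * w⁻¹ * (w' * d.ag ^ g) := by rw [← hzw, ← hzw']
          _ = _ := (mul_assoc _ _ _).symm
      rw [if_pos rfl, e,
        d.GB_zK (mul_mem (mul_mem hk (inv_mem hw)) hw')]
    · rw [if_neg (fun h => hq' (by rw [h])), d.GB_Au hk ho hq']

end Cent

end Cfsg.Agent.SDCyclic
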