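import Cfsg.Agent.Lib.SDCyclic.LocalThree

/-!
# The local facts about the index of the involution centralizer

`Cent.localFacts` : with cyclic Sylow subgroups of odd order the index `R = |G : C|` is odd,
prime to `q`, congruent to `1` modulo the `q`-part of `|C|` or to the small number `M` when `τ`
centralises `K`, and coprime to the order of `C` up to a factor `3`.
-/

set_option autoImplicit false
set_option linter.style.haveILetI false
set_option linter.unusedSectionVars false

namespace Cfsg.Agent.SDCyclic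

open Subgroup

universe u

variable {G : Type u} [Group G] [Finite G]

namespace Cent

variable {z : G} {q : ℕ} {η : ℤ} {l g o : ℕ} (d : Cent z q η l g o)
include d

theorem index_facts (hc : CycSylow G) :
    (centralizer ({z} : Set G)).index ≡ 1 [MOD q ^ ((Nat.card d.K).factorization q + 1)] ∨
      d.invNum = 1 ∧ ∃ M, Odd M ∧ (centralizer ({z} : Set G)).index ≡ M [MOD q] ∧
        (η = 1 ∧ M ∣ g ∨ η = -1 ∧ M ∣ (centralizer ({z} : Set G)).index ∧
          ∀ p : ℕ, p.Prime → p ∣ M → 2 * (2 ^ l * o) ∣ p - 1) := by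
  obtain ⟨x, P, hxo, hxP, hPA, hPq, hPcard⟩ := d.exists_frame
  have hxA : x ∈ d.A0 := hPA hxP
  have hxz : Commute z x := d.mem_CL.1 (d.A0_le_C hxA)
  by_cases hqK : q ∣ Nat.card d.K
  · exact Or.inl (hPcard ▸ d.index_modEq_one hc hxo hxP hPA hPq
      (d.centralizer_q_le_of_dvd hc hqK hxz hxo))
  by_cases hI : d.invNum = 1
  · refine Or.inr ⟨hI, d.invCount x, d.odd_invCount hc hxz hxo, d.index_modEq_invCount hc hxo, ?_⟩
    rcases d.hη with hη | hη
    · exact Or.inl ⟨hη, d.invCount_dvd_g hc hI hη hqK hxA hxo⟩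
    · exact Or.inr ⟨hη, d.invCount_dvd_index hc hI hη hqK hxA hxo, fun p hp hpM =>
        (d.prime_invCount hc hI hη hqK hxA hxo hp hpM).1⟩
  · exact Or.inl (hPcard ▸ d.index_modEq_one hc hxo hxP hPA hPq
      (d.centralizer_q_le_of_inverted hc hI hxz hxo))

/-- An odd prime of `|C|` dividing the index is `3`, in the exceptional configuration. -/
theorem exists_moved_of_dvd (hc : CycSylow G) {p : ℕ} (hp : p.Prime) (hp2 : p ≠ 2)
    (hpC : p ∣ Nat.card (centralizer ({z} : Set G)))
    (hpR : p ∣ (centralizer ({z} : Set G)).index) : p = 3 ∧ ∃ x s T P, Moved z x s T P := by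
  haveI := Fact.mk hp
  obtain ⟨⟨x, hx⟩, hxo⟩ :=
    exists_prime_orderOf_dvd_card' (G := centralizer ({z} : Set G)) p hpC
  rw [Subgroup.orderOf_mk] at hxo
  rcases d.sylow_control hc hp hp2 (d.mem_CL.1 hx) hxo with h | ⟨h3, s, T, P, hM⟩
  · exact absurd hpR h
  · exact ⟨h3, x, s, T, P, hM⟩

theorem index_coprime (hc : CycSylow G) :
    (centralizer ({z} : Set G)).index.Coprime (2 ^ l * o * g * d.invNum) ∨
      ∃ R', (centralizer ({z} : Set G)).index = 3 * R' ∧ R' ≡ 1 [MOD 3] ∧
        R'.Coprime (2 ^ l * o * g) ∧ d.invNum = 1 ∧ 3 ∣ g := by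
  have hCdvd : ∀ p, p ∣ 2 ^ l * o * g * d.invNum → p ∣ Nat.card (centralizer ({z} : Set G)) := by
    intro p h
    refine h.trans ?_
    rw [d.card_C, show 4 * q * (2 ^ l * o) * g * Nat.card d.K =
      4 * q * (2 ^ l * o * g * Nat.card d.K) by ring]
    exact (mul_dvd_mul_left _ d.invNum_dvd).mul_left _
  have hne2 : ∀ p, p ∣ (centralizer ({z} : Set G)).index → p ≠ 2 := fun p h h2 =>
    d.odd_index.not_two_dvd_nat (h2 ▸ h)
  by_cases hcop : (centralizer ({z} : Set G)).index.Coprime (2 ^ l * o * g * d.invNum)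
  · exact Or.inl hcop
  obtain ⟨p, hp, hpR, hpN⟩ := Nat.Prime.not_coprime_iff_dvd.1 hcop
  obtain ⟨rfl, x, s, T, P, hM⟩ := d.exists_moved_of_dvd hc hp (hne2 p hpR) (hCdvd p hpN) hpR
  obtain ⟨R', hR, hR1, hR3⟩ := d.moved_index hc hM hpR
  refine Or.inr ⟨R', hR, hR1, ?_, d.moved_invNum hc hM, d.moved_dvd_g hc hM⟩
  refine Nat.coprime_of_dvd fun r hr hrR hrN => ?_
  have hrR' : r ∣ (centralizer ({z} : Set G)).index := hR ▸ hrR.mul_left 3
  obtain ⟨rfl, -⟩ := d.exists_moved_of_dvd hc hr (hne2 r hrR')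
    (hCdvd r (hrN.mul_right _)) hrR'
  exact hR3 hrR

/-- **The local facts.** -/
theorem localFacts (hc : CycSylow G) : d.LocalFacts := by
  have h0 : d.invNum ≠ 0 := fun h0 => Nat.card_pos.ne' (by rw [← d.invNum_mul, h0, zero_mul] :
    Nat.card d.K = 0)
  refine ⟨(Nat.card d.K).factorization q, ?_, ?_, d.odd_index, d.not_q_dvd_index hc,
    d.index_facts hc, d.index_coprime hc⟩
  · rw [← d.factorization_invNum hc]; exact Nat.ordProj_dvd _ _
  · rw [← d.factorization_invNum hc]; exact Nat.pow_succ_factorization_not_dvd h0 d.hq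

end Cent

end Cfsg.Agent.SDCyclic
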