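import Cfsg.Agent.Lib.SDCyclic.Data
import Cfsg.Agent.Lib.SDCyclic.CyclicSylow
import Cfsg.Agent.Lib.Coprime.Sylow

/-!
# The centralizer of an involution: first consequences for the local structure

* the centralizer of the noncentral involution `t` in `C = C(z)` is inside `Ag`;
* an element of prime order of `Aw` centralised by no noncentral involution of `C` has its
  centralizer inside `C` (`z` is a commutator in its normalizer);
* `invNum * |C_K(τ)| = |K|`, and `C_K(τ)` has order prime to `q`.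
-/

set_option autoImplicit false
set_option linter.style.haveILetI false
set_option linter.unusedSectionVars false

namespace Cfsg.Agent.SDCyclic

open Subgroup
open scoped commutatorElement

universe u

theorem mem_normalizer_centralizer_of_mem {G : Type u} [Group G] [Finite G] {x n : G}
    (h : n ∈ normalizer (zpowers x : Set G)) :
    n ∈ normalizer (centralizer ({x} : Set G) : Set G) := by
  refine mem_normalizer_of_conj_mem fun c hc => mem_centralizer_singleton_iff.2 ?_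
  have h1 := conj_mem_of_mem_normalizer (inv_mem h) (mem_zpowers x)
  rw [inv_inv] at h1
  obtain ⟨i, hi⟩ := mem_zpowers_iff.1 h1
  have h2 : Commute c (n⁻¹ * x * n) :=
    hi ▸ (show Commute c x from mem_centralizer_singleton_iff.1 hc).zpow_right i
  have h3 := h2.map (MulAut.conj n).toMonoidHom
  simp only [MulEquiv.coe_toMonoidHom, MulAut.conj_apply] at h3
  rw [show n * (n⁻¹ * x * n) * n⁻¹ = x by group] at h3
  exact h3.eq

namespace Cent

variable {G : Type u} [Group G] [Finite G] {z : G} {q : ℕ} {η : ℤ} {l g o : ℕ}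
  (d : Cent z q η l g o)
include d

/-! ### Numbers -/

theorem q_ne_twoL : q ≠ 2 := by
  intro h
  obtain ⟨m, hm⟩ := d.hg
  have := d.hqm
  rcases d.hη with h' | h' <;> omega

theorem odd_q : Odd q := d.hq.odd_of_ne_two d.q_ne_twoL

theorem four_dvd_WL : 4 ∣ 2 ^ l * o :=
  (Nat.pow_dvd_pow 2 d.hl).trans (dvd_mul_right _ _)

theorem four_le_W : 4 ≤ 2 ^ l * o :=
  Nat.le_of_dvd (Nat.mul_pos (Nat.two_pow_pos l) d.ho.pos) d.four_dvd_WL

theorem five_le_of_eta_neg (h : η = -1) : 5 ≤ q := by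
  have h1 := d.hqm
  have h2 := d.hq.two_le
  obtain ⟨m, hm⟩ := d.hg
  omega

theorem eq_one_of_q_three (h : q = 3) : η = 1 := by
  rcases d.hη with h' | h'
  · exact h'
  · have := d.five_le_of_eta_neg h'
    omega

theorem five_le_q_of_ne_three (h : q ≠ 3) : 5 ≤ q := by
  have := d.hq.two_le
  have := d.q_ne_twoL
  obtain ⟨m, hm⟩ := d.odd_q
  omega

theorem g_lt : g < q := by
  have := d.hqm
  have := d.hq.two_le
  rcases d.hη with h' | h' <;> omega

theorem not_q_dvd_g : ¬ q ∣ g := fun h =>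
  absurd (Nat.le_of_dvd d.hg.pos h) (not_le.2 d.g_lt)

theorem not_q_dvd_W : ¬ q ∣ 2 ^ l * o := by
  intro h
  have h1 : (q : ℤ) ∣ ((2 ^ l * o : ℕ) : ℤ) := Int.natCast_dvd_natCast.2 h
  push_cast at h1
  rw [← d.hqp, dvd_add_self_left] at h1
  have h2 : (q : ℤ).natAbs ∣ η.natAbs := Int.natAbs_dvd_natAbs.2 h1
  rcases d.hη with h' | h' <;> simp [h'] at h2 <;> exact d.hq.one_lt.ne' h2

theorem coprime_o_g : Nat.Coprime o g := by
  refine Nat.coprime_of_dvd fun p hp h1 h2 => ?_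
  have e1 : (p : ℤ) ∣ q + η := by
    rw [d.hqp]; exact Dvd.dvd.mul_left (Int.natCast_dvd_natCast.2 h1) _
  have e2 : (p : ℤ) ∣ q - η := by
    rw [d.hqm]; exact Dvd.dvd.mul_left (Int.natCast_dvd_natCast.2 h2) _
  have h3 := dvd_sub e1 e2
  rw [show (q : ℤ) + η - (q - η) = 2 * η by ring] at h3
  have h4 : p ∣ (2 * η).natAbs := Int.natCast_dvd.1 h3
  rcases d.hη with h' | h' <;> simp [h'] at h4 <;>
    exact Nat.not_even_iff_odd.2 (d.ho.of_dvd_nat h1)
      ((Nat.prime_dvd_prime_iff_eq hp Nat.prime_two).1 h4 ▸ even_two)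

/-! ### Membership in `C` and congruences modulo `K` -/

theorem mem_CL {x : G} : x ∈ centralizer ({z} : Set G) ↔ Commute z x :=
  mem_centralizer_singleton_iff.trans ⟨fun h => h.symm, fun h => h.symm⟩

theorem z_mul_z : z * z = 1 := Involution.sq_of_orderOf_two d.zorder

theorem z_invL : z⁻¹ = z := Involution.inv_of_orderOf_two d.zorder

theorem tt : d.t * d.t = 1 := Involution.sq_of_orderOf_two d.t_order

theorem ττ : d.τ * d.τ = 1 := Involution.sq_of_orderOf_two d.τ_order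

theorem τ_invL : d.τ⁻¹ = d.τ := Involution.inv_of_orderOf_two d.τ_order

theorem z_notMem_K : z ∉ d.K := fun h => by
  have h1 := odd_orderOf_of_mem d.oddK h
  rw [d.zorder] at h1
  norm_num at h1

theorem K_le_CL : d.K ≤ centralizer ({z} : Set G) := fun k hk => d.mem_CL.2 (d.K_le k hk)

theorem cyc_le_C {L : Subgroup G} {a : G} (hL : L ≤ centralizer ({z} : Set G)) (ha : Commute z a) :
    cyc L a ≤ centralizer ({z} : Set G) :=
  sup_le hL ((zpowers_le).2 (d.mem_CL.2 ha))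

theorem Aw_le_C : d.Aw ≤ centralizer ({z} : Set G) := d.cyc_le_C d.K_le_CL d.comm_w

theorem Au_le_C : d.Au ≤ centralizer ({z} : Set G) := d.cyc_le_C d.K_le_CL d.comm_u

theorem Ag_le_C : d.Ag ≤ centralizer ({z} : Set G) :=
  d.cyc_le_C (sup_le d.K_le_CL (zpowers_le.2 (d.mem_CL.2 d.comm_t))) d.comm_g

theorem mem_normalizer_K {c : G} (hc : Commute z c) : c ∈ normalizer (d.K : Set G) :=
  mem_normalizer_of_conj_mem (d.normK c hc)

theorem conj_mem_K {c k : G} (hc : Commute z c) (hk : k ∈ d.K) : c⁻¹ * k * c ∈ d.K := by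
  simpa using d.normK c⁻¹ hc.inv_right k hk

/-- Congruence modulo `K`. -/
def Cong (a b : G) : Prop := a * b⁻¹ ∈ d.K

theorem cong_refl (a : G) : d.Cong a a := by
  show a * a⁻¹ ∈ d.K
  rw [mul_inv_cancel]; exact one_mem _

theorem cong_symm {a b : G} (h : d.Cong a b) : d.Cong b a := by
  have := inv_mem (show a * b⁻¹ ∈ d.K from h)
  rwa [mul_inv_rev, inv_inv] at this

theorem cong_trans {a b c : G} (h : d.Cong a b) (h' : d.Cong b c) : d.Cong a c := by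
  have := mul_mem (show a * b⁻¹ ∈ d.K from h) (show b * c⁻¹ ∈ d.K from h')
  rwa [show a * b⁻¹ * (b * c⁻¹) = a * c⁻¹ by group] at this

theorem cong_mul {a a' b b' : G} (ha : d.Cong a a') (hb : d.Cong b b') (hz : Commute z a') :
    d.Cong (a * b) (a' * b') := by
  show a * b * (a' * b')⁻¹ ∈ d.K
  rw [show a * b * (a' * b')⁻¹ = a * a'⁻¹ * (a' * (b * b'⁻¹) * a'⁻¹) by group]
  exact mul_mem ha (d.normK a' hz _ hb)

theorem cong_inv {a b : G} (h : d.Cong a b) (hz : Commute z b) : d.Cong a⁻¹ b⁻¹ := by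
  show a⁻¹ * b⁻¹⁻¹ ∈ d.K
  rw [show a⁻¹ * b⁻¹⁻¹ = b⁻¹ * (a * b⁻¹)⁻¹ * b by group]
  exact d.conj_mem_K hz (inv_mem h)

theorem cong_pow {a b : G} (h : d.Cong a b) (hz : Commute z b) (n : ℕ) :
    d.Cong (a ^ n) (b ^ n) := by
  induction n with
  | zero => simpa using d.cong_refl 1
  | succ n ih => rw [pow_succ, pow_succ]; exact d.cong_mul ih h (hz.pow_right n)

theorem cong_commutator {a a' b b' : G} (ha : d.Cong a a') (hb : d.Cong b b') (hza : Commute z a')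
    (hzb : Commute z b') : d.Cong ⁅a, b⁆ ⁅a', b'⁆ := by
  rw [commutatorElement_def, commutatorElement_def]
  exact d.cong_mul (d.cong_mul (d.cong_mul ha hb hza) (d.cong_inv ha hza) (hza.mul_right hzb))
    (d.cong_inv hb hzb) ((hza.mul_right hzb).mul_right hza.inv_right)

theorem cong_of_mem_K {k : G} (hk : k ∈ d.K) (a : G) : d.Cong (k * a) a := by
  show k * a * a⁻¹ ∈ d.K
  rwa [mul_inv_cancel_right]

theorem mem_K_of_cong_one {a : G} (h : d.Cong a 1) : a ∈ d.K := by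
  simpa [Cong] using h

theorem aw_W : d.Cong (d.aw ^ (2 ^ l * o)) z := by
  show _ * z⁻¹ ∈ d.K
  rw [d.z_invL]
  exact d.zw

/-- An element congruent to `z` has `z` as its `|K|`-th power. -/
theorem pow_card_eq_z {e : G} (h : d.Cong e z) : e ^ Nat.card d.K = z := by
  have hk : (e * z⁻¹) ^ Nat.card d.K = 1 :=
    orderOf_dvd_iff_pow_eq_one.1 (d.K.orderOf_dvd_natCard h)
  obtain ⟨m, hm⟩ := d.oddK
  calc e ^ Nat.card d.K = (e * z⁻¹ * z) ^ Nat.card d.K := by rw [inv_mul_cancel_right]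
    _ = z := by
      rw [(d.K_le _ h).symm.mul_pow, hk, one_mul, hm, pow_succ, pow_mul, pow_two, d.z_mul_z,
        one_pow, one_mul]

/-! ### The centralizer of `t` -/

theorem t_conj_mem {x : G} (hx : x ∈ d.Ag) : x * d.t * x⁻¹ * d.t⁻¹ ∈ d.K := by
  let T : Subgroup G :=
    { carrier := {x | Commute z x ∧ x * d.t * x⁻¹ * d.t⁻¹ ∈ d.K}
      one_mem' := ⟨Commute.one_right z, by simp⟩
      mul_mem' := by
        rintro a b ⟨ha, ha'⟩ ⟨hb, hb'⟩
        refine ⟨ha.mul_right hb, ?_⟩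
        rw [show a * b * d.t * (a * b)⁻¹ * d.t⁻¹ =
          a * (b * d.t * b⁻¹ * d.t⁻¹) * a⁻¹ * (a * d.t * a⁻¹ * d.t⁻¹) by group]
        exact mul_mem (d.normK a ha _ hb') ha'
      inv_mem' := by
        rintro a ⟨ha, ha'⟩
        refine ⟨ha.inv_right, ?_⟩
        have h1 := d.conj_mem_K ha (inv_mem ha')
        rwa [show a⁻¹ * (a * d.t * a⁻¹ * d.t⁻¹)⁻¹ * a = a⁻¹ * d.t * a⁻¹⁻¹ * d.t⁻¹ by group]
          at h1 }
  suffices h : d.Ag ≤ T from (h hx).2
  refine sup_le (sup_le (fun k hk => ⟨d.K_le k hk, ?_⟩) (zpowers_le.2 ⟨d.comm_t, by simp⟩))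
    (zpowers_le.2 ⟨d.comm_g, ?_⟩)
  · rw [show k * d.t * k⁻¹ * d.t⁻¹ = k * (d.t * k⁻¹ * d.t⁻¹) by group]
    exact mul_mem hk (d.normK _ d.comm_t _ (inv_mem hk))
  · have h1 := inv_mem d.t_comm
    rwa [show (d.t * d.ag * d.t⁻¹ * d.ag⁻¹)⁻¹ = d.ag * d.t * d.ag⁻¹ * d.t⁻¹ by group] at h1

theorem z_mem_Bg : z ∈ d.Bg := by
  have h1 : (d.ag ^ g)⁻¹ * (d.ag ^ g * z) ∈ d.Bg :=
    mul_mem (inv_mem (pow_mem (self_mem_cyc _ _) g)) (left_le_cyc _ _ d.zg)
  rwa [inv_mul_cancel_left] at h1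

theorem KZ_le_Bg : d.KZ ≤ d.Bg := sup_le (left_le_cyc _ _) (zpowers_le.2 d.z_mem_Bg)

theorem t_mem_AgL : d.t ∈ d.Ag := left_le_cyc _ _ (mem_sup_right (mem_zpowers _))

theorem z_mem_Aw : z ∈ d.Aw := by
  have h1 : (d.aw ^ (2 ^ l * o))⁻¹ * (d.aw ^ (2 ^ l * o) * z) ∈ d.Aw :=
    mul_mem (inv_mem (pow_mem (self_mem_cyc _ _) _)) (left_le_cyc _ _ d.zw)
  rwa [inv_mul_cancel_left] at h1

theorem t_ne_z : d.t ≠ z := fun h => d.t_notMem (by rw [h]; exact d.z_mem_Bg)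

theorem τ_ne_z : d.τ ≠ z := fun h => d.τ_notMem (by rw [h]; exact d.z_mem_Aw)

theorem mem_Ag_of_commute {x : G} (hz : Commute z x) (ht : Commute d.t x) : x ∈ d.Ag := by
  have hfix : x⁻¹ * d.t * x = d.t := by rw [mul_assoc, ht.eq, inv_mul_cancel_left]
  rcases d.selfG d.t d.t_mem_AgL (fun h => d.t_notMem (d.KZ_le_Bg h)) x hz
    (by rw [hfix]; exact d.t_mem_AgL) with h | h
  · exact h
  exfalso
  obtain ⟨y, rfl⟩ : ∃ y, y * d.ρ⁻¹ = x := ⟨x * d.ρ, mul_inv_cancel_right _ _⟩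
  rw [inv_mul_cancel_right] at h
  have hy : d.Cong (y⁻¹ * d.t * y) d.t := by
    show _ * d.t⁻¹ ∈ d.K
    have := d.t_conj_mem (inv_mem h)
    rwa [inv_inv] at this
  have hρ : d.Cong (d.ρ * d.t * d.ρ⁻¹) (z * d.t)⁻¹ := by
    show _ * ((z * d.t)⁻¹)⁻¹ ∈ d.K
    rw [inv_inv]; exact d.ρ_t
  have h3 : d.Cong (d.ρ * (y⁻¹ * d.t * y) * d.ρ⁻¹) (d.ρ * d.t * d.ρ⁻¹) :=
    d.cong_mul (d.cong_mul (d.cong_refl _) hy d.comm_ρ) (d.cong_refl _)
      (d.comm_ρ.mul_right d.comm_t)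
  have h4 := d.cong_trans h3 hρ
  rw [show d.ρ * (y⁻¹ * d.t * y) * d.ρ⁻¹ = (y * d.ρ⁻¹)⁻¹ * d.t * (y * d.ρ⁻¹) by group, hfix] at h4
  have h5 : d.t * (z * d.t) ∈ d.K := by simpa [Cong] using h4
  rw [← mul_assoc, ← d.comm_t.eq, mul_assoc, d.tt, mul_one] at h5
  exact d.z_notMem_K h5

theorem ctL : CycOver d.K d.t 2 where
  norm := d.normK _ d.comm_t
  pos := two_pos
  mem_iff j := by
    rcases Nat.even_or_odd j with ⟨m, rfl⟩ | ⟨m, rfl⟩
    · simp [← two_mul, pow_mul, pow_two, d.tt]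
    · have : d.t ^ (2 * m + 1) = d.t := by
        rw [pow_succ, pow_mul, pow_two, d.tt, one_pow, one_mul]
      rw [this, iff_false_right (by omega)]
      exact fun h => d.t_notMem (left_le_cyc _ _ h)

theorem card_AgL : Nat.card d.Ag = 4 * g * Nat.card d.K := by
  rw [d.cgt.card_cyc, show d.K ⊔ zpowers d.t = cyc d.K d.t from rfl, d.ctL.card_cyc]
  ring

/-- A noncentral involution of `C` is conjugate to `t` in `C`. -/
theorem exists_conj_t {s : G} (hs2 : orderOf s = 2) (hs : Commute z s) (hsz : s ≠ z) :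
    ∃ c, Commute z c ∧ c * s * c⁻¹ = d.t := by
  obtain ⟨c₁, h₁, rfl⟩ := d.conjNC s hs2 hs hsz
  obtain ⟨c₂, h₂, e⟩ := d.conjNC d.t d.t_order d.comm_t d.t_ne_z
  exact ⟨c₂ * c₁⁻¹, h₂.mul_right h₁.inv_right, by rw [← e]; group⟩

theorem orderOf_dvd_of_commute {s x : G} (hs2 : orderOf s = 2) (hs : Commute z s) (hsz : s ≠ z)
    (hx : Commute z x) (hsx : Commute s x) : orderOf x ∣ 4 * g * Nat.card d.K := by
  obtain ⟨c, hc, e⟩ := d.exists_conj_t hs2 hs hsz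
  have h1 : c * x * c⁻¹ ∈ d.Ag := by
    refine d.mem_Ag_of_commute ((hc.mul_right hx).mul_right hc.inv_right) ?_
    rw [← e]
    exact hsx.map (MulAut.conj c).toMonoidHom
  rw [← d.card_AgL, ← orderOf_conj c x]
  exact Subgroup.orderOf_dvd_natCard _ h1

/-! ### Elements of prime order of `Aw` -/

theorem τ_conj_cong : d.Cong (d.τ * d.aw * d.τ⁻¹) (d.aw ^ (2 ^ l * o - 1)) := d.τ_conj

theorem conj_mem_Aw {c : G} (hc : Commute z c) (h : c * d.aw * c⁻¹ ∈ d.Aw) {x : G}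
    (hx : x ∈ d.Aw) : c * x * c⁻¹ ∈ d.Aw := by
  suffices d.Aw ≤ d.Aw.comap (MulAut.conj c).toMonoidHom from this hx
  exact sup_le (fun k hk => left_le_cyc _ _ (d.normK c hc k hk)) (zpowers_le.2 h)

theorem τ_conj_aw_mem : d.τ * d.aw * d.τ⁻¹ ∈ d.Aw := by
  have h := mul_mem (left_le_cyc d.K d.aw d.τ_conj)
    (pow_mem (self_mem_cyc d.K d.aw) (2 ^ l * o - 1))
  rwa [inv_mul_cancel_right] at h

/-- The elements of order dividing `p` of `Aw` lie in `K⟨y⟩` for `y ∈ Aw` of order `p` outside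
`K`. -/
theorem mem_sup_of_pow_eq_one {p : ℕ} (hp : p.Prime) {y w : G} (hy : y ∈ d.Aw)
    (hyp : y ^ p = 1) (hyK : y ∉ d.K) (hw : w ∈ d.Aw) (hwp : w ^ p = 1) :
    w ∈ d.K ⊔ zpowers y := by
  obtain ⟨k, hk, i, rfl⟩ := d.cw.mem_cyc_iff.1 hy
  obtain ⟨k', hk', j, rfl⟩ := d.cw.mem_cyc_iff.1 hw
  have hdiv : ∀ k ∈ d.K, ∀ i : ℕ, (k * d.aw ^ i) ^ p = 1 → 2 * (2 ^ l * o) ∣ p * i := by
    intro k hk i h
    have h1 := d.cong_pow (d.cong_of_mem_K hk (d.aw ^ i)) (d.comm_w.pow_right i) p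
    rw [h, ← pow_mul, mul_comm] at h1
    exact (d.cw.mem_iff _).1 (d.mem_K_of_cong_one (d.cong_symm h1))
  have hni : ¬ 2 * (2 ^ l * o) ∣ i := fun h => hyK (mul_mem hk ((d.cw.mem_iff i).2 h))
  have hi := hdiv k hk i hyp
  have hj := hdiv k' hk' j hwp
  have hn0 : 0 < 2 * (2 ^ l * o) := d.cw.pos
  have hcw := d.cw.pow_mem_iff_modEq (i := 0) (j := 0)
  have hmodiff : ∀ a b : ℕ, a ≡ b [MOD 2 * (2 ^ l * o)] → d.Cong (d.aw ^ a) (d.aw ^ b) :=
    fun a b h => d.cw.pow_mem_iff_modEq.2 h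
  clear hdiv hcw
  generalize 2 * (2 ^ l * o) = n at hni hi hj hn0 hmodiff
  obtain ⟨m, rfl⟩ : p ∣ n := by
    by_contra h
    exact hni ((((hp.coprime_iff_not_dvd).2 h).symm).dvd_of_dvd_mul_left hi)
  have hm0 : 0 < m := Nat.pos_of_mul_pos_left hn0
  obtain ⟨u, rfl⟩ := Nat.dvd_of_mul_dvd_mul_left hp.pos hi
  obtain ⟨u', rfl⟩ := Nat.dvd_of_mul_dvd_mul_left hp.pos hj
  have hu : Nat.Coprime u p := ((hp.coprime_iff_not_dvd).2 fun h => hni (by
    obtain ⟨c, rfl⟩ := h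
    exact ⟨c, by ring⟩)).symm
  obtain ⟨e, he⟩ : ∃ e, u * e ≡ u' [MOD p] := by
    obtain ⟨e, -, he⟩ := Nat.exists_mul_mod_eq_one_of_coprime hu hp.one_lt
    refine ⟨e * u', ?_⟩
    rw [← mul_assoc]
    have : u * e ≡ 1 [MOD p] := by
      show u * e % p = 1 % p
      rw [Nat.one_mod_eq_one.2 hp.one_lt.ne']
      exact he
    simpa using this.mul_right u'
  have hmod : m * u * e ≡ m * u' [MOD p * m] := by
    rw [mul_assoc, mul_comm p m]; exact Nat.ModEq.mul_left' m he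
  have h2 : d.Cong ((k * d.aw ^ (m * u)) ^ e) (k' * d.aw ^ (m * u')) := by
    refine d.cong_trans (d.cong_pow (d.cong_of_mem_K hk _) (d.comm_w.pow_right _) e) ?_
    refine d.cong_trans ?_ (d.cong_symm (d.cong_of_mem_K hk' _))
    rw [← pow_mul]
    exact hmodiff _ _ hmod
  have h3 := mem_sup_left (T := zpowers (k * d.aw ^ (m * u))) (d.cong_symm h2 : _ ∈ d.K)
  have h4 := mul_mem h3 (mem_sup_right (S := d.K) (pow_mem (mem_zpowers (k * d.aw ^ (m * u))) e))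
  rwa [inv_mul_cancel_right] at h4

/-- Frattini: `c` maps `y` into `K⟨y⟩`, so some element of `Kc` normalises `⟨y⟩`. -/
theorem exists_K_mul_mem_normalizer (hc : CycSylow G) {p : ℕ} (hp : p.Prime) (hp2 : p ≠ 2)
    {y : G} (hyz : Commute z y) (hyo : orderOf y = p) {c : G}
    (h : c * y * c⁻¹ ∈ d.K ⊔ zpowers y) :
    ∃ k ∈ d.K, k * c ∈ normalizer (zpowers y : Set G) := by
  obtain ⟨h', hh', hn⟩ :=
    hc.exists_mul_mem_normalizer hp hp2 (mem_sup_right (mem_zpowers y)) hyo h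
  rw [sup_comm, ← SetLike.mem_coe, coe_mul_of_left_le_normalizer_right _ _
    (zpowers_le.2 (d.mem_normalizer_K hyz))] at hh'
  obtain ⟨a, ha, k, hk, rfl⟩ := hh'
  refine ⟨k, hk, ?_⟩
  have h2 := mul_mem (inv_mem (le_normalizer (SetLike.mem_coe.1 ha))) hn
  rwa [mul_assoc, inv_mul_cancel_left] at h2

/-- `z` is a commutator in the normalizer of a subgroup of odd prime order of `Aw`. -/
theorem z_mem_commutator (hc : CycSylow G) {p : ℕ} (hp : p.Prime) (hp2 : p ≠ 2) {y : G}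
    (hy : y ∈ d.Aw) (hyo : orderOf y = p) :
    z ∈ ⁅normalizer (zpowers y : Set G), normalizer (zpowers y : Set G)⁆ := by
  have hyz : Commute z y := d.mem_CL.1 (d.Aw_le_C hy)
  have hsup : ∀ c, Commute z c → c * d.aw * c⁻¹ ∈ d.Aw → c * y * c⁻¹ ∈ d.K ⊔ zpowers y := by
    intro c hcz h
    by_cases hyK : y ∈ d.K
    · exact mem_sup_left (d.normK c hcz y hyK)
    · refine d.mem_sup_of_pow_eq_one hp hy (hyo ▸ pow_orderOf_eq_one y) hyK
        (d.conj_mem_Aw hcz h hy) ?_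
      rw [conj_pow, ← hyo, pow_orderOf_eq_one, mul_one, mul_inv_cancel]
  obtain ⟨k₁, hk₁, hn₁⟩ := d.exists_K_mul_mem_normalizer hc hp hp2 hyz hyo
    (hsup d.aw d.comm_w (by rw [mul_inv_cancel_right]; exact self_mem_cyc _ _))
  obtain ⟨k₂, hk₂, hn₂⟩ := d.exists_K_mul_mem_normalizer hc hp hp2 hyz hyo
    (hsup d.τ d.comm_τ d.τ_conj_aw_mem)
  have hW := d.four_le_W
  have h1 : d.Cong ⁅k₂ * d.τ, k₁ * d.aw⁆ (d.aw ^ (2 ^ l * o - 2)) := by
    refine d.cong_trans (d.cong_commutator (d.cong_of_mem_K hk₂ _) (d.cong_of_mem_K hk₁ _)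
      d.comm_τ d.comm_w) ?_
    rw [commutatorElement_def]
    have h := d.cong_mul d.τ_conj_cong (d.cong_refl d.aw⁻¹) (d.comm_w.pow_right _)
    rwa [show 2 ^ l * o - 1 = (2 ^ l * o - 2) + 1 by omega, pow_succ, mul_inv_cancel_right] at h
  obtain ⟨m, hm⟩ := d.four_dvd_WL
  have h2 : d.Cong ((⁅k₂ * d.τ, k₁ * d.aw⁆) ^ (2 * m)) z := by
    refine d.cong_trans (d.cong_pow h1 (d.comm_w.pow_right _) _) ?_
    rw [← pow_mul, show (2 ^ l * o - 2) * (2 * m) = (2 ^ l * o) * (2 * m - 1) by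
      rw [hm, Nat.sub_mul, Nat.mul_sub]; ring_nf]
    rw [pow_mul]
    refine d.cong_trans (d.cong_pow d.aw_W (Commute.refl z) _) ?_
    rw [show 2 * m - 1 = 2 * (m - 1) + 1 by omega, pow_succ, pow_mul, pow_two, d.z_mul_z, one_pow,
      one_mul]
    exact d.cong_refl z
  have h3 := pow_mem (pow_mem (commutator_mem_commutator hn₂ hn₁) (2 * m)) (Nat.card d.K)
  rwa [d.pow_card_eq_z h2] at h3

/-- If no noncentral involution of `C` centralises `y ∈ Aw` of odd prime order, `C(y) ≤ C`. -/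
theorem centralizer_le_C (hc : CycSylow G) {p : ℕ} (hp : p.Prime) (hp2 : p ≠ 2) {y : G}
    (hy : y ∈ d.Aw) (hyo : orderOf y = p)
    (hno : ∀ s, orderOf s = 2 → Commute z s → s ≠ z → ¬ Commute s y) :
    centralizer ({y} : Set G) ≤ centralizer ({z} : Set G) := by
  have hzH : z ∈ centralizer ({y} : Set G) :=
    mem_centralizer_singleton_iff.2 (d.mem_CL.1 (d.Aw_le_C hy)).eq
  have huniq : ∀ i ∈ centralizer ({y} : Set G), orderOf i = 2 → Commute z i → i = z := by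
    intro i hi hi2 hzi
    by_contra h
    exact hno i hi2 hzi h (mem_centralizer_singleton_iff.1 hi)
  refine le_centralizer_of_unique hzH d.zorder huniq fun x hx => ?_
  exact commute_of_invol_mem_commutator (hc.isZGroup (odd_Oc _)) (odd_Oc _)
    (fun n hn => mem_normalizer_Oc (mem_normalizer_centralizer_of_mem hn))
    (d.z_mem_commutator hc hp hp2 hy hyo) d.z_mul_z hx

/-! ### Elements of `K` inverted by `τ` -/

/-- An element of prime order of `K` inverted by `τ` is centralised by no noncentral involution. -/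
theorem not_commute_of_inverted (hc : CycSylow G) {p : ℕ} (hp : p.Prime) {v : G} (hv : v ∈ d.K)
    (hvo : orderOf v = p) (hinv : d.τ * v * d.τ⁻¹ = v⁻¹) {s : G} (hs2 : orderOf s = 2)
    (hs : Commute z s) (hsz : s ≠ z) : ¬ Commute s v := by
  intro hsv
  have hvodd := odd_orderOf_of_mem d.oddK hv
  have hp2 : p ≠ 2 := fun h => by rw [hvo, h] at hvodd; norm_num at hvodd
  obtain ⟨c, hcz, rfl⟩ := d.conjNC s hs2 hs hsz
  have hv' := d.conj_mem_K hcz hv
  have hτv' : Commute d.τ (c⁻¹ * v * c) := by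
    have h1 := hsv.map (MulAut.conj c⁻¹).toMonoidHom
    simp only [MulEquiv.coe_toMonoidHom, MulAut.conj_apply, inv_inv] at h1
    rwa [show c⁻¹ * (c * d.τ * c⁻¹) * c = d.τ by group] at h1
  obtain ⟨h, hh, h1⟩ := hc.exists_conj_mem_zpowers d.K hp hp2 hv' hv
    (by rw [← hvo, ← orderOf_conj c⁻¹ v, inv_inv]) hvo
  obtain ⟨i, hi⟩ := mem_zpowers_iff.1 h1
  have h2 : Commute d.τ (h * v * h⁻¹) := hi ▸ hτv'.zpow_right i
  have h3 : Commute (h⁻¹ * d.τ * h) v := by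
    have h4 := h2.map (MulAut.conj h⁻¹).toMonoidHom
    simp only [MulEquiv.coe_toMonoidHom, MulAut.conj_apply, inv_inv] at h4
    rwa [show h⁻¹ * (h * v * h⁻¹) * h = v by group] at h4
  have hn : d.τ * (h⁻¹ * d.τ * h) ∈ d.K := by
    rw [show d.τ * (h⁻¹ * d.τ * h) = d.τ * h⁻¹ * d.τ⁻¹ * h by rw [d.τ_invL]; group]
    exact mul_mem (d.normK _ d.comm_τ _ (inv_mem hh)) hh
  have hn2 : (d.τ * (h⁻¹ * d.τ * h)) * v * (d.τ * (h⁻¹ * d.τ * h))⁻¹ = v⁻¹ := by
    rw [show (d.τ * (h⁻¹ * d.τ * h)) * v * (d.τ * (h⁻¹ * d.τ * h))⁻¹ =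
      d.τ * ((h⁻¹ * d.τ * h) * v * (h⁻¹ * d.τ * h)⁻¹) * d.τ⁻¹ by group,
      commute_iff_conj_eq.1 h3, hinv]
  have h5 := eq_one_of_odd_inverter (odd_orderOf_of_mem d.oddK hn) hvodd hn2
  rw [h5, orderOf_one] at hvo
  exact hp.one_lt.ne hvo

theorem K_le_Aw : d.K ≤ d.Aw := left_le_cyc _ _

theorem centralizer_inverted_le_C (hc : CycSylow G) {p : ℕ} (hp : p.Prime) {v : G} (hv : v ∈ d.K)
    (hvo : orderOf v = p) (hinv : d.τ * v * d.τ⁻¹ = v⁻¹) :
    centralizer ({v} : Set G) ≤ centralizer ({z} : Set G) := by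
  refine d.centralizer_le_C hc hp (fun h => ?_) (d.K_le_Aw hv) hvo
    fun s h1 h2 h3 => d.not_commute_of_inverted hc hp hv hvo hinv h1 h2 h3
  have hvodd := odd_orderOf_of_mem d.oddK hv
  rw [hvo, h] at hvodd
  norm_num at hvodd

/-- The fixed points of `τ` in `K`. -/
abbrev fixK : Subgroup G := d.K ⊓ centralizer ({d.τ} : Set G)

theorem twist_mem {k : G} (hk : k ∈ d.K) : k * d.τ * k⁻¹ * d.τ ∈ d.K := by
  rw [show k * d.τ * k⁻¹ * d.τ = k * (d.τ * k⁻¹ * d.τ⁻¹) by rw [d.τ_invL]; group]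
  exact mul_mem hk (d.normK _ d.comm_τ _ (inv_mem hk))

/-- `invNum * |C_K(τ)| = |K|`. -/
theorem invNum_mul : d.invNum * Nat.card d.fixK = Nat.card d.K := by
  have hinv : ∀ k : d.K, (d.τ * ((k : G) * d.τ * (k : G)⁻¹ * d.τ)) *
      (d.τ * ((k : G) * d.τ * (k : G)⁻¹ * d.τ)) = 1 := by
    intro k
    rw [show (d.τ * ((k : G) * d.τ * (k : G)⁻¹ * d.τ)) * (d.τ * ((k : G) * d.τ * (k : G)⁻¹ * d.τ)) =
      d.τ * ((k : G) * d.τ * (k : G)⁻¹) * (d.τ * d.τ) * ((k : G) * d.τ * (k : G)⁻¹) * d.τ by group,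
      d.ττ, mul_one, show d.τ * ((k : G) * d.τ * (k : G)⁻¹) * ((k : G) * d.τ * (k : G)⁻¹) * d.τ =
        d.τ * (k : G) * (d.τ * d.τ) * (k : G)⁻¹ * d.τ by group, d.ττ, mul_one,
      mul_inv_cancel_right, d.ττ]
  let f : d.K → {k : d.K // (d.τ * (k : G)) * (d.τ * (k : G)) = 1} := fun k =>
    ⟨⟨_, d.twist_mem k.2⟩, hinv k⟩
  have hf : ∀ a b : d.K, f a = f b ↔ a⁻¹ * b ∈ d.fixK.subgroupOf d.K := by
    intro a b
    rw [mem_subgroupOf, mem_inf, and_iff_right (SetLike.coe_mem _), mem_centralizer_singleton_iff,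
      Subtype.ext_iff, Subtype.ext_iff]
    show (a : G) * d.τ * (a : G)⁻¹ * d.τ = (b : G) * d.τ * (b : G)⁻¹ * d.τ ↔ _
    rw [mul_left_inj, coe_mul, coe_inv]
    constructor
    · intro h
      calc (a : G)⁻¹ * b * d.τ = (a : G)⁻¹ * ((b : G) * d.τ * (b : G)⁻¹) * b := by group
        _ = (a : G)⁻¹ * ((a : G) * d.τ * (a : G)⁻¹) * b := by rw [h]
        _ = d.τ * ((a : G)⁻¹ * b) := by group
    · intro h
      calc (a : G) * d.τ * (a : G)⁻¹ = (a : G) * (d.τ * ((a : G)⁻¹ * b)) * (b : G)⁻¹ := by group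
        _ = (a : G) * ((a : G)⁻¹ * b * d.τ) * (b : G)⁻¹ := by rw [h]
        _ = (b : G) * d.τ * (b : G)⁻¹ := by group
  have hsur : Function.Surjective f := by
    rintro ⟨⟨a, ha⟩, hτa⟩
    obtain ⟨m, hm⟩ := odd_orderOf_of_mem d.oddK ha
    refine ⟨⟨a ^ (m + 1), pow_mem ha _⟩, ?_⟩
    rw [Subtype.ext_iff, Subtype.ext_iff]
    show a ^ (m + 1) * d.τ * (a ^ (m + 1))⁻¹ * d.τ = a
    have h1 : d.τ * a⁻¹ * d.τ⁻¹ = a := by
      have h2 : d.τ * a * (d.τ * a) = 1 := hτa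
      rw [← eq_inv_iff_mul_eq_one, mul_inv_rev, d.τ_invL] at h2
      calc d.τ * a⁻¹ * d.τ⁻¹ = d.τ * (a⁻¹ * d.τ) := by rw [d.τ_invL, mul_assoc]
        _ = d.τ * (d.τ * a) := by rw [h2]
        _ = a := by rw [← mul_assoc, d.ττ, one_mul]
    rw [mul_assoc (a ^ (m + 1)), mul_assoc (a ^ (m + 1))]
    nth_rw 2 [← d.τ_invL]
    rw [← inv_pow, ← conj_pow, h1, ← pow_add, show m + 1 + (m + 1) = orderOf a + 1 by omega,
      pow_succ, pow_orderOf_eq_one, one_mul]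
  let f' : d.K ⧸ d.fixK.subgroupOf d.K → {k : d.K // (d.τ * (k : G)) * (d.τ * (k : G)) = 1} :=
    Quotient.lift f fun a b h => (hf a b).2 (QuotientGroup.leftRel_apply.1 h)
  have hbij : Function.Bijective f' := by
    refine ⟨fun x y h => ?_, fun y => ?_⟩
    · induction x using QuotientGroup.induction_on with | _ a => ?_
      induction y using QuotientGroup.induction_on with | _ b => ?_
      exact QuotientGroup.eq.2 ((hf a b).1 h)
    · obtain ⟨a, rfl⟩ := hsur y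
      exact ⟨a, rfl⟩
  rw [invNum, ← Nat.card_congr (Equiv.ofBijective f' hbij),
    ← Nat.card_congr (subgroupOfEquivOfLe (inf_le_left : d.fixK ≤ d.K)).toEquiv,
    ← card_eq_card_quotient_mul_card_subgroup]

/-- If `τ` inverts something in `K` it inverts an element of prime order. -/
theorem exists_inverted (h : d.invNum ≠ 1) :
    ∃ p : ℕ, p.Prime ∧ ∃ v ∈ d.K, orderOf v = p ∧ d.τ * v * d.τ⁻¹ = v⁻¹ := by
  obtain ⟨a, ha, ha1⟩ : ∃ a : d.K, (d.τ * (a : G)) * (d.τ * (a : G)) = 1 ∧ a ≠ 1 := by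
    by_contra hcon
    push Not at hcon
    refine h (Nat.card_eq_one_iff_unique.2
      ⟨⟨fun a b => Subtype.ext ?_⟩, ⟨⟨1, by simp [d.ττ]⟩⟩⟩)
    rw [hcon a.1 a.2, hcon b.1 b.2]
  obtain ⟨p, hp, hpd⟩ := Nat.exists_prime_and_dvd (n := orderOf (a : G))
    (fun h => ha1 (Subtype.ext (orderOf_eq_one_iff.1 h)))
  refine ⟨p, hp, (a : G) ^ (orderOf (a : G) / p), pow_mem a.2 _,
    orderOf_pow_orderOf_div (orderOf_pos _).ne' hpd, ?_⟩
  have h1 : d.τ * a * d.τ⁻¹ = (a : G)⁻¹ := by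
    rw [d.τ_invL, eq_inv_iff_mul_eq_one, mul_assoc]
    exact ha
  rw [← conj_pow, h1, inv_pow]

/-- `C_K(τ)` has order prime to `q`. -/
theorem not_q_dvd_fixK (hc : CycSylow G) : ¬ q ∣ Nat.card d.fixK := by
  intro h
  haveI := Fact.mk d.hq
  have hK : q ∣ Nat.card d.K := h.trans (card_dvd_of_le inf_le_left)
  have hq3 : q = 3 := by
    by_contra hne
    have h1 := Nat.Coprime.coprime_dvd_left hK (d.coprimeK (d.five_le_q_of_ne_three hne))
    rw [Nat.coprime_mul_iff_right, Nat.coprime_mul_iff_right, Nat.coprime_self] at h1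
    exact d.hq.one_lt.ne' h1.1.1
  obtain ⟨s, hs2, hsz, hs⟩ := d.invU (d.eq_one_of_q_three hq3)
  have hqo := d.odd_q
  -- the subgroup of odd order below `Au`
  have hu2 : CycOver d.K (d.au ^ 2) q := ⟨d.normK _ (d.comm_u.pow_right 2), d.hq.pos, fun j => by
    rw [← pow_mul, d.cu.mem_iff]; exact Nat.mul_dvd_mul_iff_left two_pos⟩
  have hA : Odd (Nat.card (cyc d.K (d.au ^ 2))) := by
    rw [hu2.card_cyc]; exact d.oddK.mul hqo
  have hsconj : d.Cong (s * d.au ^ 2 * s⁻¹) ((d.au ^ 2) ^ (2 * q - 1)) := by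
    rw [← conj_pow, ← pow_mul, mul_comm 2, pow_mul]
    refine d.cong_pow ?_ (d.comm_u.pow_right _) 2
    have hsi := Involution.inv_of_orderOf_two hs2
    show s * d.au * s⁻¹ * _ ∈ d.K
    nth_rw 1 [← hsi]
    nth_rw 2 [hsi]
    exact hs
  have hsN : zpowers s ≤ normalizer (cyc d.K (d.au ^ 2) : Set G) := by
    refine zpowers_le.2 (mem_normalizer_of_conj_mem fun x hx => ?_)
    suffices cyc d.K (d.au ^ 2) ≤ (cyc d.K (d.au ^ 2)).comap (MulAut.conj s).toMonoidHom from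
      this hx
    refine sup_le (fun k hk => left_le_cyc _ _ (d.normK s hsz k hk)) (zpowers_le.2 ?_)
    have h1 := mul_mem (left_le_cyc _ _ hsconj)
      (pow_mem (self_mem_cyc d.K (d.au ^ 2)) (2 * q - 1))
    rwa [inv_mul_cancel_right] at h1
  obtain ⟨P, hP⟩ := Coprime.exists_invariant_sylow hsN
    (by rw [Nat.card_zpowers, hs2]; exact Nat.coprime_two_left.2 hA)
    (Or.inl inferInstance) q
  have hPq : IsPGroup q ((P : Subgroup (cyc d.K (d.au ^ 2))).map (cyc d.K (d.au ^ 2)).subtype) :=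
    P.2.map _
  haveI := hc.isCyclic_of_isPGroup d.hq d.q_ne_twoL hPq
  obtain ⟨π, hπ⟩ := IsCyclic.exists_generator
    (α := ((P : Subgroup (cyc d.K (d.au ^ 2))).map (cyc d.K (d.au ^ 2)).subtype : Subgroup G))
  have hπA : (π : G) ∈ cyc d.K (d.au ^ 2) := map_subtype_le _ π.2
  have hπord : orderOf (π : G) = q ^ ((Nat.card d.K).factorization q + 1) := by
    rw [Subgroup.orderOf_coe, orderOf_eq_card_of_forall_mem_zpowers hπ,
      card_map_of_injective (cyc d.K (d.au ^ 2)).subtype_injective, P.card_eq_multiplicity,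
      hu2.card_cyc, Nat.factorization_mul Nat.card_pos.ne' d.hq.ne_zero]
    simp [d.hq.factorization_self]
  have hπK : (π : G) ∉ d.K := fun hm => by
    have h1 := d.K.orderOf_dvd_natCard hm
    rw [hπord] at h1
    exact Nat.pow_succ_factorization_not_dvd Nat.card_pos.ne' d.hq h1
  obtain ⟨k, hk, i, hi⟩ := hu2.mem_cyc_iff.1 hπA
  have hqi : ¬ q ∣ i := fun hd => hπK (hi ▸ mul_mem hk ((hu2.mem_iff i).2 hd))
  have hconj : s * (π : G) * s⁻¹ ∈
      (P : Subgroup (cyc d.K (d.au ^ 2))).map (cyc d.K (d.au ^ 2)).subtype :=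
    conj_mem_of_mem_normalizer (hP (mem_zpowers s)) π.2
  obtain ⟨r, hr⟩ : ∃ r : ℕ, (π : G) ^ r = s * π * s⁻¹ := by
    obtain ⟨r, hr⟩ := mem_powers_iff_mem_zpowers.2 (hπ ⟨_, hconj⟩)
    exact ⟨r, congrArg Subtype.val hr⟩
  have hzu : Commute z (d.au ^ 2) := d.comm_u.pow_right 2
  have hr1 : d.Cong ((d.au ^ 2) ^ (i * r)) ((d.au ^ 2) ^ ((2 * q - 1) * i)) := by
    rw [pow_mul, pow_mul]
    have h1 : d.Cong ((π : G) ^ r) (((d.au ^ 2) ^ i) ^ r) :=
      hi ▸ d.cong_pow (d.cong_of_mem_K hk _) (hzu.pow_right i) r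
    refine d.cong_trans (d.cong_symm h1) ?_
    rw [hr, hi]
    have h2 : d.Cong (s * (k * (d.au ^ 2) ^ i) * s⁻¹) (s * (d.au ^ 2) ^ i * s⁻¹) :=
      d.cong_mul (d.cong_mul (d.cong_refl s) (d.cong_of_mem_K hk _) hsz) (d.cong_refl _)
        (hsz.mul_right (hzu.pow_right i))
    refine d.cong_trans h2 ?_
    rw [← conj_pow]
    exact d.cong_pow hsconj (hzu.pow_right _) i
  have hrq : q ∣ r + 1 := by
    have h1 := hu2.pow_mem_iff_modEq.1 hr1
    have h2 : i * r + i ≡ (2 * q - 1) * i + i [MOD q] := h1.add_right i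
    rw [show (2 * q - 1) * i + i = q * (2 * i) by
      have := d.hq.pos
      rw [Nat.sub_mul, one_mul, Nat.sub_add_cancel (Nat.le_mul_of_pos_left _ (by omega))]; ring,
      show i * r + i = i * (r + 1) by ring] at h2
    exact (d.hq.dvd_mul.1 (Nat.modEq_zero_iff_dvd.1
      (h2.trans (Nat.modEq_zero_iff_dvd.2 (dvd_mul_right _ _))))).resolve_left hqi
  set e := (Nat.card d.K).factorization q
  have hyo : orderOf ((π : G) ^ q ^ e) = q := by
    rw [orderOf_pow_of_dvd (pow_ne_zero _ d.hq.ne_zero) (hπord ▸ pow_dvd_pow q e.le_succ), hπord,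
      pow_succ, Nat.mul_div_cancel_left _ (pow_pos d.hq.pos e)]
  have hyinv : s * (π : G) ^ q ^ e * s⁻¹ = ((π : G) ^ q ^ e)⁻¹ := by
    rw [← conj_pow, ← hr, ← pow_mul, mul_comm, pow_mul, eq_inv_iff_mul_eq_one, ← pow_succ,
      ← orderOf_dvd_iff_pow_eq_one, hyo]
    exact hrq
  have hyK : (π : G) ^ q ^ e ∈ d.K := by
    have he : e ≠ 0 :=
      (d.hq.factorization_pos_of_dvd Nat.card_pos.ne' hK).ne'
    rw [hi]
    refine d.mem_K_of_cong_one (d.cong_trans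
      (d.cong_pow (d.cong_of_mem_K hk _) (hzu.pow_right i) _) ?_)
    show ((d.au ^ 2) ^ i) ^ q ^ e * 1⁻¹ ∈ d.K
    rw [inv_one, mul_one, ← pow_mul, hu2.mem_iff]
    exact (dvd_pow_self q he).mul_left i
  -- transport to `τ`
  have hsne : s ≠ z := fun hsz' => by
    rw [hsz', commute_iff_conj_eq.1 (d.K_le _ hyK)] at hyinv
    have h1 := eq_one_of_sq_eq_one (odd_orderOf_of_mem d.oddK hyK) (eq_inv_iff_mul_eq_one.1 hyinv)
    rw [h1, orderOf_one] at hyo
    exact d.hq.one_lt.ne hyo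
  obtain ⟨c, hcz, hce⟩ := d.conjNC s hs2 hsz hsne
  obtain ⟨y', hy'⟩ : ∃ y', y' = c⁻¹ * (π : G) ^ q ^ e * c := ⟨_, rfl⟩
  have hy'K : y' ∈ d.K := hy' ▸ d.conj_mem_K hcz hyK
  have hy'o : orderOf y' = q := by
    rw [hy']
    calc _ = orderOf (c⁻¹ * (π : G) ^ q ^ e * c⁻¹⁻¹) := by rw [inv_inv]
      _ = _ := by rw [orderOf_conj, hyo]
  have hy'inv : d.τ * y' * d.τ⁻¹ = y'⁻¹ := by
    rw [hy', show (c⁻¹ * (π : G) ^ q ^ e * c)⁻¹ = c⁻¹ * ((π : G) ^ q ^ e)⁻¹ * c by group, ← hyinv,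
      ← hce]
    group
  obtain ⟨⟨w, hw⟩, hwo⟩ := exists_prime_orderOf_dvd_card' (G := d.fixK) q h
  obtain ⟨h', hh', h1⟩ := hc.exists_conj_mem_zpowers d.K d.hq d.q_ne_twoL hw.1 hy'K
    (by rw [← hwo, Subgroup.orderOf_mk]) hy'o
  obtain ⟨j, hj⟩ := mem_zpowers_iff.1 h1
  have hτw : Commute d.τ (h' * y' * h'⁻¹) :=
    hj ▸ (show Commute w d.τ from mem_centralizer_singleton_iff.1 hw.2).symm.zpow_right j
  refine d.not_commute_of_inverted hc d.hq hy'K hy'o hy'inv (s := h'⁻¹ * d.τ * h') ?_ ?_ ?_ ?_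
  · rw [← d.τ_order, ← orderOf_conj h'⁻¹ d.τ, inv_inv]
  · exact (((d.K_le h' hh').inv_right).mul_right d.comm_τ).mul_right (d.K_le h' hh')
  · intro he
    apply d.τ_ne_z
    rw [show d.τ = h' * (h'⁻¹ * d.τ * h') * h'⁻¹ by group, he]
    exact commute_iff_conj_eq.1 (d.K_le h' hh').symm
  · have h4 := hτw.map (MulAut.conj h'⁻¹).toMonoidHom
    simp only [MulEquiv.coe_toMonoidHom, MulAut.conj_apply, inv_inv] at h4
    rwa [show h'⁻¹ * (h' * y' * h'⁻¹) * h' = y' by group] at h4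

theorem invNum_dvd : d.invNum ∣ Nat.card d.K := ⟨_, d.invNum_mul.symm⟩

/-- `invNum` and `|K|` have the same `q`-part. -/
theorem factorization_invNum (hc : CycSylow G) :
    d.invNum.factorization q = (Nat.card d.K).factorization q := by
  have h0 : d.invNum ≠ 0 := fun h0 => Nat.card_pos.ne' (by rw [← d.invNum_mul, h0, zero_mul] :
    Nat.card d.K = 0)
  rw [← d.invNum_mul, Nat.factorization_mul h0 Nat.card_pos.ne', Finsupp.add_apply,
    Nat.factorization_eq_zero_of_not_dvd (d.not_q_dvd_fixK hc), add_zero]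

end Cent

end Cfsg.Agent.SDCyclic
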