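import Cfsg.Agent.Lib.SDCyclic.LocalFrame

/-!
# The involutions centralising an element of order `q` when `τ` centralises `K`

For `q ∤ |K|` and `x ∈ A0` of order `q` the number `M` of involutions centralising `x` is odd and
congruent to `R`; for each prime `p ∣ M` there is a `z`-inverted Sylow `p`-subgroup of `O(C(x))`
normalised by enough of `N_C(⟨x⟩)`.
-/

set_option autoImplicit false
set_option linter.style.haveILetI false
set_option linter.unusedSectionVars false

namespace Cfsg.Agent.SDCyclic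

open Subgroup

universe u

variable {G : Type u} [Group G] [Finite G]

/-- If `n` inverts `x` and `n ^ 2` lies in a subgroup of odd order, an odd power of `n` is an
involution inverting `x`. -/
theorem exists_invol_inverting {D : Subgroup G} (hD : Odd (Nat.card D)) {n x : G}
    (hx : Odd (orderOf x)) (hx1 : x ≠ 1) (hn : n * x * n⁻¹ = x⁻¹) (hn2 : n * n ∈ D) :
    orderOf (n ^ Nat.card D) = 2 ∧ n ^ Nat.card D * x * (n ^ Nat.card D)⁻¹ = x⁻¹ := by
  obtain ⟨m, hm⟩ := hD
  have hc : Commute (n ^ 2) x := by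
    rw [commute_iff_conj_eq, pow_two, show n * n * x * (n * n)⁻¹ = n * (n * x * n⁻¹) * n⁻¹ by group,
      hn, ← conj_inv, hn, inv_inv]
  have hi : n ^ Nat.card D * x * (n ^ Nat.card D)⁻¹ = x⁻¹ := by
    rw [hm, pow_succ, pow_mul, mul_inv_rev, show (n ^ 2) ^ m * n * x * (n⁻¹ * ((n ^ 2) ^ m)⁻¹) =
      (n ^ 2) ^ m * (n * x * n⁻¹) * ((n ^ 2) ^ m)⁻¹ by group, hn]
    exact commute_iff_conj_eq.1 (hc.pow_left m).inv_right
  refine ⟨orderOf_eq_prime ?_ fun h => hx1 ?_, hi⟩
  · rw [← pow_mul, mul_comm, pow_mul, pow_two]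
    exact orderOf_dvd_iff_pow_eq_one.1 (D.orderOf_dvd_natCard hn2)
  · rw [h, one_mul, inv_one, mul_one, eq_inv_iff_mul_eq_one] at hi
    exact eq_one_of_sq_eq_one hx hi

namespace Cent

variable {z : G} {q : ℕ} {η : ℤ} {l g o : ℕ} (d : Cent z q η l g o)
include d

theorem commute_τ_of_invNum (hI : d.invNum = 1) {k : G} (hk : k ∈ d.K) : Commute k d.τ := by
  have h := d.invNum_mul
  rw [hI, one_mul] at h
  have he : d.fixK = d.K := eq_of_le_of_card_ge inf_le_left h.ge
  rw [← he] at hk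
  exact mem_centralizer_singleton_iff.1 hk.2

/-- If `τ` centralises `K`, every noncentral involution does. -/
theorem commute_invol_of_invNum (hI : d.invNum = 1) {k s : G} (hk : k ∈ d.K) (hs2 : orderOf s = 2)
    (hs : Commute z s) (hsz : s ≠ z) : Commute s k := by
  obtain ⟨c, hcz, rfl⟩ := d.conjNC s hs2 hs hsz
  have h := (d.commute_τ_of_invNum hI (d.conj_mem_K hcz hk)).map (MulAut.conj c).toMonoidHom
  simp only [MulEquiv.coe_toMonoidHom, MulAut.conj_apply] at h
  rw [show c * (c⁻¹ * k * c) * c⁻¹ = k by group] at h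
  exact h.symm

theorem czL : CycOver d.K z 2 where
  norm := d.normK _ (Commute.refl z)
  pos := two_pos
  mem_iff j := by
    rcases Nat.even_or_odd j with ⟨m, rfl⟩ | ⟨m, rfl⟩
    · simp [← two_mul, pow_mul, pow_two, d.z_mul_z]
    · have : z ^ (2 * m + 1) = z := by
        rw [pow_succ, pow_mul, pow_two, d.z_mul_z, one_pow, one_mul]
      rw [this, iff_false_right (by omega)]
      exact d.z_notMem_K

theorem notMem_KZ (hqK : ¬ q ∣ Nat.card d.K) {x : G} (hxo : orderOf x = q) : x ∉ d.KZ := by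
  intro h
  have h1 := d.KZ.orderOf_dvd_natCard h
  rw [hxo, show d.KZ = cyc d.K z from rfl, d.czL.card_cyc] at h1
  rcases d.hq.dvd_mul.1 h1 with h2 | h2
  · exact hqK h2
  · exact d.q_ne_twoL ((Nat.prime_dvd_prime_iff_eq d.hq Nat.prime_two).1 h2)

theorem notMem_K (hqK : ¬ q ∣ Nat.card d.K) {x : G} (hxo : orderOf x = q) : x ∉ d.K :=
  fun h => d.notMem_KZ hqK hxo (mem_sup_left h)

theorem au_q : d.Cong (d.au ^ q) z := by
  show _ * z⁻¹ ∈ d.K
  rw [d.z_invL]; exact d.zu

/-- The centralizer in `C` of an element of order `q` of `A0` lies in `Au`. -/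
theorem mem_Au_of_commute (hqK : ¬ q ∣ Nat.card d.K) {x : G} (hxA : x ∈ d.A0) (hxo : orderOf x = q)
    {y : G} (hy : Commute z y) (hxy : Commute x y) : y ∈ d.Au := by
  have hxu : x ∈ d.Au := d.A0_le_Au hxA
  have hfix : y⁻¹ * x * y = x := by rw [mul_assoc, hxy.eq, inv_mul_cancel_left]
  have h := d.selfU x hxu (d.notMem_KZ hqK hxo) y hy (by rw [hfix]; exact hxu)
  obtain ⟨k, hk, j, hj⟩ := d.cu.mem_cyc_iff.1 h
  obtain ⟨k', hk', i, hi⟩ := d.cu2.mem_cyc_iff.1 hxA
  have hyau : d.Cong (y⁻¹ * d.au * y) (d.au ^ j) := hj ▸ d.cong_of_mem_K hk _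
  have hconj : ∀ n, d.Cong (y⁻¹ * d.au ^ n * y) (d.au ^ (j * n)) := by
    intro n
    rw [pow_mul, show y⁻¹ * d.au ^ n * y = (y⁻¹ * d.au * y) ^ n by
      rw [show y⁻¹ * d.au * y = y⁻¹ * d.au * y⁻¹⁻¹ by rw [inv_inv], conj_pow, inv_inv]]
    exact d.cong_pow hyau (d.comm_u.pow_right j) n
  -- `j` fixes `au ^ q` and `au ^ (2 i)`
  have h1 : j * q ≡ q [MOD 2 * q] := by
    refine d.cu.pow_mem_iff_modEq.1 (d.cong_trans (d.cong_symm (hconj q)) ?_)
    refine d.cong_trans (d.cong_mul (d.cong_mul (d.cong_refl y⁻¹) d.au_q hy.inv_right)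
      (d.cong_refl y) (hy.inv_right.mul_right (Commute.refl z))) ?_
    rw [mul_assoc, hy.eq, inv_mul_cancel_left]
    exact d.cong_symm d.au_q
  have h2 : j * (2 * i) ≡ 2 * i [MOD 2 * q] := by
    refine d.cu.pow_mem_iff_modEq.1 (d.cong_trans (d.cong_symm (hconj (2 * i))) ?_)
    have hxc : d.Cong x (d.au ^ (2 * i)) := by
      rw [hi, ← pow_mul]; exact d.cong_of_mem_K hk' _
    refine d.cong_trans ?_ hxc
    have h3 := d.cong_symm (d.cong_mul (d.cong_mul (d.cong_refl y⁻¹) hxc hy.inv_right) (d.cong_refl y)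
      (hy.inv_right.mul_right (d.comm_u.pow_right _)))
    rwa [hfix] at h3
  have hqi : ¬ q ∣ i := fun hd => d.notMem_K hqK hxo (hi ▸ mul_mem hk' ((d.cu2.mem_iff i).2 hd))
  have h1' : j ≡ 1 [MOD 2] :=
    Nat.ModEq.mul_right_cancel' d.hq.ne_zero (by rw [one_mul]; exact h1)
  have h2' : j ≡ 1 [MOD q] := by
    have h3 : j * i ≡ 1 * i [MOD q] := by
      rw [one_mul]
      refine Nat.ModEq.mul_left_cancel' two_ne_zero ?_
      rwa [← mul_left_comm]
    exact Nat.ModEq.cancel_right_of_coprime ((d.hq.coprime_iff_not_dvd).2 hqi) h3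
  have hj1 : j ≡ 1 [MOD 2 * q] := (Nat.modEq_and_modEq_iff_modEq_mul
    ((Nat.coprime_primes Nat.prime_two d.hq).2 (Ne.symm d.q_ne_twoL))).1 ⟨h1', h2'⟩
  refine d.kerU y hy ?_
  have h4 := d.cong_trans hyau (d.cu.pow_mem_iff_modEq.2 hj1)
  rwa [pow_one] at h4

/-! ### The involutions commuting with `x` -/

/-- The number of involutions commuting with `x`. -/
noncomputable abbrev invCount (_d : Cent z q η l g o) (x : G) : ℕ :=
  Nat.card {i : G // orderOf i = 2 ∧ Commute x i}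

theorem index_modEq_invCount (hc : CycSylow G) {x : G} (hxo : orderOf x = q) :
    (centralizer ({z} : Set G)).index ≡ d.invCount x [MOD q] := by
  obtain ⟨c, hR⟩ := d.exists_index_eq_add hc d.hq d.q_ne_twoL
    (isPGroup_zpowers (n := 1) (by rw [hxo, pow_one])) (mem_zpowers x) hxo
  rw [Nat.card_zpowers, hxo] at hR
  rw [hR, Nat.modEq_iff_dvd]
  exact ⟨-(c : ℤ), by push_cast; ring⟩

theorem odd_invCount (hc : CycSylow G) {x : G} (hxz : Commute z x) (hxo : orderOf x = q) :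
    Odd (d.invCount x) := by
  have hS : ∀ w ∈ zpowers z, ∀ i ∈ {i : G | orderOf i = 2 ∧ Commute x i},
      w * i * w⁻¹ ∈ {i : G | orderOf i = 2 ∧ Commute x i} := by
    intro w hw i hi
    obtain ⟨n, rfl⟩ := mem_zpowers_iff.1 hw
    refine ⟨(orderOf_conj _ i).trans hi.1, ?_⟩
    exact ((hxz.symm.zpow_right n).mul_right hi.2).mul_right (hxz.symm.zpow_right n).inv_right
  have hmin : ∀ w ∈ zpowers z, w ≠ 1 → z ∈ zpowers w := by
    intro w hw hw1
    obtain ⟨n, rfl⟩ := mem_zpowers_iff.1 hw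
    obtain ⟨m, rfl | rfl⟩ := Int.even_or_odd' n
    · exact absurd (by rw [zpow_mul, zpow_two, d.z_mul_z, one_zpow]) hw1
    · rw [zpow_add, zpow_mul, zpow_two, d.z_mul_z, one_zpow, one_mul, zpow_one]
      exact mem_zpowers z
  obtain ⟨c, h⟩ := exists_card_eq_add_mul (mem_zpowers z) hmin
    (fun w hw => by obtain ⟨n, rfl⟩ := mem_zpowers_iff.1 hw; exact (Commute.refl z).zpow_left n) hS
  have h1 : Nat.card {i : G // i ∈ {i : G | orderOf i = 2 ∧ Commute x i} ∧ Commute z i} = 1 := by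
    refine Nat.card_eq_one_iff_unique.2 ⟨⟨fun a b => Subtype.ext ?_⟩,
      ⟨⟨z, ⟨d.zorder, hxz.symm⟩, Commute.refl z⟩⟩⟩
    rw [d.unique_invol_q hc hxz hxo _ (mem_centralizer_singleton_iff.2 a.2.1.2.symm.eq) a.2.1.1 a.2.2,
      d.unique_invol_q hc hxz hxo _ (mem_centralizer_singleton_iff.2 b.2.1.2.symm.eq) b.2.1.1 b.2.2]
  rw [h1, Nat.card_zpowers, d.zorder] at h
  exact ⟨c, h.trans (add_comm _ _)⟩

theorem invCount_mul (hc : CycSylow G) {x : G} (hxz : Commute z x) (hxo : orderOf x = q) :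
    d.invCount x * Nat.card (Oc (centralizer ({x} : Set G)) ⊓ centralizer ({z} : Set G) : Subgroup G) =
      Nat.card (Oc (centralizer ({x} : Set G))) := by
  have hwd : ∀ a b : G, a⁻¹ * b ∈ centralizer ({z} : Set G) ↔ a * z * a⁻¹ = b * z * b⁻¹ := by
    intro a b
    rw [mem_centralizer_singleton_iff]
    constructor
    · intro h
      calc a * z * a⁻¹ = a * (z * (a⁻¹ * b)) * b⁻¹ := by group
        _ = b * z * b⁻¹ := by rw [← h]; group
    · intro h
      calc a⁻¹ * b * z = a⁻¹ * (b * z * b⁻¹) * b := by group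
        _ = z * (a⁻¹ * b) := by rw [← h]; group
  set H := centralizer ({x} : Set G) with hH
  have hzH : z ∈ H := mem_centralizer_singleton_iff.2 hxz.eq
  let D := (Oc H ⊓ centralizer ({z} : Set G)).subgroupOf (Oc H)
  have hmem : ∀ a b : Oc H, a⁻¹ * b ∈ D ↔ (a : G) * z * (a : G)⁻¹ = b * z * (b : G)⁻¹ := by
    intro a b
    rw [mem_subgroupOf, mem_inf, and_iff_right (SetLike.coe_mem _), coe_mul, coe_inv]
    exact hwd _ _
  let f : Oc H ⧸ D → {i : G // orderOf i = 2 ∧ Commute x i} :=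
    Quotient.lift (fun a => ⟨(a : G) * z * (a : G)⁻¹, by rw [orderOf_conj, d.zorder],
      ((show Commute x (a : G) from (mem_centralizer_singleton_iff.1 (Oc_le H a.2)).symm).mul_right
        hxz.symm).mul_right
        (show Commute x (a : G) from (mem_centralizer_singleton_iff.1 (Oc_le H a.2)).symm).inv_right⟩)
      fun a b h => Subtype.ext ((hmem a b).1 (QuotientGroup.leftRel_apply.1 h))
  have hf : Function.Bijective f := by
    refine ⟨fun a b h => ?_, fun i => ?_⟩
    · induction a using QuotientGroup.induction_on with | _ a => ?_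
      induction b using QuotientGroup.induction_on with | _ b => ?_
      exact QuotientGroup.eq.2 ((hmem a b).2 (congrArg Subtype.val h))
    · obtain ⟨i, hi2, hxi⟩ := i
      have huniq := d.unique_invol_q hc hxz hxo
      obtain ⟨h, hh, hhi⟩ := exists_conj_eq_of_unique hzH d.zorder huniq
        (mem_centralizer_singleton_iff.2 hxi.symm.eq) hi2
      obtain ⟨w, hw⟩ : ∃ w, w = z * i := ⟨_, rfl⟩
      have hwO : w ∈ Oc H := by
        have h1 := commutator_mem_Oc hzH d.zorder huniq hh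
        rwa [d.z_invL, show z * h * z * h⁻¹ = w by rw [hw, ← hhi]; group] at h1
      have hwz : z * w * z⁻¹ = w⁻¹ := by
        rw [hw, mul_inv_rev, Involution.inv_of_orderOf_two hi2, ← mul_assoc, d.z_mul_z, one_mul]
      obtain ⟨m, hm⟩ := odd_orderOf_of_mem (odd_Oc H) hwO
      refine ⟨((⟨(w ^ (m + 1))⁻¹, inv_mem (pow_mem hwO _)⟩ : Oc H) : Oc H ⧸ D), Subtype.ext ?_⟩
      show (w ^ (m + 1))⁻¹ * z * ((w ^ (m + 1))⁻¹)⁻¹ = i
      have h2 : (w ^ (m + 1))⁻¹ * z = z * w ^ (m + 1) := by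
        rw [← inv_pow, ← hwz, conj_pow, inv_mul_cancel_right]
      rw [inv_inv, h2, mul_assoc, ← pow_add, show m + 1 + (m + 1) = orderOf w + 1 by omega, pow_succ,
        pow_orderOf_eq_one, one_mul, hw, ← mul_assoc, d.z_mul_z, one_mul]
  rw [invCount, ← Nat.card_congr (Equiv.ofBijective f hf),
    ← Nat.card_congr (subgroupOfEquivOfLe (inf_le_left : Oc H ⊓ centralizer ({z} : Set G) ≤ Oc H)).toEquiv,
    ← card_eq_card_quotient_mul_card_subgroup]

/-- A prime of `invCount x`: a `z`-inverted Sylow `p`-subgroup of `O(C(x))` normalised, up to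
`C_O(z)`, by the elements of `C` normalising `⟨x⟩`. -/
theorem exists_inverted_sylow (hc : CycSylow G) {x : G} (hxz : Commute z x) (hxo : orderOf x = q)
    {p : ℕ} (hp : p.Prime) (hpM : p ∣ d.invCount x) :
    p ≠ 2 ∧ p ≠ q ∧ ∃ L : Subgroup G, IsPGroup p L ∧ L ≤ Oc (centralizer ({x} : Set G)) ∧
      Nat.card L = p ^ (Nat.card (Oc (centralizer ({x} : Set G)))).factorization p ∧
      (∀ a ∈ L, z * a * z⁻¹ = a⁻¹) ∧ (∃ y ∈ L, orderOf y = p) ∧
      ∀ c, Commute z c → c ∈ normalizer (zpowers x : Set G) →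
        ∃ f ∈ Oc (centralizer ({x} : Set G)), Commute z f ∧ f * c ∈ normalizer (L : Set G) := by
  haveI := Fact.mk hp
  set H := centralizer ({x} : Set G) with hH
  have hmul : d.invCount x * Nat.card (Oc H ⊓ centralizer ({z} : Set G) : Subgroup G) =
      Nat.card (Oc H) := d.invCount_mul hc hxz hxo
  have hpO : p ∣ Nat.card (Oc H) := hmul ▸ dvd_mul_of_dvd_left hpM _
  have hp2 : p ≠ 2 := fun h => by
    have h1 := (odd_Oc H).of_dvd_nat hpO
    rw [h] at h1; norm_num at h1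
  have hzH : z ∈ H := mem_centralizer_singleton_iff.2 hxz.eq
  have hzN : zpowers z ≤ normalizer (Oc H : Set G) :=
    zpowers_le.2 (mem_normalizer_Oc (le_normalizer hzH))
  have hcop : (Nat.card (zpowers z)).Coprime (Nat.card (Oc H)) := by
    rw [Nat.card_zpowers, d.zorder]; exact Nat.coprime_two_left.2 (odd_Oc H)
  have hsolv : Group.IsSolvable (zpowers z) ∨ Group.IsSolvable (Oc H) := Or.inl inferInstance
  obtain ⟨P, hP⟩ := Coprime.exists_invariant_sylow hzN hcop hsolv p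
  set L := (P : Subgroup (Oc H)).map (Oc H).subtype with hLdef
  have hLp : IsPGroup p L := P.2.map _
  have hLcard : Nat.card L = p ^ (Nat.card (Oc H)).factorization p := by
    rw [hLdef, card_map_of_injective (Oc H).subtype_injective, P.card_eq_multiplicity]
  haveI := hc.isCyclic_of_isPGroup hp hp2 hLp
  have hinv : ∀ a ∈ L, z * a * z⁻¹ = a⁻¹ := by
    rcases inv_or_centralize hp hp2 hLp d.z_mul_z (hP (mem_zpowers z)) with h | h
    · exact h
    exfalso
    have h1 : L ≤ Oc H ⊓ centralizer ({z} : Set G) :=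
      le_inf (map_subtype_le _) fun a ha => mem_centralizer_singleton_iff.2 (h a ha).symm.eq
    have h2 := card_dvd_of_le h1
    rw [hLcard] at h2
    refine Nat.pow_succ_factorization_not_dvd (Nat.card_pos (α := Oc H)).ne' hp ?_
    rw [pow_succ']
    exact (mul_dvd_mul hpM h2).trans (dvd_of_eq hmul)
  obtain ⟨⟨y, hy⟩, hyo⟩ := exists_prime_orderOf_dvd_card' (G := L) p (by
    rw [hLcard]
    exact dvd_pow_self p (hp.factorization_pos_of_dvd Nat.card_pos.ne' hpO).ne')
  rw [Subgroup.orderOf_mk] at hyo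
  have hyH : y ∈ H := Oc_le H (map_subtype_le _ hy)
  refine ⟨hp2, fun h => ?_, L, hLp, map_subtype_le _, hLcard, hinv, ⟨y, hy, hyo⟩, ?_⟩
  · subst h
    obtain ⟨n, hn⟩ := mem_zpowers_iff.1 (hc.mem_zpowers_of_commute hp hp2 hxo
      (hyo ▸ pow_orderOf_eq_one y) (mem_centralizer_singleton_iff.1 hyH).symm)
    have h1 := hinv y hy
    rw [← hn, commute_iff_conj_eq.1 (hxz.zpow_right n), hn, eq_inv_iff_mul_eq_one] at h1
    have h2 := eq_one_of_sq_eq_one (hyo ▸ hp.odd_of_ne_two hp2) h1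
    rw [h2, orderOf_one] at hyo
    exact hp.one_lt.ne hyo
  intro c hcz hcN
  have hcO : c ∈ normalizer (Oc H : Set G) := mem_normalizer_Oc (mem_normalizer_centralizer_of_mem hcN)
  have hle : L.map (MulAut.conj c).toMonoidHom ≤ Oc H := by
    rintro _ ⟨a, ha, rfl⟩
    exact conj_mem_of_mem_normalizer hcO (map_subtype_le _ ha)
  let Q : Sylow p (Oc H) := Sylow.ofCard ((L.map (MulAut.conj c).toMonoidHom).subgroupOf (Oc H)) (by
    rw [Nat.card_congr (subgroupOfEquivOfLe hle).toEquiv,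
      card_map_of_injective (MulAut.conj c).injective, hLcard])
  have hQmap : (Q : Subgroup (Oc H)).map (Oc H).subtype = L.map (MulAut.conj c).toMonoidHom :=
    map_subgroupOf_eq_of_le hle
  have hQN : zpowers z ≤ normalizer
      (((Q : Subgroup (Oc H)).map (Oc H).subtype : Subgroup G) : Set G) := by
    rw [hQmap]
    refine zpowers_le.2 (mem_normalizer_of_conj_mem ?_)
    rintro _ ⟨a, ha, rfl⟩
    refine ⟨a⁻¹, inv_mem ha, ?_⟩
    simp only [MulEquiv.coe_toMonoidHom, MulAut.conj_apply]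
    rw [← hinv a ha, show z * (c * a * c⁻¹) * z⁻¹ = (z * c) * a * (z * c)⁻¹ by group, hcz.eq]
    group
  obtain ⟨f, hf, hfQ⟩ := Coprime.exists_centralizer_smul_sylow hzN hcop hsolv Q P hQN hP
  refine ⟨f, f.2, (show Commute z (f : G) from mem_centralizer_iff.1 hf z (mem_zpowers z)), ?_⟩
  refine mem_normalizer_of_conj_mem fun a ha => ?_
  obtain ⟨q', hq', hqe⟩ : c * a * c⁻¹ ∈ (Q : Subgroup (Oc H)).map (Oc H).subtype := by
    rw [hQmap]; exact ⟨a, ha, rfl⟩
  refine ⟨f * q' * f⁻¹, ?_, ?_⟩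
  · rw [← hfQ, Sylow.coe_subgroup_smul]
    exact Subgroup.smul_mem_pointwise_smul _ (MulAut.conj f) _ hq'
  · have hqe' : (q' : G) = c * a * c⁻¹ := hqe
    simp [hqe', mul_assoc]

end Cent

end Cfsg.Agent.SDCyclic
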