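import Cfsg.Agent.Lib.SDCyclic.LocalIndex

/-!
# Counting involutions; elements of order `q`; the case of an element of `K` inverted by `τ`

The number of involutions is `R`; if `q ∣ |K|` or `τ` inverts something in `K`, an element `x` of
order `q` of `C` has its centralizer in `C`, so `R ≡ 1` modulo the order of a Sylow `q`-subgroup.
-/

set_option autoImplicit false
set_option linter.style.haveILetI false
set_option linter.unusedSectionVars false

namespace Cfsg.Agent.SDCyclic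

open Subgroup
open scoped commutatorElement

universe u

variable {G : Type u} [Group G] [Finite G]

namespace Cent

variable {z : G} {q : ℕ} {η : ℤ} {l g o : ℕ} (d : Cent z q η l g o)
include d

theorem card_invol :
    Nat.card {i : G // orderOf i = 2} = (centralizer ({z} : Set G)).index := by
  have hwd : ∀ a b : G, a⁻¹ * b ∈ centralizer ({z} : Set G) ↔ a * z * a⁻¹ = b * z * b⁻¹ := by
    intro a b
    rw [mem_centralizer_singleton_iff]
    constructor
    · intro h
      calc a * z * a⁻¹ = a * (z * (a⁻¹ * b)) * b⁻¹ := by group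
        _ = b * z * b⁻¹ := by rw [← h]; group
    · intro h
      calc a⁻¹ * b * z = a⁻¹ * (b * z * b⁻¹) * b := by group
        _ = z * (a⁻¹ * b) := by rw [← h]; group
  let f : G ⧸ centralizer ({z} : Set G) → {i : G // orderOf i = 2} :=
    Quotient.lift (fun a => ⟨a * z * a⁻¹, by rw [orderOf_conj, d.zorder]⟩) fun a b h =>
      Subtype.ext ((hwd a b).1 (QuotientGroup.leftRel_apply.1 h))
  have hf : Function.Bijective f := by
    refine ⟨fun x y h => ?_, fun i => ?_⟩
    · induction x using QuotientGroup.induction_on with | _ a => ?_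
      induction y using QuotientGroup.induction_on with | _ b => ?_
      exact QuotientGroup.eq.2 ((hwd a b).2 (congrArg Subtype.val h))
    · obtain ⟨c, hc⟩ := d.exists_conj_z i.2
      exact ⟨c, Subtype.ext hc⟩
  rw [← Nat.card_congr (Equiv.ofBijective f hf)]
  rfl

/-- The index counts the involutions: modulo a cyclic `p`-subgroup `P ∋ x` only those centralised
by `x` remain. -/
theorem exists_index_eq_add (hc : CycSylow G) {p : ℕ} (hp : p.Prime) (hp2 : p ≠ 2)
    {P : Subgroup G} (hP : IsPGroup p P) {x : G} (hx : x ∈ P) (hxo : orderOf x = p) :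
    ∃ c, (centralizer ({z} : Set G)).index =
      Nat.card {i : G // orderOf i = 2 ∧ Commute x i} + Nat.card P * c := by
  haveI := hc.isCyclic_of_isPGroup hp hp2 hP
  obtain ⟨c, h⟩ := exists_card_eq_add_mul (S := {i : G | orderOf i = 2}) hx
    (fun w hw hw1 => mem_zpowers_of_cyclic hc hp hp2 hP hx hxo hw hw1)
    (fun w hw => commute_of_cyclic hw hx) (fun w _ i hi => (orderOf_conj w i).trans hi)
  exact ⟨c, d.card_invol ▸ h⟩

/-- The odd half of `Au`. -/
abbrev A0 : Subgroup G := cyc d.K (d.au ^ 2)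

theorem cu2 : CycOver d.K (d.au ^ 2) q :=
  ⟨d.normK _ (d.comm_u.pow_right 2), d.hq.pos, fun j => by
    rw [← pow_mul, d.cu.mem_iff]; exact Nat.mul_dvd_mul_iff_left two_pos⟩

theorem card_A0 : Nat.card d.A0 = Nat.card d.K * q := d.cu2.card_cyc

theorem odd_A0 : Odd (Nat.card d.A0) := d.card_A0 ▸ d.oddK.mul d.odd_q

theorem A0_le_Au : d.A0 ≤ d.Au :=
  sup_le (left_le_cyc _ _) (zpowers_le.2 (pow_mem (self_mem_cyc _ _) 2))

theorem A0_le_C : d.A0 ≤ centralizer ({z} : Set G) := d.A0_le_Au.trans d.Au_le_C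

/-- An element of order `q` of `A0` with a Sylow `q`-subgroup of `C` around it. -/
theorem exists_frame : ∃ (x : G) (P : Subgroup G), orderOf x = q ∧ x ∈ P ∧ P ≤ d.A0 ∧
    IsPGroup q P ∧ Nat.card P = q ^ ((Nat.card d.K).factorization q + 1) := by
  haveI := Fact.mk d.hq
  obtain ⟨P, hP⟩ := Sylow.exists_subgroup_card_pow_prime (G := d.A0) q
    (n := (Nat.card d.K).factorization q + 1) (by
      rw [d.card_A0, pow_succ]
      exact mul_dvd_mul (Nat.ordProj_dvd _ _) dvd_rfl)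
  have hcard : Nat.card (P.map d.A0.subtype) = q ^ ((Nat.card d.K).factorization q + 1) := by
    rw [card_map_of_injective d.A0.subtype_injective, hP]
  obtain ⟨⟨x, hx⟩, hxo⟩ := exists_prime_orderOf_dvd_card' (G := (P.map d.A0.subtype : Subgroup G)) q
    (by rw [hcard]; exact dvd_pow_self q (Nat.succ_ne_zero _))
  rw [Subgroup.orderOf_mk] at hxo
  exact ⟨x, _, hxo, hx, map_subtype_le _, IsPGroup.of_card hcard, hcard⟩

/-- If `C(x) ≤ C` then `R ≡ 1` modulo the order of a Sylow `q`-subgroup of `C`. -/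
theorem index_modEq_one (hc : CycSylow G) {x : G} {P : Subgroup G} (hxo : orderOf x = q)
    (hxP : x ∈ P) (hPA : P ≤ d.A0) (hPq : IsPGroup q P)
    (hle : centralizer ({x} : Set G) ≤ centralizer ({z} : Set G)) :
    (centralizer ({z} : Set G)).index ≡ 1 [MOD Nat.card P] := by
  have hxz : Commute z x := d.mem_CL.1 (d.A0_le_C (hPA hxP))
  obtain ⟨c, hR⟩ := d.exists_index_eq_add hc d.hq d.q_ne_twoL hPq hxP hxo
  have h1 : Nat.card {i : G // orderOf i = 2 ∧ Commute x i} = 1 := by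
    refine Nat.card_eq_one_iff_unique.2 ⟨⟨fun a b => Subtype.ext ?_⟩, ⟨⟨z, d.zorder, hxz.symm⟩⟩⟩
    have key : ∀ i, orderOf i = 2 → Commute x i → i = z := by
      intro i hi2 hxi
      by_contra h
      exact d.not_commute_q hc hxz hxo hi2
        (d.mem_CL.1 (hle (mem_centralizer_singleton_iff.2 hxi.symm.eq))) h hxi.symm
    rw [key _ a.2.1 a.2.2, key _ b.2.1 b.2.2]
  rw [hR, h1, Nat.modEq_iff_dvd]
  exact ⟨-(c : ℤ), by push_cast; ring⟩

theorem unique_invol_q (hc : CycSylow G) {x : G} (hxz : Commute z x) (hxo : orderOf x = q) :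
    ∀ i ∈ centralizer ({x} : Set G), orderOf i = 2 → Commute z i → i = z := by
  intro i hi hi2 hzi
  by_contra h
  exact d.not_commute_q hc hxz hxo hi2 hzi h (mem_centralizer_singleton_iff.1 hi)

/-- `q ∣ |K|`: elements of order `q` have their centralizer in `C`. -/
theorem centralizer_q_le_of_dvd (hc : CycSylow G) (hqK : q ∣ Nat.card d.K) {x : G}
    (hxz : Commute z x) (hxo : orderOf x = q) :
    centralizer ({x} : Set G) ≤ centralizer ({z} : Set G) :=
  d.centralizer_le_C hc d.hq d.q_ne_twoL (d.K_le_Aw (d.mem_K_of_dvd hc d.hq hqK hxz hxo)) hxo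
    fun _ h1 h2 h3 => d.not_commute_q hc hxz hxo h1 h2 h3

/-- A commutator of `C` of order `p` modulo `K` gives elements of order `p` centralising a given
element of prime order of `K`. -/
theorem exists_commute_of_commutator (hc : CycSylow G) {ℓ : ℕ} (hℓ : ℓ.Prime) {v : G}
    (hv : v ∈ d.K) (hvo : orderOf v = ℓ) {p : ℕ} (hp : p.Prime) {c₁ c₂ e : G} (h₁ : Commute z c₁)
    (h₂ : Commute z c₂) (he : d.Cong ⁅c₁, c₂⁆ e) (hze : Commute z e) (heK : e ∉ d.K)
    (hep : e ^ p ∈ d.K) :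
    ∃ b, Commute z b ∧ orderOf b = p ∧ Commute b v := by
  have hℓ2 : ℓ ≠ 2 := fun h => by
    have h1 := odd_orderOf_of_mem d.oddK hv
    rw [hvo, h] at h1; norm_num at h1
  have hvz := d.K_le v hv
  obtain ⟨k₁, hk₁, hn₁⟩ := d.exists_K_mul_mem_normalizer hc hℓ hℓ2 hvz hvo
    (mem_sup_left (d.normK c₁ h₁ v hv))
  obtain ⟨k₂, hk₂, hn₂⟩ := d.exists_K_mul_mem_normalizer hc hℓ hℓ2 hvz hvo
    (mem_sup_left (d.normK c₂ h₂ v hv))
  obtain ⟨b, hb⟩ : ∃ b, b = ⁅k₁ * c₁, k₂ * c₂⁆ := ⟨_, rfl⟩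
  have hbv : Commute b v :=
    commute_of_mem_commutator_zpowers (fun n hn => hn) (hb ▸ commutator_mem_commutator hn₁ hn₂)
  have hbz : Commute z b := by
    rw [hb, commutatorElement_def]
    have e1 := (d.K_le k₁ hk₁).mul_right h₁
    have e2 := (d.K_le k₂ hk₂).mul_right h₂
    exact ((e1.mul_right e2).mul_right e1.inv_right).mul_right e2.inv_right
  have hbe : d.Cong b e := hb ▸
    d.cong_trans (d.cong_commutator (d.cong_of_mem_K hk₁ _) (d.cong_of_mem_K hk₂ _) h₁ h₂) he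
  have hbK : b ∉ d.K := fun h => heK (by
    have h1 := mul_mem (inv_mem (show b * e⁻¹ ∈ d.K from hbe)) h
    rwa [mul_inv_rev, inv_inv, inv_mul_cancel_right] at h1)
  have hbp : b ^ p ∈ d.K := by
    have h1 := mul_mem (show b ^ p * (e ^ p)⁻¹ ∈ d.K from d.cong_pow hbe hze p) hep
    rwa [inv_mul_cancel_right] at h1
  have hpb : p ∣ orderOf b := by
    by_contra h
    obtain ⟨m, hm⟩ := exists_pow_eq_self_of_coprime (x := b) (((hp.coprime_iff_not_dvd).2 h))
    exact hbK (hm ▸ pow_mem hbp m)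
  exact ⟨b ^ (orderOf b / p), hbz.pow_right _, orderOf_pow_orderOf_div (orderOf_pos b).ne' hpb,
    hbv.pow_left _⟩

/-- `τ` inverts something in `K`: elements of order `q` have their centralizer in `C`. -/
theorem centralizer_q_le_of_inverted (hc : CycSylow G) (hI : d.invNum ≠ 1) {x : G}
    (hxz : Commute z x) (hxo : orderOf x = q) :
    centralizer ({x} : Set G) ≤ centralizer ({z} : Set G) := by
  obtain ⟨ℓ, hℓ, v₀, hv₀, hv₀o, hinv⟩ := d.exists_inverted hI
  have hℓ2 : ℓ ≠ 2 := fun h => by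
    have h1 := odd_orderOf_of_mem d.oddK hv₀
    rw [hv₀o, h] at h1; norm_num at h1
  -- a conjugate `v` of `v₀` commutes with `x`
  obtain ⟨c, hcz, hcau⟩ := d.surU (2 * q - 1) ⟨q - 1, by have := d.hq.pos; omega⟩ (fun h => by
    have h1 := Nat.dvd_sub (dvd_mul_left q 2) h
    rw [show 2 * q - (2 * q - 1) = 1 by have := d.hq.pos; omega] at h1
    exact d.hq.not_dvd_one h1)
  obtain ⟨b, hbz, hbo, hbv⟩ := d.exists_commute_of_commutator hc hℓ hv₀ hv₀o d.hq hcz.inv_right
    d.comm_u (e := d.au ^ (2 * q - 2)) (by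
      rw [commutatorElement_def, inv_inv]
      have h := d.cong_mul (show d.Cong (c⁻¹ * d.au * c) (d.au ^ (2 * q - 1)) from hcau)
        (d.cong_refl d.au⁻¹) (d.comm_u.pow_right _)
      rwa [show 2 * q - 1 = (2 * q - 2) + 1 by have := d.hq.two_le; omega, pow_succ,
        mul_inv_cancel_right] at h)
    (d.comm_u.pow_right _) (by
      rw [d.cu.mem_iff]
      intro h
      have := d.hq.two_le
      have := Nat.le_of_dvd (by omega) h
      omega)
    (by
      rw [← pow_mul, d.cu.mem_iff]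
      exact ⟨q - 1, by
        rw [show 2 * q - 2 = 2 * (q - 1) by omega]; ring⟩)
  obtain ⟨h, hh, h1⟩ := hc.exists_conj_mem_zpowers (centralizer ({z} : Set G)) d.hq d.q_ne_twoL
    (d.mem_CL.2 hbz) (d.mem_CL.2 hxz) hbo hxo
  have hhz := d.mem_CL.1 hh
  obtain ⟨i, hi⟩ := mem_zpowers_iff.1 h1
  obtain ⟨v, hvdef⟩ : ∃ v, v = h⁻¹ * v₀ * h := ⟨_, rfl⟩
  have hxv : Commute x v := by
    have h2 : Commute (h * x * h⁻¹) v₀ := hi ▸ hbv.zpow_left i
    have h3 := h2.map (MulAut.conj h⁻¹).toMonoidHom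
    simp only [MulEquiv.coe_toMonoidHom, MulAut.conj_apply, inv_inv] at h3
    rwa [show h⁻¹ * (h * x * h⁻¹) * h = x by group, ← hvdef] at h3
  have hvK : v ∈ d.K := hvdef ▸ d.conj_mem_K hhz hv₀
  have hvo : orderOf v = ℓ := by
    rw [hvdef]
    calc _ = orderOf (h⁻¹ * v₀ * h⁻¹⁻¹) := by rw [inv_inv]
      _ = _ := by rw [orderOf_conj, hv₀o]
  have hCv : centralizer ({v} : Set G) ≤ centralizer ({z} : Set G) := by
    intro a ha
    have h2 : Commute a v := mem_centralizer_singleton_iff.1 ha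
    have h3 := h2.map (MulAut.conj h).toMonoidHom
    simp only [MulEquiv.coe_toMonoidHom, MulAut.conj_apply] at h3
    rw [show h * v * h⁻¹ = v₀ by rw [hvdef]; group] at h3
    have h4 := d.mem_CL.1 (d.centralizer_inverted_le_C hc hℓ hv₀ hv₀o hinv
      (mem_centralizer_singleton_iff.2 h3.eq))
    refine d.mem_CL.2 ?_
    have h5 := (hhz.inv_right.mul_right h4).mul_right hhz
    rwa [show h⁻¹ * (h * a * h⁻¹) * h = a by group] at h5
  obtain ⟨w, hw⟩ : ∃ w, w = h⁻¹ * d.τ * h := ⟨_, rfl⟩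
  have hwz : Commute z w := hw ▸ (hhz.inv_right.mul_right d.comm_τ).mul_right hhz
  have hwv : w * v * w⁻¹ = v⁻¹ := by
    rw [hw, hvdef, show (h⁻¹ * v₀ * h)⁻¹ = h⁻¹ * v₀⁻¹ * h by group, ← hinv]
    group
  -- some element normalising `⟨x⟩` inverts `v`
  have hxC : x ∈ centralizer ({v} : Set G) ⊓ centralizer ({z} : Set G) :=
    ⟨mem_centralizer_singleton_iff.2 hxv.eq, d.mem_CL.2 hxz⟩
  have hwx : w * x * w⁻¹ ∈ centralizer ({v} : Set G) ⊓ centralizer ({z} : Set G) :=
    ⟨conj_mem_of_mem_normalizer (mem_normalizer_centralizer_of_mem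
      (mem_normalizer_zpowers_of_conj_mem (hwv ▸ inv_mem (mem_zpowers v)))) hxC.1,
      d.mem_CL.2 ((hwz.mul_right hxz).mul_right hwz.inv_right)⟩
  obtain ⟨f, hf, hn⟩ := hc.exists_mul_mem_normalizer d.hq d.q_ne_twoL hxC hxo hwx
  have hfv : f * w * v * (f * w)⁻¹ = v⁻¹ := by
    rw [show f * w * v * (f * w)⁻¹ = f * (w * v * w⁻¹) * f⁻¹ by group, hwv]
    exact commute_iff_conj_eq.1
      (show Commute f v from mem_centralizer_singleton_iff.1 hf.1).inv_right
  have hvN : v ∈ normalizer (zpowers x : Set G) :=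
    mem_normalizer_zpowers_of_commute hxv.symm
  have hvD : v ∈ ⁅normalizer (zpowers x : Set G), normalizer (zpowers x : Set G)⁆ := by
    have h2 : ⁅f * w, v⁆ = (v ^ 2)⁻¹ := by
      rw [commutatorElement_def, hfv, pow_two, mul_inv_rev]
    have h3 := inv_mem (commutator_mem_commutator hn hvN)
    rw [h2, inv_inv] at h3
    obtain ⟨m, hm⟩ := odd_orderOf_of_mem d.oddK hvK
    have h4 : (v ^ 2) ^ (m + 1) = v := by
      rw [← pow_mul, show 2 * (m + 1) = orderOf v + 1 by omega, pow_succ, pow_orderOf_eq_one,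
        one_mul]
    exact h4 ▸ pow_mem h3 (m + 1)
  set H := centralizer ({x} : Set G) with hH
  refine le_centralizer_of_unique (mem_centralizer_singleton_iff.2 hxz.eq) d.zorder
    (d.unique_invol_q hc hxz hxo) fun a ha => ?_
  have hzN : z ∈ normalizer (Oc H : Set G) :=
    mem_normalizer_Oc (le_normalizer (mem_centralizer_singleton_iff.2 hxz.eq))
  obtain ⟨e, he⟩ : ∃ e, e = a * (z * a⁻¹ * z⁻¹) := ⟨_, rfl⟩
  have heO : e ∈ Oc H := he ▸ mul_mem ha (conj_mem_of_mem_normalizer hzN (inv_mem ha))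
  have hez : z * e * z⁻¹ = e⁻¹ := by
    rw [he, d.z_invL, mul_inv_rev, mul_inv_rev, mul_inv_rev, inv_inv, d.z_invL,
      show z * (a * (z * a⁻¹ * z)) * z = z * a * z * a⁻¹ * (z * z) by group, d.z_mul_z]
    group
  have hd := inv_mem (conj_mul_inv_mem_commutator (hc.isZGroup (odd_Oc H))
    (fun n hn => mem_normalizer_Oc (mem_normalizer_centralizer_of_mem hn)) hvD heO)
  have hdv : Commute (e * v * e⁻¹ * v⁻¹) v := by
    have h2 := commute_commutator_of_mem (hc.isZGroup (odd_Oc H))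
      (fun n hn => mem_normalizer_Oc (mem_normalizer_centralizer_of_mem hn)) hvD hd
    rw [show (v * e * v⁻¹ * e⁻¹)⁻¹ = e * v * e⁻¹ * v⁻¹ by group] at h2
    exact h2.symm
  have hdp : (e * v * e⁻¹ * v⁻¹) ^ ℓ = 1 := by
    have h2 := hdv.mul_pow ℓ
    rw [inv_mul_cancel_right, conj_pow, ← hvo, pow_orderOf_eq_one, mul_one, mul_one,
      mul_inv_cancel] at h2
    exact hvo ▸ h2.symm
  have hev : e * v * e⁻¹ ∈ zpowers v := by
    have h2 := mul_mem (hc.mem_zpowers_of_commute hℓ hℓ2 hvo hdp hdv.symm) (mem_zpowers v)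
    rwa [inv_mul_cancel_right] at h2
  obtain ⟨j, hj⟩ := mem_zpowers_iff.1 hev
  have hevz : e⁻¹ * v * e = e * v * e⁻¹ := by
    calc e⁻¹ * v * e = e⁻¹ * v * e⁻¹⁻¹ := by rw [inv_inv]
      _ = (z * e * z⁻¹) * v * (z * e * z⁻¹)⁻¹ := by rw [hez]
      _ = z * (e * (z⁻¹ * v * z) * e⁻¹) * z⁻¹ := by group
      _ = z * (v ^ j) * z⁻¹ := by
        rw [show z⁻¹ * v * z = v by rw [mul_assoc, ← (d.K_le v hvK).eq, inv_mul_cancel_left], hj]
      _ = e * v * e⁻¹ := by rw [commute_iff_conj_eq.1 ((d.K_le v hvK).zpow_right j), hj]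
  have he2 : Commute (e ^ 2) v := by
    rw [commute_iff_conj_eq, pow_two, show e * e * v * (e * e)⁻¹ = e * (e * v * e⁻¹) * e⁻¹ by group,
      ← hevz]
    group
  have heC := d.mem_CL.1 (hCv (mem_centralizer_singleton_iff.2
    (commute_of_sq_commute (odd_orderOf_of_mem (odd_Oc H) heO) he2).eq))
  rw [commute_iff_conj_eq.1 heC] at hez
  have he1 := eq_one_of_sq_eq_one (odd_orderOf_of_mem (odd_Oc H) heO) (eq_inv_iff_mul_eq_one.1 hez)
  rw [he] at he1
  rw [commute_iff_conj_eq]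
  calc z * a * z⁻¹ = (z * a⁻¹ * z⁻¹)⁻¹ := by group
    _ = a := by rw [← eq_inv_of_mul_eq_one_left he1]

end Cent

end Cfsg.Agent.SDCyclic
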