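import Cfsg.Agent.Lib.SDCyclic.LocalBasic
import Cfsg.Agent.Lib.SDCyclic.Counting

/-!
# The index of the involution centralizer and the odd primes of `C`

`R = |G : C|` is odd, prime to `q`, and prime to every odd prime of `|C|`, with the exception
`p = 3` in the configuration `Moved` where a Sylow 3-subgroup permutes the involutions of a four
group centralised by an element of order 3.
-/

set_option autoImplicit false
set_option linter.style.haveILetI false
set_option linter.unusedSectionVars false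

namespace Cfsg.Agent.SDCyclic

open Subgroup
open scoped commutatorElement

universe u

variable {G : Type u} [Group G] [Finite G]

theorem card_centralizer_conj (c a : G) :
    Nat.card (centralizer ({c * a * c⁻¹} : Set G)) = Nat.card (centralizer ({a} : Set G)) := by
  have h : centralizer ({c * a * c⁻¹} : Set G) =
      (centralizer ({a} : Set G)).map (MulAut.conj c).toMonoidHom := by
    rw [map_equiv_eq_comap_symm']
    ext y
    rw [mem_comap, mem_centralizer_singleton_iff, mem_centralizer_singleton_iff]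
    show y * (c * a * c⁻¹) = c * a * c⁻¹ * y ↔ c⁻¹ * y * c * a = a * (c⁻¹ * y * c)
    constructor
    · intro h
      calc c⁻¹ * y * c * a = c⁻¹ * (y * (c * a * c⁻¹)) * c := by group
        _ = _ := by rw [h]; group
    · intro h
      calc y * (c * a * c⁻¹) = c * (c⁻¹ * y * c * a) * c⁻¹ := by group
        _ = _ := by rw [h]; group
  rw [h, card_map_of_injective (MulAut.conj c).injective]

theorem isPGroup_zpowers {p : ℕ} {w : G} {n : ℕ} (h : orderOf w = p ^ n) :
    IsPGroup p (zpowers w) :=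
  IsPGroup.of_card (n := n) (by rw [Nat.card_zpowers, h])

/-- A Sylow 3-subgroup of `C(x)` permuting the involutions of a Sylow 2-subgroup, a four group. -/
structure Moved (z x s : G) (T P : Subgroup G) : Prop where
  x_order : orderOf x = 3
  x_comm : Commute z x
  s_order : orderOf s = 2
  s_comm : Commute z s
  s_ne : s ≠ z
  z_mem : z ∈ T
  s_mem : s ∈ T
  card_T : Nat.card T = 4
  sq_T : ∀ a ∈ T, a * a = 1
  T_le : T ≤ centralizer ({x} : Set G)
  sylow_T : ∀ Q : Subgroup G, IsPGroup 2 Q → Q ≤ centralizer ({x} : Set G) → Nat.card Q ∣ 4 ∧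
    ∀ a ∈ Q, a * a = 1
  card_P : Nat.card P = 3 ^ (Nat.card G).factorization 3
  x_mem : x ∈ P
  P_le : P ≤ centralizer ({x} : Set G)
  P_norm : P ≤ normalizer (T : Set G)
  moved : ∀ a ∈ T, a ≠ 1 → ∃ w ∈ P, ¬ Commute w a

namespace Cent

variable {z : G} {q : ℕ} {η : ℤ} {l g o : ℕ} (d : Cent z q η l g o)
include d

theorem exists_conj_z {i : G} (hi : orderOf i = 2) : ∃ c, c * z * c⁻¹ = i :=
  isConj_iff.1 (d.conjAll i hi)

theorem not_dvd_index {p : ℕ} [Fact p.Prime] {P : Subgroup G}
    (hcard : Nat.card P = p ^ (Nat.card G).factorization p) {i : G} (hi : orderOf i = 2)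
    (hP : P ≤ centralizer ({i} : Set G)) : ¬ p ∣ (centralizer ({z} : Set G)).index := by
  obtain ⟨c, rfl⟩ := d.exists_conj_z hi
  intro h
  have h1 : Nat.card P ∣ Nat.card (centralizer ({z} : Set G)) :=
    card_centralizer_conj c z ▸ card_dvd_of_le hP
  have h2 : p ^ ((Nat.card G).factorization p + 1) ∣ Nat.card G := by
    rw [hcard] at h1
    have h3 := mul_dvd_mul h h1
    rwa [mul_comm (centralizer ({z} : Set G)).index, card_mul_index, ← pow_succ'] at h3
  exact Nat.pow_succ_factorization_not_dvd Nat.card_pos.ne' (Fact.out : p.Prime) h2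

theorem odd_index : Odd (centralizer ({z} : Set G)).index := by
  haveI : Fact (Nat.Prime 2) := ⟨Nat.prime_two⟩
  obtain ⟨S⟩ : Nonempty (Sylow 2 G) := inferInstance
  have h2 : 2 ∣ Nat.card G := d.zorder ▸ orderOf_dvd_natCard z
  have hne : (⊤ : Subgroup (S : Subgroup G)) ≠ ⊥ := fun h => by
    have h1 : Nat.card (⊤ : Subgroup (S : Subgroup G)) = 1 := by rw [h, card_bot]
    rw [card_top, S.card_eq_multiplicity] at h1
    have := Nat.prime_two.factorization_pos_of_dvd Nat.card_pos.ne' h2
    rcases Nat.pow_eq_one.1 h1 with h1 | h1 <;> omega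
  obtain ⟨i, -, hi, hio⟩ := PGroup.exists_orderOf_eq_mem_center S.2 ⊤ hne
  have hle : (S : Subgroup G) ≤ centralizer ({(i : G)} : Set G) := fun a ha =>
    mem_centralizer_singleton_iff.2 (congrArg Subtype.val (mem_center_iff.1 hi ⟨a, ha⟩))
  have h := d.not_dvd_index S.card_eq_multiplicity (by rw [Subgroup.orderOf_coe]; exact hio) hle
  exact Nat.not_even_iff_odd.1 fun he => h he.two_dvd

theorem factorization_two_C :
    (Nat.card (centralizer ({z} : Set G))).factorization 2 = l + 2 := by
  have hodd : Odd (q * o * g * Nat.card d.K) := ((d.odd_q.mul d.ho).mul d.hg).mul d.oddK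
  rw [d.card_C, show 4 * q * (2 ^ l * o) * g * Nat.card d.K =
    2 ^ (l + 2) * (q * o * g * Nat.card d.K) by ring,
    Nat.factorization_mul (pow_ne_zero _ two_ne_zero) hodd.pos.ne', Finsupp.add_apply,
    Nat.Prime.factorization_pow Nat.prime_two, Finsupp.single_eq_same,
    Nat.factorization_eq_zero_of_not_dvd hodd.not_two_dvd_nat, add_zero]

theorem factorization_two_G : (Nat.card G).factorization 2 = l + 2 := by
  rw [← card_mul_index (centralizer ({z} : Set G)),
    Nat.factorization_mul Nat.card_pos.ne' index_ne_zero_of_finite, Finsupp.add_apply,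
    d.factorization_two_C, Nat.factorization_eq_zero_of_not_dvd d.odd_index.not_two_dvd_nat,
    add_zero]

/-! ### Elements of prime order of `C` -/

/-- If `p` divides `|H|`, then `H` meets every class of subgroups of order `p` of `C`. -/
theorem exists_conj_mem (hc : CycSylow G) {H : Subgroup G} (hH : H ≤ centralizer ({z} : Set G))
    {p : ℕ} (hp : p.Prime) (hp2 : p ≠ 2) (hpH : p ∣ Nat.card H) {x : G} (hx : Commute z x)
    (hxo : orderOf x = p) : ∃ c, Commute z c ∧ c * x * c⁻¹ ∈ H := by
  haveI := Fact.mk hp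
  obtain ⟨⟨y, hy⟩, hyo⟩ := exists_prime_orderOf_dvd_card' (G := H) p hpH
  obtain ⟨c, hcC, h⟩ := hc.exists_conj_mem_zpowers (centralizer ({z} : Set G)) hp hp2 (hH hy)
    (d.mem_CL.2 hx) (by rw [← hyo, Subgroup.orderOf_mk]) hxo
  exact ⟨c, d.mem_CL.1 hcC, zpowers_le.2 hy h⟩

/-- If `p` divides `|K|`, the elements of order `p` of `C` lie in `K`. -/
theorem mem_K_of_dvd (hc : CycSylow G) {p : ℕ} (hp : p.Prime) (hpK : p ∣ Nat.card d.K) {x : G}
    (hx : Commute z x) (hxo : orderOf x = p) : x ∈ d.K := by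
  have hp2 : p ≠ 2 := fun h => by
    have h1 := d.oddK.of_dvd_nat hpK
    rw [h] at h1; norm_num at h1
  obtain ⟨c, hcz, h⟩ := d.exists_conj_mem hc d.K_le_CL hp hp2 hpK hx hxo
  have h1 := d.conj_mem_K hcz h
  rwa [show c⁻¹ * (c * x * c⁻¹) * c = x by group] at h1

/-- No noncentral involution of `C` centralises an element of order `q` of `C`. -/
theorem not_commute_q (hc : CycSylow G) {x : G} (hx : Commute z x) (hxo : orderOf x = q) {s : G}
    (hs2 : orderOf s = 2) (hs : Commute z s) (hsz : s ≠ z) : ¬ Commute s x := by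
  intro hsx
  haveI := Fact.mk d.hq
  have h1 := d.orderOf_dvd_of_commute hs2 hs hsz hx hsx
  rw [hxo] at h1
  have hK : q ∣ Nat.card d.K := by
    rcases d.hq.dvd_mul.1 h1 with h | h
    · rcases d.hq.dvd_mul.1 h with h | h
      · exact absurd ((Nat.prime_dvd_prime_iff_eq d.hq Nat.prime_two).1
          (d.hq.dvd_of_dvd_pow (show q ∣ 2 ^ 2 from h))) d.q_ne_twoL
      · exact absurd h d.not_q_dvd_g
    · exact h
  obtain ⟨c, hcz, rfl⟩ := d.conjNC s hs2 hs hsz
  have hx' := d.conj_mem_K hcz (d.mem_K_of_dvd hc d.hq hK hx hxo)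
  have hfix : c⁻¹ * x * c ∈ d.fixK := by
    refine mem_inf.2 ⟨hx', mem_centralizer_singleton_iff.2 ?_⟩
    have h2 := hsx.map (MulAut.conj c⁻¹).toMonoidHom
    simp only [MulEquiv.coe_toMonoidHom, MulAut.conj_apply, inv_inv] at h2
    rw [show c⁻¹ * (c * d.τ * c⁻¹) * c = d.τ by group] at h2
    exact h2.symm.eq
  refine d.not_q_dvd_fixK hc ?_
  have h3 := d.fixK.orderOf_dvd_natCard hfix
  have h4 : orderOf (c⁻¹ * x * c) = q := by
    calc _ = orderOf (c⁻¹ * x * c⁻¹⁻¹) := by rw [inv_inv]
      _ = _ := by rw [orderOf_conj, hxo]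
  rwa [h4] at h3

theorem dvd_four_of_two (hn : ∃ n, g * Nat.card d.K = n) {m : ℕ} (hm : ∃ k, m = 2 ^ k)
    (h : m ∣ 4 * g * Nat.card d.K) : m ∣ 4 := by
  obtain ⟨k, rfl⟩ := hm
  obtain ⟨n, hn⟩ := hn
  rw [mul_assoc, hn] at h
  have hodd : Odd n := hn ▸ d.hg.mul d.oddK
  exact ((Nat.coprime_two_left.2 hodd).pow_left k).dvd_of_dvd_mul_right h

/-- A 2-group centralising two commuting distinct involutions has order dividing 4. -/
theorem card_dvd_four {T : Subgroup G} (hT : IsPGroup 2 T) {i j : G} (hi : orderOf i = 2)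
    (hj : orderOf j = 2) (hij : i ≠ j) (hcij : Commute i j)
    (hTi : T ≤ centralizer ({i} : Set G)) (hTj : T ≤ centralizer ({j} : Set G)) :
    Nat.card T ∣ 4 := by
  haveI : Fact (Nat.Prime 2) := ⟨Nat.prime_two⟩
  obtain ⟨c, rfl⟩ := d.exists_conj_z hi
  have hjc : orderOf (c⁻¹ * j * c) = 2 := by rw [← hj, ← orderOf_conj c⁻¹ j, inv_inv]
  have hjz : Commute z (c⁻¹ * j * c) := by
    have h := hcij.map (MulAut.conj c⁻¹).toMonoidHom
    simp only [MulEquiv.coe_toMonoidHom, MulAut.conj_apply, inv_inv] at h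
    rwa [show c⁻¹ * (c * z * c⁻¹) * c = z by group] at h
  have hjne : c⁻¹ * j * c ≠ z := fun h => hij (by
    rw [← h]; group)
  obtain ⟨e, hez, he⟩ := d.exists_conj_t hjc hjz hjne
  have hle : T.map (MulAut.conj (e * c⁻¹)).toMonoidHom ≤ d.Ag := by
    rintro _ ⟨a, ha, rfl⟩
    simp only [MulEquiv.coe_toMonoidHom, MulAut.conj_apply]
    refine d.mem_Ag_of_commute ?_ ?_
    · have h : Commute (c * z * c⁻¹) a := (mem_centralizer_singleton_iff.1 (hTi ha)).symm
      have h1 := h.map (MulAut.conj (e * c⁻¹)).toMonoidHom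
      simp only [MulEquiv.coe_toMonoidHom, MulAut.conj_apply] at h1
      rwa [show e * c⁻¹ * (c * z * c⁻¹) * (e * c⁻¹)⁻¹ = e * z * e⁻¹ by group,
        commute_iff_conj_eq.1 hez.symm] at h1
    · have h : Commute j a := (mem_centralizer_singleton_iff.1 (hTj ha)).symm
      have h1 := h.map (MulAut.conj (e * c⁻¹)).toMonoidHom
      simp only [MulEquiv.coe_toMonoidHom, MulAut.conj_apply] at h1
      rwa [show e * c⁻¹ * j * (e * c⁻¹)⁻¹ = e * (c⁻¹ * j * c) * e⁻¹ by group, he] at h1
  have h1 := card_dvd_of_le hle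
  rw [card_map_of_injective (MulAut.conj (e * c⁻¹)).injective, d.card_AgL] at h1
  exact d.dvd_four_of_two ⟨_, rfl⟩ (IsPGroup.iff_card.1 hT) h1

/-- Sylow control: an odd prime of `|C|` does not divide the index, up to the exception `Moved`. -/
theorem sylow_control (hc : CycSylow G) {p : ℕ} (hp : p.Prime) (hp2 : p ≠ 2) {x : G}
    (hxz : Commute z x) (hxo : orderOf x = p) :
    ¬ p ∣ (centralizer ({z} : Set G)).index ∨ p = 3 ∧ ∃ s T P, Moved z x s T P := by
  haveI := Fact.mk hp
  haveI : Fact (Nat.Prime 2) := ⟨Nat.prime_two⟩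
  set H := centralizer ({x} : Set G) with hH
  have hzH : z ∈ H := mem_centralizer_singleton_iff.2 hxz.eq
  obtain ⟨W, hWn, hWp, hWi⟩ := exists_pComplement hc hp hp2 hxo
  haveI := hWn
  -- a Sylow 2-subgroup of `H` containing `z`
  have hz2 : IsPGroup 2 (zpowers (⟨z, hzH⟩ : H)) :=
    IsPGroup.of_card (n := 1) (by rw [Nat.card_zpowers, Subgroup.orderOf_mk, d.zorder, pow_one])
  obtain ⟨T, hT⟩ := hz2.exists_le_sylow
  have hTW : (T : Subgroup H) ≤ W := by
    intro a ha
    rw [← QuotientGroup.eq_one_iff, ← orderOf_eq_one_iff]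
    obtain ⟨k, hk⟩ := IsPGroup.iff_orderOf.1 T.2 ⟨a, ha⟩
    rw [Subgroup.orderOf_mk] at hk
    have h1 : orderOf (a : H ⧸ W) ∣ 2 ^ k := hk ▸ orderOf_map_dvd (QuotientGroup.mk' W) a
    have h2 : orderOf (a : H ⧸ W) ∣ p ^ (Nat.card H).factorization p := hWi ▸ orderOf_dvd_natCard _
    exact Nat.eq_one_of_dvd_coprimes
      (((Nat.coprime_primes Nat.prime_two hp).2 (Ne.symm hp2)).pow _ _) h1 h2
  have hsup : normalizer ((T : Subgroup H) : Set H) ⊔ W = ⊤ := T.normalizer_sup_eq_top' hTW
  have hdvd : p ^ (Nat.card H).factorization p ∣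
      Nat.card (normalizer ((T : Subgroup H) : Set H)) := by
    rw [← hWi, ← relIndex_top_right, ← hsup, relIndex_sup_right]
    exact relIndex_dvd_card _ _
  obtain ⟨P₀, hP₀⟩ := Sylow.exists_subgroup_card_pow_prime p hdvd
  set P' := (P₀.map (normalizer ((T : Subgroup H) : Set H)).subtype).map H.subtype with hP'
  have hP'card : Nat.card P' = p ^ (Nat.card G).factorization p := by
    rw [hP', card_map_of_injective H.subtype_injective,
      card_map_of_injective (normalizer ((T : Subgroup H) : Set H)).subtype_injective, hP₀]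
    congr 1
    refine le_antisymm ((Nat.factorization_le_iff_dvd Nat.card_pos.ne' Nat.card_pos.ne').2
      (card_subgroup_dvd_card H) p) ?_
    obtain ⟨Q, hQ⟩ := (isPGroup_zpowers (p := p) (n := 1) (by rw [hxo, pow_one]) :
      IsPGroup p (zpowers x)).exists_le_sylow
    have hQle : (Q : Subgroup G) ≤ H := fun a ha => by
      haveI := hc.isCyclic_of_isPGroup hp hp2 Q.2
      exact mem_centralizer_singleton_iff.2 (commute_of_cyclic ha (hQ (mem_zpowers x))).eq
    have h1 := card_dvd_of_le hQle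
    rw [Q.card_eq_multiplicity] at h1
    exact (hp.pow_dvd_iff_le_factorization Nat.card_pos.ne').1 h1
  have hP'H : P' ≤ H := map_subtype_le _
  set T' := (T : Subgroup H).map H.subtype with hT'
  have hT'H : T' ≤ H := map_subtype_le _
  have hT'2 : IsPGroup 2 T' := T.2.map _
  have hP'N : P' ≤ normalizer (T' : Set G) := by
    rintro _ ⟨⟨a, haH⟩, ha, rfl⟩
    have haN : (⟨a, haH⟩ : H) ∈ normalizer ((T : Subgroup H) : Set H) := map_subtype_le _ ha
    refine mem_normalizer_of_conj_mem ?_
    rintro _ ⟨b, hb, rfl⟩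
    exact ⟨_, conj_mem_of_mem_normalizer haN hb, rfl⟩
  have hzT : z ∈ T' := ⟨_, hT (mem_zpowers _), rfl⟩
  -- the central involutions of `T'`
  by_cases hfix : ∃ i, orderOf i = 2 ∧ P' ≤ centralizer ({i} : Set G)
  · obtain ⟨i, hi, hle⟩ := hfix
    exact Or.inl (d.not_dvd_index hP'card hi hle)
  have hne : (⊤ : Subgroup T') ≠ ⊥ := fun h => by
    have h1 : (⟨z, hzT⟩ : T') ∈ (⊥ : Subgroup T') := h ▸ mem_top _
    have h2 := congrArg Subtype.val (mem_bot.1 h1)
    have h3 := d.zorder
    rw [show z = 1 from h2, orderOf_one] at h3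
    omega
  obtain ⟨i, -, hic, hio⟩ := PGroup.exists_orderOf_eq_mem_center hT'2 ⊤ hne
  rw [← Subgroup.orderOf_coe] at hio
  have hTi : T' ≤ centralizer ({(i : G)} : Set G) := fun a ha =>
    mem_centralizer_singleton_iff.2 (congrArg Subtype.val (mem_center_iff.1 hic ⟨a, ha⟩))
  obtain ⟨w, hw, hwi⟩ : ∃ w ∈ P', w * (i : G) * w⁻¹ ≠ i := by
    by_contra hcon
    push Not at hcon
    exact hfix ⟨i, hio, fun w hw =>
      mem_centralizer_singleton_iff.2 (commute_iff_conj_eq.2 (hcon w hw)).eq⟩
  set j := w * (i : G) * w⁻¹ with hj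
  have hjo : orderOf j = 2 := by rw [hj, orderOf_conj, hio]
  have hjT : j ∈ T' := conj_mem_of_mem_normalizer (hP'N hw) i.2
  have hTj : T' ≤ centralizer ({j} : Set G) := by
    intro a ha
    have h1 := conj_mem_of_mem_normalizer (inv_mem (hP'N hw)) ha
    have h2 : Commute (w⁻¹ * a * w⁻¹⁻¹) (i : G) := mem_centralizer_singleton_iff.1 (hTi h1)
    have h3 := h2.map (MulAut.conj w).toMonoidHom
    simp only [MulEquiv.coe_toMonoidHom, MulAut.conj_apply] at h3
    rw [show w * (w⁻¹ * a * w⁻¹⁻¹) * w⁻¹ = a by group] at h3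
    exact mem_centralizer_singleton_iff.2 h3.eq
  have hcij : Commute (i : G) j := mem_centralizer_singleton_iff.1 (hTj i.2)
  have h4 : Nat.card T' ∣ 4 := d.card_dvd_four hT'2 hio hjo (Ne.symm hwi) hcij hTi hTj
  -- `T'` is the four group `{1, i, j, i j}`
  have hii := Involution.sq_of_orderOf_two hio
  have hjj := Involution.sq_of_orderOf_two hjo
  have hi1 : (i : G) ≠ 1 := fun h => by rw [h, orderOf_one] at hio; omega
  have hj1 : j ≠ 1 := fun h => by rw [h, orderOf_one] at hjo; omega
  have hij1 : (i : G) * j ≠ 1 := fun h => hwi (by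
    calc j = (i : G) * ((i : G) * j) := by rw [← mul_assoc, hii, one_mul]
      _ = i := by rw [h, mul_one])
  have hsub : ({1, (i : G), j, (i : G) * j} : Set G) ⊆ T' := by
    rintro a (rfl | rfl | rfl | rfl)
    exacts [one_mem _, i.2, hjT, mul_mem i.2 hjT]
  have hn4 : ({1, (i : G), j, (i : G) * j} : Set G).ncard = 4 := by
    rw [Set.ncard_insert_of_notMem (by simp [Ne.symm hi1, Ne.symm hj1, Ne.symm hij1]),
      Set.ncard_insert_of_notMem (by simp [Ne.symm hwi, hj1]),
      Set.ncard_pair (fun h => hi1 (by simpa using h))]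
  have hTset : ({1, (i : G), j, (i : G) * j} : Set G) = T' := by
    refine Set.eq_of_subset_of_ncard_le hsub ?_ (Set.toFinite _)
    rw [hn4, ← Nat.card_coe_set_eq, SetLike.coe_sort_coe]
    exact Nat.le_of_dvd (by norm_num) h4
  have hT4 : Nat.card T' = 4 := by
    rw [← SetLike.coe_sort_coe, Nat.card_coe_set_eq, ← hTset, hn4]
  have hsq : ∀ a ∈ T', a * a = 1 := by
    intro a ha
    rw [← SetLike.mem_coe, ← hTset] at ha
    rcases ha with rfl | rfl | rfl | rfl
    · exact one_mul 1
    · exact hii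
    · exact hjj
    · rw [hcij.symm.mul_mul_mul_comm, hii, hjj, one_mul]
  have hord : ∀ a ∈ T', a ≠ 1 → orderOf a = 2 := fun a ha ha1 =>
    orderOf_eq_prime (by rw [pow_two]; exact hsq a ha) ha1
  -- `P'` has an orbit of length 3 on the involutions, so `p = 3`
  have hp3 : p = 3 := by
    classical
    let X := {a : G // a ∈ T' ∧ a ≠ 1}
    letI : MulAction P' X :=
      { smul := fun w a => ⟨(w : G) * a.1 * (w : G)⁻¹,
          conj_mem_of_mem_normalizer (hP'N w.2) a.2.1, fun h => a.2.2 (by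
            simpa [mul_assoc] using congrArg (fun b => (w : G)⁻¹ * b * w) h)⟩
        one_smul := fun a => Subtype.ext
          (show ((1 : P') : G) * a.1 * ((1 : P') : G)⁻¹ = a.1 by simp)
        mul_smul := fun a b c => Subtype.ext (show ((a * b : P') : G) * c.1 * ((a * b : P') : G)⁻¹ =
          (a : G) * ((b : G) * c.1 * (b : G)⁻¹) * (a : G)⁻¹ by rw [coe_mul]; group) }
    have hX : Nat.card X = 3 := by
      have e : Nat.card X = ((T' : Set G) \ {1}).ncard := by
        rw [← Nat.card_coe_set_eq]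
        exact Nat.card_congr (Equiv.subtypeEquivRight fun a => by simp)
      rw [e, Set.ncard_diff_singleton_of_mem (show (1 : G) ∈ (T' : Set G) from one_mem T'),
        ← Nat.card_coe_set_eq, SetLike.coe_sort_coe, hT4]
    have hfixX : Nat.card (MulAction.fixedPoints P' X) = 0 := by
      rw [Nat.card_eq_zero]
      refine Or.inl ⟨fun a => hfix ⟨a.1.1, hord _ a.1.2.1 a.1.2.2, fun w hw => ?_⟩⟩
      exact mem_centralizer_singleton_iff.2
        (commute_iff_conj_eq.2 (congrArg Subtype.val (a.2 ⟨w, hw⟩))).eq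
    have h := (IsPGroup.of_card hP'card).card_modEq_card_fixedPoints X
    rw [hX, hfixX, Nat.modEq_zero_iff_dvd] at h
    exact (Nat.prime_dvd_prime_iff_eq hp Nat.prime_three).1 h
  subst hp3
  obtain ⟨s, hsT, hs1, hsz⟩ : ∃ s ∈ T', s ≠ 1 ∧ s ≠ z := by
    by_cases h : (i : G) = z
    · exact ⟨j, hjT, hj1, fun h' => hwi (by rw [h', h])⟩
    · exact ⟨i, i.2, hi1, h⟩
  refine Or.inr ⟨rfl, s, T', P', ?_⟩
  exact
    { x_order := hxo
      x_comm := hxz
      s_order := hord s hsT hs1
      s_comm := by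
        have e1 : (z * s) * (z * s) = 1 := hsq _ (mul_mem hzT hsT)
        have e2 := hsq s hsT
        show z * s = s * z
        calc z * s = (z * s)⁻¹ := (inv_eq_of_mul_eq_one_right e1).symm
          _ = s * z := by rw [mul_inv_rev, d.z_invL, inv_eq_of_mul_eq_one_right e2]
      s_ne := hsz
      z_mem := hzT
      s_mem := hsT
      card_T := hT4
      sq_T := hsq
      T_le := hT'H
      sylow_T := by
        intro Q hQ hQH
        obtain ⟨S, hS⟩ := (hQ.comap_subtype (K := H)).exists_le_sylow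
        obtain ⟨h, hh⟩ := MulAction.exists_smul_eq H T S
        have hmem : ∀ a ∈ Q, ∃ b ∈ T', a = (h : G) * b * (h : G)⁻¹ := by
          intro a ha
          have h1 : (⟨a, hQH ha⟩ : H) ∈ (S : Subgroup H) := hS ha
          rw [← hh, Sylow.coe_subgroup_smul, mem_smul_pointwise_iff_exists] at h1
          obtain ⟨b, hb, e⟩ := h1
          exact ⟨b, ⟨b, hb, rfl⟩, by simpa using (congrArg Subtype.val e).symm⟩
        refine ⟨?_, fun a ha => ?_⟩
        · have hle : Q ≤ T'.map (MulAut.conj (h : G)).toMonoidHom := fun a ha => by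
            obtain ⟨b, hb, rfl⟩ := hmem a ha
            exact ⟨b, hb, rfl⟩
          have h1 := card_dvd_of_le hle
          rwa [card_map_of_injective (MulAut.conj (h : G)).injective, hT4] at h1
        · obtain ⟨b, hb, rfl⟩ := hmem a ha
          rw [show (h : G) * b * (h : G)⁻¹ * ((h : G) * b * (h : G)⁻¹) =
            (h : G) * (b * b) * (h : G)⁻¹ by group, hsq b hb]
          group
      card_P := hP'card
      x_mem := by
        obtain ⟨Q, hQ⟩ := Sylow.exists_subgroup_card_pow_prime 3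
          (show 3 ^ 1 ∣ Nat.card P' by
            rw [hP'card]
            exact pow_dvd_pow 3 (Nat.prime_three.factorization_pos_of_dvd Nat.card_pos.ne'
              (hxo ▸ orderOf_dvd_natCard x)))
        rw [pow_one] at hQ
        obtain ⟨⟨a, ha⟩, hao⟩ := exists_prime_orderOf_dvd_card' (G := Q) 3 (by rw [hQ])
        rw [Subgroup.orderOf_mk] at hao
        have hxa : x ∈ zpowers (a : G) := hc.mem_zpowers_of_commute Nat.prime_three hp2
          (by rw [Subgroup.orderOf_coe]; exact hao) (hxo ▸ pow_orderOf_eq_one x)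
          (show Commute (a : G) x from mem_centralizer_singleton_iff.1 (hP'H a.2))
        exact zpowers_le.2 a.2 hxa
      P_le := hP'H
      P_norm := hP'N
      moved := by
        intro a ha ha1
        by_contra hcon
        push Not at hcon
        exact hfix ⟨a, hord a ha ha1, fun w hw => mem_centralizer_singleton_iff.2 (hcon w hw).eq⟩ }

/-- `q` does not divide the index. -/
theorem not_q_dvd_index (hc : CycSylow G) : ¬ q ∣ (centralizer ({z} : Set G)).index := by
  haveI := Fact.mk d.hq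
  obtain ⟨⟨x, hx⟩, hxo⟩ := exists_prime_orderOf_dvd_card' (G := centralizer ({z} : Set G)) q
    (by rw [d.card_C]; exact dvd_mul_of_dvd_left (dvd_mul_of_dvd_left
      (dvd_mul_of_dvd_left (dvd_mul_left q 4) _) _) _)
  rw [Subgroup.orderOf_mk] at hxo
  rcases d.sylow_control hc d.hq d.q_ne_twoL (d.mem_CL.1 hx) hxo with h | ⟨-, s, T, P, hM⟩
  · exact h
  · exact absurd (show Commute s x from mem_centralizer_singleton_iff.1 (hM.T_le hM.s_mem))
      (d.not_commute_q hc (d.mem_CL.1 hx) hxo hM.s_order hM.s_comm hM.s_ne)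

end Cent

end Cfsg.Agent.SDCyclic
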