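import Cfsg.Agent.Lib.SDCyclic.LocalPos

/-!
# `η = -1`: the primes of the number of involutions commuting with an element of order `q`

With `η = -1` the torus `aw` normalises `Au`; a lift of it acts on the Sylow `p`-subgroups of
`O(C(x))` inverted by `z` through a faithful image of order `2 W`, so `2 W ∣ p - 1` and `p` is
prime to `|C|`.
-/

set_option autoImplicit false
set_option linter.style.haveILetI false
set_option linter.unusedSectionVars false

namespace Cfsg.Agent.SDCyclic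

open Subgroup

universe u

variable {G : Type u} [Group G] [Finite G]

namespace Cent

variable {z : G} {q : ℕ} {η : ℤ} {l g o : ℕ} (d : Cent z q η l g o)
include d

theorem sq_mem_A0 {w : G} (hw : w ∈ d.Au) : w ^ 2 ∈ d.A0 := by
  obtain ⟨k, hk, i, rfl⟩ := d.cu.mem_cyc_iff.1 hw
  refine d.mem_A0_of_cong (d.cong_pow (d.cong_of_mem_K hk _) (d.comm_u.pow_right i) 2) ?_
  rw [← pow_mul, mul_comm, pow_mul]
  exact pow_mem (self_mem_cyc _ _) i

theorem mem_A0_of_odd {w : G} (hw : w ∈ d.Au) (ho : Odd (orderOf w)) : w ∈ d.A0 := by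
  obtain ⟨m, hm⟩ := ho
  have h1 : (w ^ 2) ^ (m + 1) = w := by
    rw [← pow_mul, show 2 * (m + 1) = orderOf w + 1 by omega, pow_succ, pow_orderOf_eq_one, one_mul]
  exact h1 ▸ pow_mem (d.sq_mem_A0 hw) _

theorem conj_aw_mem_A0 (hη : η = -1) {a : G} (ha : a ∈ d.A0) :
    d.aw * a * d.aw⁻¹ ∈ d.A0 := by
  suffices d.A0 ≤ d.A0.comap (MulAut.conj d.aw).toMonoidHom from this ha
  refine sup_le (fun k hk => left_le_cyc _ _ (d.normK _ d.comm_w k hk)) (zpowers_le.2 ?_)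
  show d.aw * d.au ^ 2 * d.aw⁻¹ ∈ d.A0
  rw [← conj_pow]
  exact d.sq_mem_A0 (d.borel hη)

theorem conj_aw_pow_mem_A0 (hη : η = -1) {a : G} (ha : a ∈ d.A0) (n : ℕ) :
    d.aw ^ n * a * (d.aw ^ n)⁻¹ ∈ d.A0 := by
  induction n with
  | zero => simpa using ha
  | succ n ih =>
    rw [pow_succ', show d.aw * d.aw ^ n * a * (d.aw * d.aw ^ n)⁻¹ =
      d.aw * (d.aw ^ n * a * (d.aw ^ n)⁻¹) * d.aw⁻¹ by group]
    exact d.conj_aw_mem_A0 hη ih

theorem pow_mul_inv_mem_A0 (hη : η = -1) {u : G} (hu : u ∈ d.A0) (n : ℕ) :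
    (u * d.aw) ^ n * (d.aw ^ n)⁻¹ ∈ d.A0 := by
  induction n with
  | zero => simp
  | succ n ih =>
    rw [pow_succ, pow_succ, show (u * d.aw) ^ n * (u * d.aw) * (d.aw ^ n * d.aw)⁻¹ =
      (u * d.aw) ^ n * (d.aw ^ n)⁻¹ * (d.aw ^ n * u * (d.aw ^ n)⁻¹) by group]
    exact mul_mem ih (d.conj_aw_pow_mem_A0 hη hu n)

theorem pow_lift_eq_z (hη : η = -1) {u : G} (hu : u ∈ d.A0) :
    (u * d.aw) ^ (2 ^ l * o * Nat.card d.A0) = z := by
  obtain ⟨w, hw⟩ : ∃ w, w = (u * d.aw) ^ (2 ^ l * o) * z := ⟨_, rfl⟩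
  have hwA : w ∈ d.A0 := by
    have h1 := mul_mem (d.pow_mul_inv_mem_A0 hη hu (2 ^ l * o)) (left_le_cyc d.K (d.au ^ 2) d.zw)
    rwa [mul_assoc, inv_mul_cancel_left, ← hw] at h1
  have hwz : Commute w z := (d.mem_CL.1 (d.A0_le_C hwA)).symm
  obtain ⟨m, hm⟩ := d.odd_A0
  rw [pow_mul, show (u * d.aw) ^ (2 ^ l * o) = w * z by rw [hw, mul_assoc, d.z_mul_z, mul_one],
    hwz.mul_pow, orderOf_dvd_iff_pow_eq_one.1 (d.A0.orderOf_dvd_natCard hwA), hm, pow_succ, pow_mul,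
    pow_two, d.z_mul_z, one_pow, one_mul, one_mul]

theorem W_dvd_of_pow_eq_one (hη : η = -1) {u : G} (hu : u ∈ d.A0) {n : ℕ}
    (h : (u * d.aw) ^ n = 1) : 2 ^ l * o ∣ n := by
  have h1 := d.pow_mul_inv_mem_A0 hη hu n
  rw [h, one_mul, inv_mem_iff] at h1
  have h2 : d.aw ^ n ∈ d.K ⊔ zpowers z := by
    by_contra h3
    exact d.crossWU _ (pow_mem (self_mem_cyc _ _) n) h3 1 (Commute.one_right z)
      (by rw [inv_one, one_mul, mul_one]; exact d.A0_le_Au h1)
  obtain ⟨k, hk, j, hj⟩ := d.czL.mem_cyc_iff.1 (show d.aw ^ n ∈ cyc d.K z from h2)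
  have h4 : d.Cong (d.aw ^ n) (d.aw ^ (2 ^ l * o * j)) := by
    rw [hj, pow_mul]
    exact d.cong_trans (d.cong_of_mem_K hk _)
      (d.cong_symm (d.cong_pow d.aw_W (Commute.refl z) j))
  have h5 := Nat.ModEq.of_dvd (dvd_mul_left (2 ^ l * o) 2) (d.cw.pow_mem_iff_modEq.1 h4)
  exact Nat.modEq_zero_iff_dvd.1 (h5.trans (Nat.modEq_zero_iff_dvd.2 (dvd_mul_right _ _)))

/-- The primes of `invCount x` for `η = -1`. -/
theorem prime_invCount (hc : CycSylow G) (hI : d.invNum = 1) (hη : η = -1)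
    (hqK : ¬ q ∣ Nat.card d.K) {x : G} (hxA : x ∈ d.A0) (hxo : orderOf x = q)
    {p : ℕ} (hp : p.Prime) (hpM : p ∣ d.invCount x) :
    2 * (2 ^ l * o) ∣ p - 1 ∧ ¬ p ∣ Nat.card (centralizer ({z} : Set G)) := by
  haveI := Fact.mk hp
  haveI : Fact (Nat.Prime 2) := ⟨Nat.prime_two⟩
  have hxz : Commute z x := d.mem_CL.1 (d.A0_le_C hxA)
  set H := centralizer ({x} : Set G) with hH
  obtain ⟨hp2, hpq, L, hLp, hLO, hLcard, hinv, ⟨y, hyL, hyo⟩, hlift⟩ :=
    d.exists_inverted_sylow hc hxz hxo hp hpM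
  haveI := hc.isCyclic_of_isPGroup hp hp2 hLp
  -- a lift of `aw` normalising `⟨x⟩` and `L`
  obtain ⟨f, hf, hn⟩ := hc.exists_mul_mem_normalizer d.hq d.q_ne_twoL hxA hxo
    (d.conj_aw_mem_A0 hη hxA)
  have hfwz : Commute z (f * d.aw) := (d.mem_CL.1 (d.A0_le_C hf)).mul_right d.comm_w
  obtain ⟨f₂, hf₂O, hf₂z, hn₂⟩ := hlift _ hfwz hn
  have hf₂A : f₂ ∈ d.A0 := d.mem_A0_of_odd
    (d.mem_Au_of_commute hqK hxA hxo hf₂z
      (show Commute f₂ x from mem_centralizer_singleton_iff.1 (Oc_le H hf₂O)).symm)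
    (odd_orderOf_of_mem (odd_Oc H) hf₂O)
  obtain ⟨u, hu, a, hadef, haL⟩ : ∃ u ∈ d.A0, ∃ a, a = u * d.aw ∧ a ∈ normalizer (L : Set G) :=
    ⟨f₂ * f, mul_mem hf₂A hf, _, rfl, by rwa [mul_assoc]⟩
  have haz : Commute z a := hadef ▸ (d.mem_CL.1 (d.A0_le_C hu)).mul_right d.comm_w
  have hzy : ¬ Commute z y := fun h => by
    have h1 := hinv y hyL
    rw [commute_iff_conj_eq.1 h, eq_inv_iff_mul_eq_one] at h1
    have h2 := eq_one_of_sq_eq_one (hyo ▸ hp.odd_of_ne_two hp2) h1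
    rw [h2, orderOf_one] at hyo
    exact hp.one_lt.ne hyo
  -- `a ^ (p - 1)` centralises `y`
  have hay : a ∈ normalizer (zpowers y : Set G) := mem_normalizer_zpowers_of_conj_mem
    (hc.mem_zpowers_of_orderOf_eq hp hp2 hLp hyL (conj_mem_of_mem_normalizer haL hyL) hyo
      (by rw [conj_pow, ← hyo, pow_orderOf_eq_one, mul_one, mul_inv_cancel]))
  have hap : Commute (a ^ (p - 1)) y := by
    obtain ⟨e, he⟩ := mem_zpowers_iff.1 (conj_mem_of_mem_normalizer hay (mem_zpowers y))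
    have hiter : ∀ n : ℕ, a ^ n * y * (a ^ n)⁻¹ = y ^ (e ^ n) := by
      intro n
      induction n with
      | zero => simp
      | succ n ih =>
        rw [pow_succ', show a * a ^ n * y * (a * a ^ n)⁻¹ = a * (a ^ n * y * (a ^ n)⁻¹) * a⁻¹ by group,
          ih, ← conj_zpow, ← he, ← zpow_mul, pow_succ']
    have hcop : IsCoprime e (p : ℤ) := by
      refine ((Nat.prime_iff_prime_int.1 hp).coprime_iff_not_dvd.2 fun hd => ?_).symm
      obtain ⟨m, hm⟩ := hd
      rw [hm, zpow_mul, zpow_natCast, ← hyo, pow_orderOf_eq_one, one_zpow] at he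
      have h1 : y = 1 := by
        calc y = a⁻¹ * (a * y * a⁻¹) * a := by group
          _ = 1 := by rw [← he]; group
      rw [h1, orderOf_one] at hyo
      exact hp.one_lt.ne hyo
    rw [commute_iff_conj_eq, hiter]
    conv_rhs => rw [← zpow_one y]
    rw [zpow_eq_zpow_iff_modEq, hyo]
    exact Int.ModEq.pow_card_sub_one_eq_one hp hcop
  -- powers of `a` centralising `y`
  have hgcd : ∀ n, Nat.gcd (p - 1) (orderOf a) ∣ n → Commute (a ^ n) y := by
    rintro n ⟨m, rfl⟩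
    rw [pow_mul]
    refine Commute.pow_left ?_ m
    rw [← zpow_natCast, Nat.gcd_eq_gcd_ab, zpow_add, zpow_mul, zpow_mul, zpow_natCast, zpow_natCast,
      pow_orderOf_eq_one, one_zpow, mul_one]
    exact hap.zpow_left _
  have hA0 := d.odd_A0
  have hz2 : a ^ (2 ^ l * o * Nat.card d.A0) = z := hadef ▸ d.pow_lift_eq_z hη hu
  have hord : orderOf a ∣ 2 * (2 ^ l * o * Nat.card d.A0) := by
    refine orderOf_dvd_iff_pow_eq_one.2 ?_
    rw [mul_comm, pow_mul, hz2, pow_two, d.z_mul_z]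
  have hWord : 2 ^ l * o ∣ orderOf a := d.W_dvd_of_pow_eq_one hη hu (hadef ▸ pow_orderOf_eq_one a)
  -- the 2-part
  obtain ⟨b, hb⟩ : ∃ b, b = a ^ (o * Nat.card d.A0) := ⟨_, rfl⟩
  have hbl : b ^ 2 ^ l = z := by
    rw [hb, ← pow_mul, show o * Nat.card d.A0 * 2 ^ l = 2 ^ l * o * Nat.card d.A0 by ring, hz2]
  have hbo : orderOf b = 2 ^ (l + 1) := by
    refine orderOf_eq_prime_pow ?_ ?_
    · rw [hbl]; intro h; exact absurd (h ▸ d.zorder) (by simp)
    · rw [pow_succ, pow_mul, hbl, pow_two, d.z_mul_z]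
  have hbj : ∀ j : ℕ, Commute (b ^ j) y → 2 ^ (l + 1) ∣ j := by
    intro j hj
    by_contra hnd
    obtain ⟨i, hi, hij⟩ := (Nat.dvd_prime_pow Nat.prime_two).1 (Nat.gcd_dvd_right j (2 ^ (l + 1)))
    have hil : i ≤ l := by
      by_contra h
      have : i = l + 1 := by omega
      exact hnd ((this ▸ hij) ▸ Nat.gcd_dvd_left j (2 ^ (l + 1)))
    apply hzy
    have h2 : Commute (b ^ 2 ^ i) y := by
      rw [← hij, ← zpow_natCast, Nat.gcd_eq_gcd_ab, zpow_add, zpow_mul, zpow_mul, zpow_natCast,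
        zpow_natCast, ← hbo, pow_orderOf_eq_one, one_zpow, mul_one]
      exact hj.zpow_left _
    have h3 := h2.pow_left (2 ^ (l - i))
    rwa [← pow_mul, ← pow_add, show i + (l - i) = l by omega, hbl] at h3
  have h2dvd : 2 ^ (l + 1) ∣ p - 1 := hbj (p - 1) (by
    rw [hb, ← pow_mul, mul_comm, pow_mul]; exact hap.pow_left _)
  have hq5 := d.five_le_of_eta_neg hη
  -- `p` is prime to `|C|`
  have hpC : ¬ p ∣ Nat.card (centralizer ({z} : Set G)) := by
    intro hpC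
    obtain ⟨⟨y₁, hy₁⟩, hy₁o⟩ :=
      exists_prime_orderOf_dvd_card' (G := centralizer ({z} : Set G)) p hpC
    rw [Subgroup.orderOf_mk] at hy₁o
    obtain ⟨c, -, hcy⟩ := hc.exists_conj_mem_zpowers ⊤ hp hp2 (mem_top y₁) (mem_top y) hy₁o hyo
    have hcyz : Commute z (c * y * c⁻¹) :=
      d.mem_CL.1 (zpowers_le.2 hy₁ hcy)
    have h4 := d.four_dvd_centralizer hc hI hp hp2 hpq hcyz (by rw [orderOf_conj, hyo])
    rw [card_centralizer_conj c y] at h4
    have hbN : b ∈ normalizer (centralizer ({y} : Set G) : Set G) :=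
      mem_normalizer_centralizer_of_mem (hb ▸ pow_mem hay _)
    have hcyc : CycOver (centralizer ({y} : Set G)) b (2 ^ (l + 1)) :=
      ⟨fun k hk => conj_mem_of_mem_normalizer hbN hk, pow_pos two_pos _, fun j => ⟨fun h =>
        hbj j (mem_centralizer_singleton_iff.1 h), fun h => by
          rw [orderOf_dvd_iff_pow_eq_one.1 (hbo ▸ h)]; exact one_mem _⟩⟩
    have h5 := card_subgroup_dvd_card (cyc (centralizer ({y} : Set G)) b)
    rw [hcyc.card_cyc] at h5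
    have h6 : 2 ^ (l + 3) ∣ Nat.card G :=
      (show (2 : ℕ) ^ (l + 3) = 4 * 2 ^ (l + 1) by ring) ▸ (mul_dvd_mul h4 dvd_rfl).trans h5
    have h7 := (Nat.prime_two.pow_dvd_iff_le_factorization Nat.card_pos.ne').1 h6
    rw [d.factorization_two_G] at h7
    omega
  refine ⟨?_, hpC⟩
  -- the odd part
  have hodvd : o ∣ p - 1 := by
    rw [Nat.dvd_iff_prime_pow_dvd_dvd]
    intro r k hr hrk
    by_contra hnd
    have hk0 : k ≠ 0 := by rintro rfl; exact hnd (by simp)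
    haveI := Fact.mk hr
    have hro : r ∣ o := (dvd_pow_self r hk0).trans hrk
    have hr2 : r ≠ 2 := fun h => Nat.not_even_iff_odd.2 (d.ho.of_dvd_nat hro) (h ▸ even_two)
    have hrord : r ∣ orderOf a := hro.trans ((dvd_mul_left o _).trans hWord)
    have hrA0 : ¬ r ∣ Nat.card d.A0 := by
      rw [d.card_A0]
      intro h
      rcases hr.dvd_mul.1 h with h | h
      · exact d.not_dvd_K hr (Or.inl hro) h
      · exact d.not_q_dvd_W ((Nat.prime_dvd_prime_iff_eq hr d.hq).1 h ▸ hro.mul_left _)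
    obtain ⟨b', hb'⟩ : ∃ b', b' = a ^ (orderOf a / r) := ⟨_, rfl⟩
    have hb'o : orderOf b' = r := hb' ▸ orderOf_pow_orderOf_div (orderOf_pos a).ne' hrord
    have hb'y : Commute b' y := by
      refine hb' ▸ hgcd _ ?_
      obtain ⟨m, hm⟩ := hrord
      rw [hm, Nat.mul_div_cancel_left _ hr.pos]
      have hmr : r ^ k ∣ r * m := hm ▸ hrk.trans ((dvd_mul_left o _).trans hWord)
      obtain ⟨e, he⟩ : Nat.gcd (p - 1) (r * m) ∣ r * m := Nat.gcd_dvd_right _ _
      by_cases hre : r ∣ e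
      · obtain ⟨e', rfl⟩ := hre
        exact ⟨e', Nat.eq_of_mul_eq_mul_left hr.pos (he.trans (by ring))⟩
      · exfalso
        refine hnd ((?_ : r ^ k ∣ Nat.gcd (p - 1) (r * m)).trans (Nat.gcd_dvd_left _ _))
        rw [he] at hmr
        exact ((hr.coprime_iff_not_dvd.2 hre).pow_left k).dvd_of_dvd_mul_right hmr
    have hb'z : Commute z b' := hb' ▸ haz.pow_right _
    have := d.mem_CL.1 (d.centralizer_le_of_dvd_o hc hr hro hb'z hb'o
      (mem_centralizer_singleton_iff.2 hb'y.symm.eq))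
    exact hzy this
  rw [show 2 * (2 ^ l * o) = 2 ^ (l + 1) * o by ring]
  exact ((Nat.coprime_two_left.2 d.ho).pow_left _).mul_dvd_of_dvd_of_dvd h2dvd hodvd

theorem invCount_dvd_index (hc : CycSylow G) (hI : d.invNum = 1) (hη : η = -1)
    (hqK : ¬ q ∣ Nat.card d.K) {x : G} (hxA : x ∈ d.A0) (hxo : orderOf x = q) :
    d.invCount x ∣ (centralizer ({z} : Set G)).index := by
  have hxz : Commute z x := d.mem_CL.1 (d.A0_le_C hxA)
  have h1 : d.invCount x ∣ Nat.card G :=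
    (Dvd.intro _ (d.invCount_mul hc hxz hxo)).trans (card_subgroup_dvd_card _)
  rw [← card_mul_index (centralizer ({z} : Set G))] at h1
  refine Nat.Coprime.dvd_of_dvd_mul_left ?_ h1
  exact Nat.coprime_of_dvd fun p hp hd => (d.prime_invCount hc hI hη hqK hxA hxo hp hd).2

end Cent

end Cfsg.Agent.SDCyclic
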