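import Cfsg.Agent.Lib.SDCyclic.LocalPrimes

/-!
# `η = 1`: the number of involutions commuting with an element of order `q` divides `g`
-/

set_option autoImplicit false
set_option linter.style.haveILetI false
set_option linter.unusedSectionVars false

namespace Cfsg.Agent.SDCyclic

open Subgroup

universe u

variable {G : Type u} [Group G] [Finite G]

namespace Cent

variable {z : G} {q : ℕ} {η : ℤ} {l g o : ℕ} (d : Cent z q η l g o)
include d

/-- Elements congruent to an element of `A0` lie in it. -/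
theorem mem_A0_of_cong {a b : G} (h : d.Cong a b) (hb : b ∈ d.A0) : a ∈ d.A0 := by
  have h1 := mul_mem (left_le_cyc d.K (d.au ^ 2) (show a * b⁻¹ ∈ d.K from h)) hb
  rwa [inv_mul_cancel_right] at h1

/-- In `η = 1` some involution of `C` inverts a given element of order `q` of `A0`. -/
theorem exists_inverter (hc : CycSylow G) (hη : η = 1) (hqK : ¬ q ∣ Nat.card d.K) {x : G}
    (hxA : x ∈ d.A0) (hxo : orderOf x = q) :
    ∃ s, orderOf s = 2 ∧ Commute z s ∧ s * x * s⁻¹ = x⁻¹ := by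
  obtain ⟨s, hs2, hsz, hs⟩ := d.invU hη
  have hss := Involution.sq_of_orderOf_two hs2
  have hsi := Involution.inv_of_orderOf_two hs2
  have hq0 := d.hq.pos
  have hu : d.Cong (s * d.au * s⁻¹) (d.au ^ (2 * q - 1)) := by
    show s * d.au * s⁻¹ * _ ∈ d.K
    nth_rw 1 [← hsi]
    nth_rw 2 [hsi]
    exact hs
  have hconj : ∀ i : ℕ, d.Cong (s * (d.au ^ 2) ^ i * s⁻¹) ((d.au ^ 2) ^ ((2 * q - 1) * i)) := by
    intro i
    rw [← pow_mul, ← pow_mul, ← conj_pow, show 2 * ((2 * q - 1) * i) = (2 * q - 1) * (2 * i) by ring,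
      pow_mul d.au (2 * q - 1)]
    exact d.cong_pow hu (d.comm_u.pow_right _) _
  obtain ⟨k, hk, i, hi⟩ := d.cu2.mem_cyc_iff.1 hxA
  have hzu : Commute z (d.au ^ 2) := d.comm_u.pow_right 2
  have hxc : d.Cong x ((d.au ^ 2) ^ i) := hi ▸ d.cong_of_mem_K hk _
  have hsx : d.Cong (s * x * s⁻¹) ((d.au ^ 2) ^ ((2 * q - 1) * i)) :=
    d.cong_trans (d.cong_mul (d.cong_mul (d.cong_refl s) hxc hsz) (d.cong_refl _)
      (hsz.mul_right (hzu.pow_right i))) (hconj i)
  obtain ⟨f, hf, hn⟩ := hc.exists_mul_mem_normalizer d.hq d.q_ne_twoL hxA hxo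
    (d.mem_A0_of_cong hsx (pow_mem (self_mem_cyc _ _) _))
  have hxz : Commute z x := d.mem_CL.1 (d.A0_le_C hxA)
  have hfz : Commute z f := d.mem_CL.1 (d.A0_le_C hf)
  obtain ⟨n, hndef⟩ : ∃ n, n = f * s := ⟨_, rfl⟩
  rw [← hndef] at hn
  obtain ⟨k', hk', j, hj⟩ := d.cu2.mem_cyc_iff.1 hf
  have hfc : d.Cong f ((d.au ^ 2) ^ j) := hj ▸ d.cong_of_mem_K hk' _
  have hinv : ∀ m : ℕ, d.Cong ((d.au ^ 2) ^ ((2 * q - 1) * m)) (((d.au ^ 2) ^ m)⁻¹) := by
    intro m
    show _ * (((d.au ^ 2) ^ m)⁻¹)⁻¹ ∈ d.K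
    rw [inv_inv, ← pow_add, d.cu2.mem_iff, ← Nat.succ_mul]
    exact dvd_mul_of_dvd_left ⟨2, by omega⟩ m
  -- the action of `n` on `x`
  obtain ⟨r, hr⟩ := mem_zpowers_iff.1 (conj_mem_of_mem_normalizer hn (mem_zpowers x))
  have hnx : d.Cong (n * x * n⁻¹) x⁻¹ := by
    rw [hndef, show f * s * x * (f * s)⁻¹ = f * (s * x * s⁻¹) * f⁻¹ by group]
    refine d.cong_trans (d.cong_mul (d.cong_mul hfc (d.cong_trans hsx (hinv i)) (hzu.pow_right j))
      (d.cong_inv hfc (hzu.pow_right j)) ((hzu.pow_right j).mul_right (hzu.pow_right i).inv_right)) ?_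
    rw [show (d.au ^ 2) ^ j * ((d.au ^ 2) ^ i)⁻¹ * ((d.au ^ 2) ^ j)⁻¹ = ((d.au ^ 2) ^ i)⁻¹ by
      rw [((Commute.refl (d.au ^ 2)).pow_pow j i).inv_right.eq, mul_inv_cancel_right]]
    exact d.cong_symm (d.cong_inv hxc (hzu.pow_right i))
  have hxr : n * x * n⁻¹ = x⁻¹ := by
    have h1 : x ^ (r + 1) ∈ d.K := by
      rw [zpow_add_one, hr]
      have h2 : n * x * n⁻¹ * x⁻¹⁻¹ ∈ d.K := hnx
      rwa [inv_inv] at h2
    have h2 : (q : ℤ) ∣ r + 1 := by
      by_contra hnd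
      obtain ⟨a, b, hab⟩ := (Nat.prime_iff_prime_int.1 d.hq).coprime_iff_not_dvd.2 hnd
      refine d.notMem_K hqK hxo ?_
      have h3 : x = (x ^ (q : ℤ)) ^ a * (x ^ (r + 1)) ^ b := by
        rw [← zpow_mul, ← zpow_mul, ← zpow_add, show (q : ℤ) * a + (r + 1) * b = 1 by
          linear_combination hab, zpow_one]
      rw [h3, show x ^ (q : ℤ) = 1 by
        have h4 := pow_orderOf_eq_one x
        rw [hxo] at h4
        rw [zpow_natCast]; exact h4, one_zpow, one_mul]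
      exact zpow_mem h1 b
    obtain ⟨m, hm⟩ := h2
    rw [← hr, show r = (q : ℤ) * m + -1 by omega, zpow_add, zpow_mul, show x ^ (q : ℤ) = 1 by
      have h4 := pow_orderOf_eq_one x
      rw [hxo] at h4
      rw [zpow_natCast]; exact h4, one_zpow, one_mul, zpow_neg_one]
  have hnn : n * n ∈ d.K := by
    refine d.mem_K_of_cong_one ?_
    have e : n * n = f * (s * f * s⁻¹) := by
      rw [hndef, hsi]; group
    rw [e]
    refine d.cong_trans (d.cong_mul hfc (d.cong_trans (d.cong_mul (d.cong_mul (d.cong_refl s) hfc hsz)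
      (d.cong_refl _) (hsz.mul_right (hzu.pow_right j))) (d.cong_trans (hconj j) (hinv j)))
      (hzu.pow_right j)) ?_
    rw [mul_inv_cancel]
    exact d.cong_refl 1
  obtain ⟨h2, h3⟩ := exists_invol_inverting d.oddK (hxo ▸ d.odd_q)
    (fun h => by rw [h, orderOf_one] at hxo; exact d.hq.one_lt.ne hxo) hxr hnn
  exact ⟨_, h2, (hndef ▸ hfz.mul_right hsz : Commute z n).pow_right _, h3⟩

theorem invCount_dvd_g (hc : CycSylow G) (hI : d.invNum = 1) (hη : η = 1)
    (hqK : ¬ q ∣ Nat.card d.K) {x : G} (hxA : x ∈ d.A0) (hxo : orderOf x = q) :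
    d.invCount x ∣ g := by
  have hxz : Commute z x := d.mem_CL.1 (d.A0_le_C hxA)
  set H := centralizer ({x} : Set G) with hH
  have hMO : d.invCount x ∣ Nat.card (Oc H) := Dvd.intro _ (d.invCount_mul hc hxz hxo)
  rw [Nat.dvd_iff_prime_pow_dvd_dvd]
  intro p k hp hpk
  rcases k with - | k
  · simp
  haveI := Fact.mk hp
  obtain ⟨hp2, hpq, L, hLp, hLO, hLcard, hinv, ⟨y, hyL, hyo⟩, hlift⟩ :=
    d.exists_inverted_sylow hc hxz hxo hp ((dvd_pow_self p k.succ_ne_zero).trans hpk)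
  haveI := hc.isCyclic_of_isPGroup hp hp2 hLp
  have hpL : p ^ (k + 1) ∣ Nat.card L := by
    rw [hLcard]
    exact pow_dvd_pow p ((hp.pow_dvd_iff_le_factorization Nat.card_pos.ne').1 (hpk.trans hMO))
  refine hpL.trans ?_
  obtain ⟨s, hs2, hsz, hsx⟩ := d.exists_inverter hc hη hqK hxA hxo
  obtain ⟨f, hfO, hfz, hn⟩ := hlift s hsz
    (mem_normalizer_zpowers_of_conj_mem (hsx ▸ inv_mem (mem_zpowers x)))
  have hfx : Commute f x := mem_centralizer_singleton_iff.1 (Oc_le H hfO)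
  have hsH : s ∈ normalizer (Oc H : Set G) := mem_normalizer_Oc
    (mem_normalizer_centralizer_of_mem
      (mem_normalizer_zpowers_of_conj_mem (hsx ▸ inv_mem (mem_zpowers x))))
  have hnx : f * s * x * (f * s)⁻¹ = x⁻¹ := by
    rw [show f * s * x * (f * s)⁻¹ = f * (s * x * s⁻¹) * f⁻¹ by group, hsx]
    exact commute_iff_conj_eq.1 hfx.inv_right
  have hnn : f * s * (f * s) ∈ Oc H := by
    rw [show f * s * (f * s) = f * (s * f * s⁻¹) * (s * s) by group,
      Involution.sq_of_orderOf_two hs2, mul_one]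
    exact mul_mem hfO (conj_mem_of_mem_normalizer hsH hfO)
  have hxodd : Odd (orderOf x) := hxo ▸ d.odd_q
  have hx1 : x ≠ 1 := fun h => by rw [h, orderOf_one] at hxo; exact d.hq.one_lt.ne hxo
  obtain ⟨hw2, hwx⟩ := exists_invol_inverting (odd_Oc H) hxodd hx1 hnx hnn
  have hwN : (f * s) ^ Nat.card (Oc H) ∈ normalizer (L : Set G) := pow_mem hn _
  have hwz : Commute z ((f * s) ^ Nat.card (Oc H)) := (hfz.mul_right hsz).pow_right _
  generalize (f * s) ^ Nat.card (Oc H) = w at hw2 hwx hwN hwz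
  -- a noncentral involution centralising `L` and inverting `x`
  obtain ⟨s₁, hs₁, hs₁z, hs₁x, hs₁L⟩ :
      ∃ s₁, orderOf s₁ = 2 ∧ Commute z s₁ ∧ s₁ * x * s₁⁻¹ = x⁻¹ ∧ ∀ a ∈ L, Commute s₁ a := by
    rcases inv_or_centralize hp hp2 hLp (Involution.sq_of_orderOf_two hw2) hwN with h | h
    · have hzwz : Commute z (z * w) := (Commute.refl z).mul_right hwz
      have hx' : z * w * x * (z * w)⁻¹ = x⁻¹ := by
        rw [show z * w * x * (z * w)⁻¹ = z * (w * x * w⁻¹) * z⁻¹ by group, hwx]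
        exact commute_iff_conj_eq.1 hxz.inv_right
      refine ⟨z * w, orderOf_eq_prime ?_ fun h1 => hx1 ?_, hzwz, hx', fun a ha => ?_⟩
      · rw [pow_two, hwz.symm.mul_mul_mul_comm, d.z_mul_z, Involution.sq_of_orderOf_two hw2,
          one_mul]
      · rw [h1, one_mul, inv_one, mul_one, eq_inv_iff_mul_eq_one] at hx'
        exact eq_one_of_sq_eq_one hxodd hx'
      · rw [commute_iff_conj_eq, show z * w * a * (z * w)⁻¹ = z * (w * a * w⁻¹) * z⁻¹ by group,
          h a ha, hinv a⁻¹ (inv_mem ha), inv_inv]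
    · exact ⟨w, hw2, hwz, hwx, h⟩
  obtain ⟨c, hc'⟩ := d.exists_conj_z hs₁
  -- transport `s₁` to `z`
  obtain ⟨φ, hφ⟩ : ∃ φ : G ≃* G, φ = MulAut.conj c⁻¹ := ⟨_, rfl⟩
  have hφs : φ s₁ = z := by rw [hφ, MulAut.conj_apply, inv_inv, ← hc']; group
  have hLC : L.map φ.toMonoidHom ≤ centralizer ({z} : Set G) := by
    rintro _ ⟨a, ha, rfl⟩
    have h1 := (hs₁L a ha).map φ.toMonoidHom
    exact d.mem_CL.2 (hφs ▸ h1)
  have hx0 : z * φ x * z⁻¹ = (φ x)⁻¹ := by
    rw [← hφs, ← map_inv, ← map_mul, ← map_mul, hs₁x, map_inv]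
  have hy0z : Commute z (φ y) := d.mem_CL.1 (hLC ⟨y, hyL, rfl⟩)
  have hy0o : orderOf (φ y) = p := by rw [MulEquiv.orderOf_eq, hyo]
  have hw0 : φ z * φ y * (φ z)⁻¹ = (φ y)⁻¹ := by
    rw [← map_inv, ← map_mul, ← map_mul, hinv y hyL, map_inv]
  have hy0odd : Odd (orderOf (φ y)) := hy0o ▸ hp.odd_of_ne_two hp2
  have hne : ∀ hh : φ z * φ y * (φ z)⁻¹ = φ y, False := fun hh => by
    rw [hh, eq_inv_iff_mul_eq_one] at hw0
    have h1 := eq_one_of_sq_eq_one hy0odd hw0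
    rw [h1, orderOf_one] at hy0o
    exact hp.one_lt.ne hy0o
  have hLdvd : Nat.card L ∣ Nat.card (centralizer ({z} : Set G)) :=
    card_map_of_injective (f := φ.toMonoidHom) φ.injective ▸ card_dvd_of_le hLC
  have hzC : Commute z (φ z) := by
    have h1 := hs₁z.symm.map φ.toMonoidHom
    exact hφs ▸ h1
  have hK : ¬ p ∣ Nat.card d.K := fun hK => by
    refine hne (commute_iff_conj_eq.1 (d.commute_invol_of_invNum hI
      (d.mem_K_of_dvd hc hp hK hy0z hy0o) ?_ hzC ?_))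
    · rw [MulEquiv.orderOf_eq, d.zorder]
    · intro he
      exact hne (by rw [he]; exact commute_iff_conj_eq.1 hy0z)
  have ho : ¬ p ∣ o := fun ho => by
    have h1 : φ x ∈ centralizer ({φ y} : Set G) := mem_centralizer_singleton_iff.2
      ((show Commute y x from mem_centralizer_singleton_iff.1
        (Oc_le H (hLO hyL))).symm.map φ.toMonoidHom).eq
    have h2 := d.mem_CL.1 (d.centralizer_le_of_dvd_o hc hp ho hy0z hy0o h1)
    rw [commute_iff_conj_eq.1 h2, eq_inv_iff_mul_eq_one] at hx0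
    have h3 := eq_one_of_sq_eq_one (by rwa [MulEquiv.orderOf_eq]) hx0
    exact hx1 ((map_eq_one_iff φ φ.injective).1 h3)
  rw [d.card_C, show 4 * q * (2 ^ l * o) * g * Nat.card d.K =
    g * (2 ^ (l + 2) * q * (o * Nat.card d.K)) by ring, hLcard] at hLdvd
  rw [hLcard]
  refine Nat.Coprime.dvd_of_dvd_mul_right (Nat.Coprime.pow_left _ ?_) hLdvd
  refine (Nat.Coprime.mul_right ((Nat.Coprime.pow_right _ ?_).mul_right ?_)
    (Nat.Coprime.mul_right ?_ ?_))
  · exact (Nat.coprime_primes hp Nat.prime_two).2 hp2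
  · exact (Nat.coprime_primes hp d.hq).2 hpq
  · exact hp.coprime_iff_not_dvd.2 ho
  · exact hp.coprime_iff_not_dvd.2 hK

end Cent

end Cfsg.Agent.SDCyclic
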