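import Cfsg.Agent.Lib.SDCyclic.LocalCount

/-!
# Centralizers of elements of odd prime order of `C`

An element of order `p ∣ o` of `C` has its centralizer in `C`; if `τ` centralises `K`, the
centralizer of an element of odd prime order `p ≠ q` of `C` has order divisible by `4`.
-/

set_option autoImplicit false
set_option linter.style.haveILetI false
set_option linter.unusedSectionVars false

namespace Cfsg.Agent.SDCyclic

open Subgroup

universe u

variable {G : Type u} [Group G] [Finite G]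

theorem four_dvd_card_of_invols {H : Subgroup G} {a b : G} (ha : orderOf a = 2) (hb : orderOf b = 2)
    (hne : a ≠ b) (hab : Commute a b) (haH : a ∈ H) (hbH : b ∈ H) : 4 ∣ Nat.card H := by
  have hcyc : CycOver (zpowers b) a 2 :=
    ⟨fun k hk => by
      obtain ⟨n, rfl⟩ := mem_zpowers_iff.1 hk
      rw [commute_iff_conj_eq.1 (hab.zpow_right n)]
      exact hk, two_pos, fun j => by
      have ha2 := Involution.sq_of_orderOf_two ha
      rcases Nat.even_or_odd j with ⟨m, rfl⟩ | ⟨m, rfl⟩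
      · simp [← two_mul, pow_mul, pow_two, ha2]
      · have e : a ^ (2 * m + 1) = a := by
          rw [pow_succ, pow_mul, pow_two, ha2, one_pow, one_mul]
        rw [e, iff_false_right (by omega)]
        intro h
        obtain ⟨n, hn⟩ := mem_zpowers_iff.1 h
        obtain ⟨i, rfl | rfl⟩ := Int.even_or_odd' n
        · rw [zpow_mul, zpow_two, Involution.sq_of_orderOf_two hb, one_zpow] at hn
          rw [← hn, orderOf_one] at ha
          omega
        · rw [zpow_add, zpow_mul, zpow_two, Involution.sq_of_orderOf_two hb, one_zpow, one_mul,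
            zpow_one] at hn
          exact hne hn.symm⟩
  have h : Nat.card (cyc (zpowers b) a) ∣ Nat.card H :=
    card_dvd_of_le (sup_le (zpowers_le.2 hbH) (zpowers_le.2 haH))
  rwa [hcyc.card_cyc, Nat.card_zpowers, hb] at h

namespace Cent

variable {z : G} {q : ℕ} {η : ℤ} {l g o : ℕ} (d : Cent z q η l g o)
include d

theorem eq_one_of_q_eq_three (h : q = 3) : g = 1 ∧ o = 1 := by
  have h1 := d.hqm
  have h2 := d.hqp
  rw [h, d.eq_one_of_q_three h] at h1 h2
  refine ⟨by omega, ?_⟩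
  have h3 : 2 ^ l * o = 4 := by
    norm_num at h2
    exact_mod_cast h2.symm
  have h4 : 4 * o ≤ 2 ^ l * o :=
    Nat.mul_le_mul_right o (by
      calc 4 = 2 ^ 2 := rfl
        _ ≤ 2 ^ l := Nat.pow_le_pow_right two_pos d.hl)
  have := d.ho.pos
  omega

/-- Odd primes of `W` or `g` do not divide `|K|`. -/
theorem not_dvd_K {p : ℕ} (hp : p.Prime) (h : p ∣ o ∨ p ∣ g) : ¬ p ∣ Nat.card d.K := by
  intro hK
  by_cases hq3 : q = 3
  · obtain ⟨hg1, ho1⟩ := d.eq_one_of_q_eq_three hq3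
    rcases h with h | h
    · exact hp.one_lt.ne' (Nat.dvd_one.1 (ho1 ▸ h))
    · exact hp.one_lt.ne' (Nat.dvd_one.1 (hg1 ▸ h))
  have h1 : p ∣ q * (2 ^ l * o) * g := by
    rcases h with h | h
    · exact (h.mul_left _).mul_left q |>.mul_right g
    · exact h.mul_left _
  exact hp.not_dvd_one ((d.coprimeK (d.five_le_q_of_ne_three hq3)) ▸ Nat.dvd_gcd hK h1)

/-- Frattini plus cyclicity: some element of `Kc` commutes with `y`. -/
theorem exists_K_mul_commute (hc : CycSylow G) {p : ℕ} (hp : p.Prime) (hp2 : p ≠ 2) {y : G}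
    (hyz : Commute z y) (hyo : orderOf y = p) (hyK : y ∉ d.K) {c : G} (hcz : Commute z c)
    (h : c * y * c⁻¹ * y⁻¹ ∈ d.K) : ∃ k ∈ d.K, Commute (k * c) y := by
  have hmem : c * y * c⁻¹ ∈ d.K ⊔ zpowers y := by
    have h1 := mul_mem (mem_sup_left (T := zpowers y) h) (mem_sup_right (mem_zpowers y))
    rwa [inv_mul_cancel_right] at h1
  obtain ⟨k, hk, hn⟩ := d.exists_K_mul_mem_normalizer hc hp hp2 hyz hyo hmem
  refine ⟨k, hk, ?_⟩
  obtain ⟨i, hi⟩ := mem_zpowers_iff.1 (conj_mem_of_mem_normalizer hn (mem_zpowers y))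
  have hcong : d.Cong (k * c * y * (k * c)⁻¹) y := by
    refine d.cong_trans ?_ h
    refine d.cong_mul (d.cong_mul (d.cong_of_mem_K hk c) (d.cong_refl y) hcz)
      (d.cong_inv (d.cong_of_mem_K hk c) hcz) (hcz.mul_right hyz)
  have h2 : y ^ (i - 1) ∈ d.K := by
    rw [zpow_sub_one, hi]
    exact hcong
  have hdvd : (p : ℤ) ∣ i - 1 := by
    by_contra hnd
    obtain ⟨a, b, hab⟩ := ((Nat.prime_iff_prime_int.1 hp).coprime_iff_not_dvd.2 hnd)
    apply hyK
    have h3 : y = (y ^ (p : ℤ)) ^ a * (y ^ (i - 1)) ^ b := by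
      rw [← zpow_mul, ← zpow_mul, ← zpow_add, show (p : ℤ) * a + (i - 1) * b = 1 by
        linear_combination hab, zpow_one]
    rw [h3, zpow_natCast, ← hyo, pow_orderOf_eq_one, one_zpow, one_mul]
    exact zpow_mem h2 b
  obtain ⟨m, hm⟩ := hdvd
  rw [commute_iff_conj_eq, ← hi, show i = (p : ℤ) * m + 1 by omega, zpow_add, zpow_mul, zpow_natCast,
    ← hyo, pow_orderOf_eq_one, one_zpow, one_mul, zpow_one]

/-- An element of order `p ∣ o` of `C` has its centralizer in `C`. -/
theorem centralizer_le_of_dvd_o (hc : CycSylow G) {p : ℕ} (hp : p.Prime) (hpo : p ∣ o) {y : G}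
    (hyz : Commute z y) (hyo : orderOf y = p) :
    centralizer ({y} : Set G) ≤ centralizer ({z} : Set G) := by
  have hp2 : p ≠ 2 := fun h => Nat.not_even_iff_odd.2 (d.ho.of_dvd_nat hpo) (h ▸ even_two)
  have hA : p ∣ Nat.card d.Aw := by
    rw [d.cw.card_cyc]; exact ((hpo.mul_left _).mul_left 2).mul_left _
  obtain ⟨c, hcz, h⟩ := d.exists_conj_mem hc d.Aw_le_C hp hp2 hA hyz hyo
  have hle := d.centralizer_le_C hc hp hp2 h (by rw [orderOf_conj, hyo]) fun s hs2 hs hsz hsy => by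
    have h1 := d.orderOf_dvd_of_commute hs2 hs hsz (d.mem_CL.1 (d.Aw_le_C h)) hsy
    rw [orderOf_conj, hyo] at h1
    rcases hp.dvd_mul.1 h1 with h2 | h2
    · rcases hp.dvd_mul.1 h2 with h3 | h3
      · exact hp2 ((Nat.prime_dvd_prime_iff_eq hp Nat.prime_two).1
          (hp.dvd_of_dvd_pow (show p ∣ 2 ^ 2 from h3)))
      · exact hp.not_dvd_one (d.coprime_o_g ▸ Nat.dvd_gcd hpo h3)
    · exact d.not_dvd_K hp (Or.inl hpo) h2
  intro a ha
  have h2 : Commute a y := mem_centralizer_singleton_iff.1 ha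
  have h3 := d.mem_CL.1 (hle (mem_centralizer_singleton_iff.2
    (h2.map (MulAut.conj c).toMonoidHom).eq))
  simp only [MulEquiv.coe_toMonoidHom, MulAut.conj_apply] at h3
  refine d.mem_CL.2 ?_
  have h4 := (hcz.inv_right.mul_right h3).mul_right hcz
  rwa [show c⁻¹ * (c * a * c⁻¹) * c = a by group] at h4

/-- Where the odd primes `p ≠ q` of `C` live. -/
theorem dvd_cases {p : ℕ} (hp : p.Prime) (hp2 : p ≠ 2) (hpq : p ≠ q)
    (h : p ∣ Nat.card (centralizer ({z} : Set G))) :
    p ∣ Nat.card d.K ∨ p ∣ o ∨ p ∣ g := by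
  have h2 : ∀ n, ¬ p ∣ 2 ^ n := fun n hn =>
    hp2 ((Nat.prime_dvd_prime_iff_eq hp Nat.prime_two).1 (hp.dvd_of_dvd_pow hn))
  rw [d.card_C, show 4 * q * (2 ^ l * o) * g * Nat.card d.K =
    2 ^ (l + 2) * q * (o * (g * Nat.card d.K)) by ring] at h
  rcases hp.dvd_mul.1 h with h | h
  · rcases hp.dvd_mul.1 h with h | h
    · exact absurd h (h2 _)
    · exact absurd ((Nat.prime_dvd_prime_iff_eq hp d.hq).1 h) hpq
  · rcases hp.dvd_mul.1 h with h | h
    · exact Or.inr (Or.inl h)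
    · rcases hp.dvd_mul.1 h with h | h
      · exact Or.inr (Or.inr h)
      · exact Or.inl h

/-- If `τ` centralises `K`, an element of odd prime order `p ≠ q` of `C` has centralizer of order
divisible by four. -/
theorem four_dvd_centralizer (hc : CycSylow G) (hI : d.invNum = 1) {p : ℕ} (hp : p.Prime)
    (hp2 : p ≠ 2) (hpq : p ≠ q) {y : G} (hyz : Commute z y) (hyo : orderOf y = p) :
    4 ∣ Nat.card (centralizer ({y} : Set G)) := by
  have hC : p ∣ Nat.card (centralizer ({z} : Set G)) :=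
    hyo ▸ Subgroup.orderOf_dvd_natCard _ (d.mem_CL.2 hyz)
  have hzy : z ∈ centralizer ({y} : Set G) := mem_centralizer_singleton_iff.2 hyz.eq
  rcases d.dvd_cases hp hp2 hpq hC with h | h | h
  · have hyK := d.mem_K_of_dvd hc hp h hyz hyo
    exact four_dvd_card_of_invols d.zorder d.τ_order (Ne.symm d.τ_ne_z) d.comm_τ hzy
      (mem_centralizer_singleton_iff.2 (d.commute_τ_of_invNum hI hyK).symm.eq)
  · obtain ⟨c, hcz, hA⟩ := d.exists_conj_mem hc d.Aw_le_C hp hp2
      (by rw [d.cw.card_cyc]; exact ((h.mul_left _).mul_left 2).mul_left _) hyz hyo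
    rw [← card_centralizer_conj c y]
    have hcyo : orderOf (c * y * c⁻¹) = p := by rw [orderOf_conj, hyo]
    generalize c * y * c⁻¹ = w at hA hcyo
    have hwz := d.mem_CL.1 (d.Aw_le_C hA)
    have hwK : w ∉ d.K := fun hm =>
      d.not_dvd_K hp (Or.inl h) (hcyo ▸ d.K.orderOf_dvd_natCard hm)
    obtain ⟨k', hk', i, hi⟩ := d.cw.mem_cyc_iff.1 hA
    obtain ⟨k, hk, hcomm⟩ := d.exists_K_mul_commute hc hp hp2 hwz hcyo hwK d.comm_w (by
      rw [hi, show d.aw * (k' * d.aw ^ i) * d.aw⁻¹ * (k' * d.aw ^ i)⁻¹ =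
        d.aw * k' * d.aw⁻¹ * k'⁻¹ by group]
      exact mul_mem (d.normK _ d.comm_w _ hk') (inv_mem hk'))
    have hord : 4 ∣ orderOf (k * d.aw) := by
      have h1 := d.cong_pow (d.cong_of_mem_K hk d.aw) d.comm_w (orderOf (k * d.aw))
      rw [pow_orderOf_eq_one] at h1
      have h2 := (d.cw.mem_iff _).1 (d.mem_K_of_cong_one (d.cong_symm h1))
      exact (d.four_dvd_WL.trans (dvd_mul_left _ 2)).trans h2
    exact hord.trans (Subgroup.orderOf_dvd_natCard _ (mem_centralizer_singleton_iff.2 hcomm.eq))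
  · obtain ⟨c, hcz, hB⟩ := d.exists_conj_mem hc (d.cyc_le_C d.K_le_CL d.comm_g) hp hp2
      (by rw [d.cg.card_cyc]; exact (h.mul_left 2).mul_left _) hyz hyo
    rw [← card_centralizer_conj c y]
    have hcyo : orderOf (c * y * c⁻¹) = p := by rw [orderOf_conj, hyo]
    generalize c * y * c⁻¹ = w at hB hcyo
    have hwz := d.mem_CL.1 (d.cyc_le_C d.K_le_CL d.comm_g hB)
    have hwK : w ∉ d.K := fun hm =>
      d.not_dvd_K hp (Or.inr h) (hcyo ▸ d.K.orderOf_dvd_natCard hm)
    have hwA : w ∈ d.Ag := (sup_le_sup_right le_sup_left _ : d.Bg ≤ d.Ag) hB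
    obtain ⟨k, hk, hcomm⟩ := d.exists_K_mul_commute hc hp hp2 hwz hcyo hwK d.comm_t (by
      have h1 := inv_mem (d.t_conj_mem hwA)
      rwa [show (w * d.t * w⁻¹ * d.t⁻¹)⁻¹ = d.t * w * d.t⁻¹ * w⁻¹ by group] at h1)
    obtain ⟨e, he⟩ : ∃ e, e = (k * d.t) ^ Nat.card d.K := ⟨_, rfl⟩
    have hkt : d.Cong (k * d.t) d.t := d.cong_of_mem_K hk _
    have he1 : d.Cong e d.t := by
      refine he ▸ d.cong_trans (d.cong_pow hkt d.comm_t _) ?_
      obtain ⟨m, hm⟩ := d.oddK
      rw [hm, pow_succ, pow_mul, pow_two, d.tt, one_pow, one_mul]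
      exact d.cong_refl _
    have heo : orderOf e = 2 := by
      refine orderOf_eq_prime ?_ fun h1 => d.t_notMem (left_le_cyc _ _ ?_)
      · rw [he, ← pow_mul, mul_comm, pow_mul]
        refine orderOf_dvd_iff_pow_eq_one.1 (d.K.orderOf_dvd_natCard (d.mem_K_of_cong_one ?_))
        refine d.cong_trans (d.cong_pow hkt d.comm_t 2) ?_
        rw [pow_two, d.tt]
        exact d.cong_refl _
      · rw [h1] at he1
        exact d.mem_K_of_cong_one (d.cong_symm he1)
    have hez : e ≠ z := fun h1 => d.t_notMem (by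
      rw [h1] at he1
      have h2 := mul_mem (inv_mem (left_le_cyc d.K d.ag (show z * d.t⁻¹ ∈ d.K from he1))) d.z_mem_Bg
      rwa [mul_inv_rev, inv_inv, inv_mul_cancel_right] at h2)
    exact four_dvd_card_of_invols d.zorder heo (Ne.symm hez)
      (he ▸ ((d.K_le k hk).mul_right d.comm_t).pow_right _)
      (mem_centralizer_singleton_iff.2 hwz.eq)
      (mem_centralizer_singleton_iff.2 (he ▸ hcomm.pow_left _).eq)

end Cent

end Cfsg.Agent.SDCyclic
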