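import Cfsg.Agent.Lib.SDCyclic.LocalNeg

/-!
# The exceptional configuration at the prime `3`

When `3` divides the index and `|C|`, the centralizer of an element of order `3` has a normal
`3`-complement `O × T` with `T` a four group, so it has exactly three involutions: the index is
`3 R'` with `R' ≡ 1 (mod 3)`, `τ` centralises `K` and `3 ∣ g`.
-/

set_option autoImplicit false
set_option linter.style.haveILetI false
set_option linter.unusedSectionVars false

namespace Cfsg.Agent.SDCyclic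

open Subgroup
open scoped commutatorElement

universe u

variable {G : Type u} [Group G] [Finite G]

/-- An automorphism of odd order prime to 3 of a four group is trivial. -/
theorem commute_pow_six {T : Subgroup G} (hT : Nat.card T = 4) {n : G}
    (hn : n ∈ normalizer (T : Set G)) {a : G} (ha : a ∈ T) : Commute (n ^ 6) a := by
  classical
  by_cases ha1 : a = 1
  · subst ha1; exact Commute.one_right _
  let X := {a : G // a ∈ T ∧ a ≠ 1}
  have hX : Nat.card X = 3 := by
    have e : Nat.card X = ((T : Set G) \ {1}).ncard := by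
      rw [← Nat.card_coe_set_eq]
      exact Nat.card_congr (Equiv.subtypeEquivRight fun a => by simp)
    rw [e, Set.ncard_sdiff_singleton_of_mem (show (1 : G) ∈ (T : Set G) from one_mem T),
      ← Nat.card_coe_set_eq, SetLike.coe_sort_coe, hT]
  letI : MulAction (normalizer (T : Set G)) X :=
    { smul := fun w a => ⟨(w : G) * a.1 * (w : G)⁻¹,
        conj_mem_of_mem_normalizer w.2 a.2.1, fun h => a.2.2 (by
          simpa [mul_assoc] using congrArg (fun b => (w : G)⁻¹ * b * w) h)⟩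
      one_smul := fun a => Subtype.ext
        (show ((1 : normalizer (T : Set G)) : G) * a.1 * ((1 : normalizer (T : Set G)) : G)⁻¹ = a.1 by
          simp)
      mul_smul := fun a b c => Subtype.ext (show ((a * b : normalizer (T : Set G)) : G) * c.1 *
          ((a * b : normalizer (T : Set G)) : G)⁻¹ =
        (a : G) * ((b : G) * c.1 * (b : G)⁻¹) * (a : G)⁻¹ by rw [coe_mul]; group) }
  have h6 : Nat.card (Equiv.Perm X) = 6 := by rw [Nat.card_perm, hX]; rfl
  have h1 : (MulAction.toPermHom (normalizer (T : Set G)) X) (⟨n, hn⟩ ^ 6) = 1 := by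
    rw [map_pow, ← h6, pow_card_eq_one']
  have h2 : (⟨n, hn⟩ : normalizer (T : Set G)) ^ 6 • (⟨a, ha, ha1⟩ : X) = ⟨a, ha, ha1⟩ :=
    Equiv.ext_iff.1 h1 _
  exact commute_iff_conj_eq.2 (congrArg Subtype.val h2)

namespace Cent

variable {z : G} {q : ℕ} {η : ℤ} {l g o : ℕ} (d : Cent z q η l g o)
include d

/-- An element of prime order of `K` commutes with an element of order `4` of `C`. -/
theorem exists_order_four (hc : CycSylow G) {p : ℕ} (hp : p.Prime) {y : G} (hy : y ∈ d.K)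
    (hyo : orderOf y = p) : ∃ w, Commute w y ∧ orderOf w = 4 := by
  have hp2 : p ≠ 2 := fun h => by
    have h1 := odd_orderOf_of_mem d.oddK hy
    rw [hyo, h] at h1; norm_num at h1
  obtain ⟨k₁, hk₁, hn₁⟩ := d.exists_K_mul_mem_normalizer hc hp hp2 (d.K_le y hy) hyo
    (mem_sup_left (d.normK _ d.comm_w y hy))
  obtain ⟨k₂, hk₂, hn₂⟩ := d.exists_K_mul_mem_normalizer hc hp hp2 (d.K_le y hy) hyo
    (mem_sup_left (d.normK _ d.comm_τ y hy))
  obtain ⟨c, hcdef⟩ : ∃ c, c = ⁅k₂ * d.τ, k₁ * d.aw⁆ := ⟨_, rfl⟩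
  have hcy : Commute c y := commute_of_mem_commutator_zpowers (fun n hn => hn)
    (hcdef ▸ commutator_mem_commutator hn₂ hn₁)
  have hW := d.four_le_W
  have h1 : d.Cong c (d.aw ^ (2 ^ l * o - 2)) := by
    refine hcdef ▸ d.cong_trans (d.cong_commutator (d.cong_of_mem_K hk₂ _) (d.cong_of_mem_K hk₁ _)
      d.comm_τ d.comm_w) ?_
    rw [commutatorElement_def]
    have h := d.cong_mul d.τ_conj_cong (d.cong_refl d.aw⁻¹) (d.comm_w.pow_right _)
    rwa [show 2 ^ l * o - 1 = (2 ^ l * o - 2) + 1 by omega, pow_succ, mul_inv_cancel_right] at h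
  have h2 : d.Cong (c ^ orderOf c) (d.aw ^ ((2 ^ l * o - 2) * orderOf c)) := by
    rw [pow_mul]; exact d.cong_pow h1 (d.comm_w.pow_right _) _
  rw [pow_orderOf_eq_one] at h2
  have h3 := (d.cw.mem_iff _).1 (d.mem_K_of_cong_one (d.cong_symm h2))
  obtain ⟨m, hm⟩ := d.four_dvd_WL
  have h4 : 4 ∣ orderOf c := by
    rw [hm] at h3
    have h5 : 4 ∣ (2 * m - 1) * orderOf c := by
      refine Nat.dvd_of_mul_dvd_mul_left two_pos ?_
      refine (show 2 * 4 ∣ 2 * (4 * m) from ⟨m, by ring⟩).trans (h3.trans (dvd_of_eq ?_))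
      rw [show 4 * m - 2 = 2 * (2 * m - 1) by omega, mul_assoc]
    exact ((Nat.coprime_two_left.2 ⟨m - 1, by omega⟩).pow_left 2).dvd_of_dvd_mul_left h5
  exact ⟨c ^ (orderOf c / 4), hcy.pow_left _, orderOf_pow_orderOf_div (orderOf_pos c).ne' h4⟩

theorem z_ne_oneL : z ≠ 1 := fun h => by
  have h1 := d.zorder
  rw [h, orderOf_one] at h1
  omega

variable {x s : G} {T P : Subgroup G}

theorem moved_q_ne_three (hc : CycSylow G) (hM : Moved z x s T P) : q ≠ 3 := fun h =>
  d.not_commute_q hc hM.x_comm (hM.x_order.trans h.symm) hM.s_order hM.s_comm hM.s_ne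
    (mem_centralizer_singleton_iff.1 (hM.T_le hM.s_mem))

theorem moved_not_dvd_K (hc : CycSylow G) (hM : Moved z x s T P) : ¬ 3 ∣ Nat.card d.K := by
  intro hK
  obtain ⟨w, hwx, hw4⟩ := d.exists_order_four hc Nat.prime_three
    (d.mem_K_of_dvd hc Nat.prime_three hK hM.x_comm hM.x_order) hM.x_order
  have h := (hM.sylow_T _ (isPGroup_zpowers (n := 2) (by rw [hw4]; rfl))
    (zpowers_le.2 (mem_centralizer_singleton_iff.2 hwx.eq))).2 w (mem_zpowers w)
  have h1 : orderOf w ∣ 2 := orderOf_dvd_iff_pow_eq_one.2 (by rwa [pow_two])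
  rw [hw4] at h1
  norm_num at h1

theorem moved_dvd_g (hc : CycSylow G) (hM : Moved z x s T P) : 3 ∣ g := by
  have h := d.orderOf_dvd_of_commute hM.s_order hM.s_comm hM.s_ne hM.x_comm
    (mem_centralizer_singleton_iff.1 (hM.T_le hM.s_mem))
  rw [hM.x_order] at h
  rcases Nat.prime_three.dvd_mul.1 h with h | h
  · rcases Nat.prime_three.dvd_mul.1 h with h | h
    · norm_num at h
    · exact h
  · exact absurd h (d.moved_not_dvd_K hc hM)

omit d in
theorem _root_.Cfsg.Agent.SDCyclic.Moved.mem_commutator (hM : Moved z x s T P) (hz : z ≠ 1) {a : G}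
    (ha : a ∈ T) : a ∈ ⁅centralizer ({x} : Set G), centralizer ({x} : Set G)⁆ := by
  classical
  set H := centralizer ({x} : Set G)
  have key : ∀ w ∈ P, ∀ b ∈ T, w * b * w⁻¹ * b ∈ ⁅H, H⁆ := by
    intro w hw b hb
    have h := commutator_mem_commutator (H₁ := H) (H₂ := H) (hM.P_le hw) (hM.T_le hb)
    rwa [commutatorElement_def, inv_eq_of_mul_eq_one_right (hM.sq_T b hb)] at h
  have hz1 : z ≠ 1 := hz
  obtain ⟨w, hw, hwz⟩ := hM.moved z hM.z_mem hz1
  obtain ⟨e, he⟩ : ∃ e, e = w * z * w⁻¹ * z := ⟨_, rfl⟩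
  have heT : e ∈ T :=
    he ▸ mul_mem (conj_mem_of_mem_normalizer (hM.P_norm hw) hM.z_mem) hM.z_mem
  have heC : e ∈ ⁅H, H⁆ := he ▸ key w hw z hM.z_mem
  have he1 : e ≠ 1 := fun h => hwz (commute_iff_conj_eq.2 (by
    have := eq_inv_of_mul_eq_one_left (he ▸ h : w * z * w⁻¹ * z = 1)
    rwa [inv_eq_of_mul_eq_one_right (hM.sq_T z hM.z_mem)] at this))
  obtain ⟨w', hw', hwe⟩ := hM.moved e heT he1
  obtain ⟨e', he'⟩ : ∃ e', e' = w' * e * w'⁻¹ * e := ⟨_, rfl⟩
  have he'T : e' ∈ T := he' ▸ mul_mem (conj_mem_of_mem_normalizer (hM.P_norm hw') heT) heT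
  have he'C : e' ∈ ⁅H, H⁆ := he' ▸ key w' hw' e heT
  have he'1 : e' ≠ 1 := fun h => hwe (commute_iff_conj_eq.2 (by
    have := eq_inv_of_mul_eq_one_left (he' ▸ h : w' * e * w'⁻¹ * e = 1)
    rwa [inv_eq_of_mul_eq_one_right (hM.sq_T e heT)] at this))
  have hne : e ≠ e' := fun h => by
    have h1 : w' * e * w'⁻¹ = 1 := by
      have := h.symm.trans (one_mul e).symm
      rw [he'] at this
      exact mul_right_cancel this
    exact he1 (conj_eq_one_iff.1 h1)
  have hee1 : e * e' ≠ 1 := fun h => hne (by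
    rw [← inv_eq_of_mul_eq_one_right (hM.sq_T e heT)]
    exact inv_eq_of_mul_eq_one_right h)
  have hset : ({1, e, e', e * e'} : Set G) = T := by
    refine Set.eq_of_subset_of_ncard_le ?_ ?_ (Set.toFinite _)
    · rintro b (rfl | rfl | rfl | rfl)
      exacts [one_mem _, heT, he'T, mul_mem heT he'T]
    · rw [Set.ncard_insert_of_notMem (by simp [Ne.symm he1, Ne.symm he'1, Ne.symm hee1]),
        Set.ncard_insert_of_notMem (by simp [hne, he'1]),
        Set.ncard_pair (fun h => he1 (by simpa using h)), ← Nat.card_coe_set_eq,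
        SetLike.coe_sort_coe, hM.card_T]
  rw [← SetLike.mem_coe, ← hset] at ha
  rcases ha with rfl | rfl | rfl | rfl
  exacts [one_mem _, heC, he'C, mul_mem heC he'C]

/-- The normal `3`-complement of `C(x)` is centralised by the four group. -/
theorem moved_structure (hc : CycSylow G) (hM : Moved z x s T P) :
    (∀ w, Commute w x → ¬ 3 ∣ orderOf w → Commute s w) ∧
      ∀ i, orderOf i = 2 → Commute x i → i ∈ T := by
  haveI : Fact (Nat.Prime 2) := ⟨Nat.prime_two⟩
  set H := centralizer ({x} : Set G) with hH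
  obtain ⟨W, hWn, hW3, hWi⟩ := exists_pComplement hc Nat.prime_three (by norm_num) hM.x_order
  haveI := hWn
  set W' := W.map H.subtype with hW'
  have hW'H : W' ≤ H := map_subtype_le _
  have hmemW : ∀ w ∈ H, ¬ 3 ∣ orderOf w → w ∈ W' := by
    intro w hw h3
    refine ⟨⟨w, hw⟩, ?_, rfl⟩
    rw [SetLike.mem_coe, ← QuotientGroup.eq_one_iff, ← orderOf_eq_one_iff]
    have h1 : orderOf ((⟨w, hw⟩ : H) : H ⧸ W) ∣ orderOf w :=
      Subgroup.orderOf_mk w hw ▸ orderOf_map_dvd (QuotientGroup.mk' W) _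
    have h2 : orderOf ((⟨w, hw⟩ : H) : H ⧸ W) ∣ 3 ^ (Nat.card H).factorization 3 :=
      hWi ▸ orderOf_dvd_natCard _
    exact Nat.eq_one_of_dvd_coprimes ((Nat.prime_three.coprime_iff_not_dvd.2 h3).pow_left _) h2 h1
  have hTW : T ≤ W' := fun a ha => hmemW a (hM.T_le ha) fun h => by
    have h1 := T.orderOf_dvd_natCard ha
    rw [hM.card_T] at h1
    have := h.trans h1
    norm_num at this
  have hHN : ∀ h ∈ H, h ∈ normalizer (W' : Set G) := by
    intro h hh
    refine mem_normalizer_of_conj_mem ?_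
    rintro _ ⟨w, hw, rfl⟩
    exact ⟨⟨h, hh⟩ * w * ⟨h, hh⟩⁻¹, hWn.conj_mem w hw _, rfl⟩
  have hW'card : ¬ 3 ∣ Nat.card W' := by
    rwa [hW', card_map_of_injective H.subtype_injective]
  -- `T` is a Sylow 2-subgroup of `W'`
  have hT2 : IsPGroup 2 T := IsPGroup.of_card (n := 2) (by rw [hM.card_T]; norm_num)
  have hfac : (Nat.card W').factorization 2 = 2 := by
    refine le_antisymm ?_ ?_
    · obtain ⟨Q⟩ : Nonempty (Sylow 2 W') := inferInstance
      have h := (hM.sylow_T _ (Q.2.map W'.subtype) ((map_subtype_le _).trans hW'H)).1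
      rw [card_map_of_injective W'.subtype_injective, Q.card_eq_multiplicity] at h
      exact Nat.pow_le_pow_iff_right (by norm_num : 1 < 2) |>.1
        (Nat.le_of_dvd (by norm_num) h |>.trans (by norm_num : (4 : ℕ) ≤ 2 ^ 2))
    · refine (Nat.prime_two.pow_dvd_iff_le_factorization Nat.card_pos.ne').1 ?_
      have h := card_dvd_of_le hTW
      rw [hM.card_T] at h
      simpa using h
  let S : Sylow 2 W' := Sylow.ofCard (T.subgroupOf W') (by
    rw [Nat.card_congr (subgroupOfEquivOfLe hTW).toEquiv, hM.card_T, hfac]; norm_num)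
  have hcommT : ∀ a ∈ T, ∀ b ∈ T, Commute a b := by
    intro a ha b hb
    calc a * b = (a * b)⁻¹ := (inv_eq_of_mul_eq_one_right (hM.sq_T _ (mul_mem ha hb))).symm
      _ = b * a := by
        rw [mul_inv_rev, inv_eq_of_mul_eq_one_right (hM.sq_T a ha),
          inv_eq_of_mul_eq_one_right (hM.sq_T b hb)]
  have hN : normalizer ((S : Subgroup W') : Set W') ≤ centralizer ((S : Subgroup W') : Set W') := by
    intro n hn
    rw [mem_centralizer_iff]
    intro b hb
    refine Subtype.ext ?_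
    show (b : G) * n = n * b
    have hbT : (b : G) ∈ T := hb
    have hnT : (n : G) ∈ normalizer (T : Set G) := by
      refine mem_normalizer_of_conj_mem fun a ha => ?_
      have h := conj_mem_of_mem_normalizer (G := W') (H := (S : Subgroup W')) (x := ⟨a, hTW ha⟩) hn ha
      exact h
    obtain ⟨k, m, hm, hnm⟩ := Nat.exists_eq_two_pow_mul_odd (orderOf_pos (n : G)).ne'
    have h2 : IsPGroup 2 (zpowers ((n : G) ^ m)) := by
      refine isPGroup_zpowers (n := k) ?_
      rw [orderOf_pow_of_dvd hm.pos.ne' (hnm ▸ dvd_mul_left m _), hnm,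
        Nat.mul_div_cancel _ hm.pos]
    have hsup := IsPGroup.to_sup_of_normal_right' h2 hT2 (zpowers_le.2 (pow_mem hnT m))
    have hle : zpowers ((n : G) ^ m) ⊔ T ≤ H :=
      sup_le (zpowers_le.2 (pow_mem (hW'H n.2) m)) hM.T_le
    have h4 := (hM.sylow_T _ hsup hle).1
    have heq : T = zpowers ((n : G) ^ m) ⊔ T := eq_of_le_of_card_ge le_sup_right (by
      rw [hM.card_T]; exact Nat.le_of_dvd (by norm_num) h4)
    have h5 : Commute ((n : G) ^ m) b :=
      hcommT _ (heq.symm ▸ mem_sup_left (mem_zpowers _)) _ hbT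
    have h6 := commute_pow_six hM.card_T hnT hbT
    have h3m : ¬ 3 ∣ m := fun h => hW'card ((h.trans (hnm ▸ dvd_mul_left m _)).trans
      (W'.orderOf_dvd_natCard n.2))
    have hcop : Nat.Coprime m 6 := by
      rw [show (6 : ℕ) = 2 * 3 from rfl]
      exact (Nat.coprime_two_right.2 hm).mul_right (Nat.prime_three.coprime_iff_not_dvd.2 h3m).symm
    have h7 : Commute (n : G) b := by
      have e : (n : G) = ((n : G) ^ (m : ℤ)) ^ (Nat.gcdA m 6) * ((n : G) ^ ((6 : ℕ) : ℤ)) ^ (Nat.gcdB m 6) := by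
        rw [← zpow_mul, ← zpow_mul, ← zpow_add, ← Nat.gcd_eq_gcd_ab, hcop]
        simp
      rw [e, zpow_natCast, zpow_natCast]
      exact (h5.zpow_left _).mul_left (h6.zpow_left _)
    exact h7.symm.eq
  have hcomp := MonoidHom.ker_transferSylow_isComplement' S hN
  have hodd : Odd (Nat.card (MonoidHom.transferSylow S hN).ker) :=
    Nat.not_even_iff_odd.1 fun he => MonoidHom.not_dvd_card_ker_transferSylow S hN he.two_dvd
  have hO : ∀ a ∈ T, ∀ b ∈ Oc W', Commute a b := fun a ha b hb =>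
    commute_of_invol_mem_commutator (hc.isZGroup (odd_Oc W')) (odd_Oc W')
      (fun h hh => mem_normalizer_Oc (hHN h hh)) (hM.mem_commutator d.z_ne_oneL ha) (hM.sq_T a ha) hb
  have hdec : ∀ w ∈ W', ∃ b ∈ Oc W', ∃ a ∈ T, w = b * a := by
    intro w hw
    obtain ⟨⟨b, a⟩, hba⟩ := hcomp.2 (⟨w, hw⟩ : W')
    exact ⟨(b : W'), ⟨(b : W'), PCore.le_oddCore hodd b.2, rfl⟩, ((a : W') : G), a.2,
      (congrArg Subtype.val hba).symm⟩
  refine ⟨fun w hwx h3 => ?_, fun i hi2 hxi => ?_⟩
  · obtain ⟨b, hb, a, ha, rfl⟩ :=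
      hdec w (hmemW w (mem_centralizer_singleton_iff.2 hwx.eq) h3)
    exact (hO s hM.s_mem b hb).mul_right (hcommT s hM.s_mem a ha)
  · obtain ⟨b, hb, a, ha, rfl⟩ :=
      hdec i (hmemW i (mem_centralizer_singleton_iff.2 hxi.symm.eq) (by rw [hi2]; norm_num))
    have h2 : b * a * (b * a) = 1 := Involution.sq_of_orderOf_two hi2
    rw [(hO a ha b hb).mul_mul_mul_comm, hM.sq_T a ha, mul_one] at h2
    rw [eq_one_of_sq_eq_one (odd_orderOf_of_mem (odd_Oc W') hb) h2, one_mul]
    exact ha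

/-- In the exceptional configuration `τ` centralises `K`. -/
theorem moved_invNum (hc : CycSylow G) (hM : Moved z x s T P) : d.invNum = 1 := by
  by_contra hI
  obtain ⟨ℓ, hℓ, v₀, hv₀, hv₀o, hinv⟩ := d.exists_inverted hI
  obtain ⟨m, hm⟩ := d.moved_dvd_g hc hM
  have hm0 : 0 < m := by have := d.hg.pos; omega
  obtain ⟨b, hbz, hbo, hbv⟩ := d.exists_commute_of_commutator hc hℓ hv₀ hv₀o Nat.prime_three
    (d.comm_g.pow_right m) d.comm_ρ (e := d.ag ^ (2 * m)) (by
      rw [commutatorElement_def]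
      have h1 : d.Cong (d.ρ * d.ag ^ m * d.ρ⁻¹) ((d.ag ^ m)⁻¹) := by
        rw [← conj_pow, ← inv_pow]
        refine d.cong_pow ?_ d.comm_g.inv_right m
        show _ * d.ag⁻¹⁻¹ ∈ d.K
        rw [inv_inv]; exact d.ρ_conj
      have h2 := d.cong_mul (d.cong_refl (d.ag ^ m))
        (d.cong_inv h1 (d.comm_g.pow_right m).inv_right) (d.comm_g.pow_right m)
      rw [inv_inv, ← pow_add, ← two_mul] at h2
      rwa [show d.ag ^ m * (d.ρ * d.ag ^ m * d.ρ⁻¹)⁻¹ = d.ag ^ m * d.ρ * (d.ag ^ m)⁻¹ * d.ρ⁻¹ by group]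
        at h2)
    (d.comm_g.pow_right _) (by
      rw [d.cg.mem_iff, hm]
      intro h
      have := Nat.le_of_dvd (by omega) h
      omega) (by
      rw [← pow_mul, d.cg.mem_iff, hm]; exact ⟨1, by ring⟩)
  obtain ⟨h, hh, h1⟩ := hc.exists_conj_mem_zpowers (centralizer ({z} : Set G)) Nat.prime_three
    (by norm_num) (d.mem_CL.2 hbz) (d.mem_CL.2 hM.x_comm) hbo hM.x_order
  have hhz := d.mem_CL.1 hh
  obtain ⟨i, hi⟩ := mem_zpowers_iff.1 h1
  obtain ⟨v, hvdef⟩ : ∃ v, v = h⁻¹ * v₀ * h := ⟨_, rfl⟩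
  have hxv : Commute x v := by
    have h2 : Commute (h * x * h⁻¹) v₀ := hi ▸ hbv.zpow_left i
    have h3 := h2.map (MulAut.conj h⁻¹).toMonoidHom
    simp only [MulEquiv.coe_toMonoidHom, MulAut.conj_apply, inv_inv] at h3
    rwa [show h⁻¹ * (h * x * h⁻¹) * h = x by group, ← hvdef] at h3
  have hvK : v ∈ d.K := hvdef ▸ d.conj_mem_K hhz hv₀
  have h3 : ¬ 3 ∣ orderOf v := fun h' => d.moved_not_dvd_K hc hM (h'.trans (d.K.orderOf_dvd_natCard hvK))
  have hsv := ((d.moved_structure hc hM).1 v hxv.symm h3).map (MulAut.conj h).toMonoidHom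
  simp only [MulEquiv.coe_toMonoidHom, MulAut.conj_apply] at hsv
  rw [show h * v * h⁻¹ = v₀ by rw [hvdef]; group] at hsv
  refine d.not_commute_of_inverted hc hℓ hv₀ hv₀o hinv (s := h * s * h⁻¹) ?_ ?_ ?_ hsv
  · rw [orderOf_conj, hM.s_order]
  · exact (hhz.mul_right hM.s_comm).mul_right hhz.inv_right
  · intro he
    apply hM.s_ne
    calc s = h⁻¹ * (h * s * h⁻¹) * h := by group
      _ = z := by rw [he, mul_assoc, hhz.eq, inv_mul_cancel_left]

/-- In the exceptional configuration the index is `3 R'` with `R' ≡ 1 (mod 3)`. -/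
theorem moved_index (hc : CycSylow G) (hM : Moved z x s T P)
    (h3 : 3 ∣ (centralizer ({z} : Set G)).index) :
    ∃ R', (centralizer ({z} : Set G)).index = 3 * R' ∧ R' ≡ 1 [MOD 3] ∧ ¬ 3 ∣ R' := by
  haveI : Fact (Nat.Prime 3) := ⟨Nat.prime_three⟩
  obtain ⟨c, hR⟩ := d.exists_index_eq_add hc Nat.prime_three (by norm_num)
    (IsPGroup.of_card hM.card_P) hM.x_mem hM.x_order
  have hF : Nat.card {i : G // orderOf i = 2 ∧ Commute x i} = 3 := by
    have e : Nat.card {i : G // orderOf i = 2 ∧ Commute x i} = ((T : Set G) \ {1}).ncard := by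
      rw [← Nat.card_coe_set_eq]
      refine Nat.card_congr (Equiv.subtypeEquivRight fun a => ⟨fun ha => ?_, fun ha => ?_⟩)
      · exact ⟨(d.moved_structure hc hM).2 a ha.1 ha.2, fun h => by
          have h1 := ha.1
          rw [Set.mem_singleton_iff.1 h, orderOf_one] at h1
          omega⟩
      · exact ⟨orderOf_eq_prime (by rw [pow_two]; exact hM.sq_T a ha.1) ha.2,
          (show Commute a x from mem_centralizer_singleton_iff.1 (hM.T_le ha.1)).symm⟩
    rw [e, Set.ncard_sdiff_singleton_of_mem (show (1 : G) ∈ (T : Set G) from one_mem T),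
      ← Nat.card_coe_set_eq, SetLike.coe_sort_coe, hM.card_T]
  have h9 : 3 ^ 2 ∣ Nat.card P := by
    rw [hM.card_P]
    refine pow_dvd_pow 3 ((Nat.prime_three.pow_dvd_iff_le_factorization Nat.card_pos.ne').1 ?_)
    rw [pow_two, ← card_mul_index (centralizer ({z} : Set G))]
    refine mul_dvd_mul ?_ h3
    exact hM.x_order ▸ Subgroup.orderOf_dvd_natCard _ (d.mem_CL.2 hM.x_comm)
  obtain ⟨e, he⟩ := h9
  rw [hF, he] at hR
  refine ⟨1 + 3 * (e * c), by rw [hR]; ring, ?_, fun h => ?_⟩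
  · exact (Nat.modEq_iff_dvd' (by omega)).2 ⟨e * c, by omega⟩ |>.symm
  · have := (Nat.dvd_add_left (dvd_mul_right 3 (e * c))).1 h
    norm_num at this

end Cent

end Cfsg.Agent.SDCyclic
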