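import Cfsg.Agent.Lib.SDCyclic.Cover
import Cfsg.Agent.Lib.SDCyclic.AutPGL
import Cfsg.Agent.Lib.QDFusion.IndexTwo
import Cfsg.Agent.Lib.SDCyclic.DihedralIso
import Cfsg.Agent.Lib.GW.Assembly
import Mathlib.GroupTheory.SchurZassenhaus

/-!
# The centralizer of an involution modulo its odd core

`exists_cover`: for a quasi-dihedral Sylow 2-subgroup, no subgroup of index two and cyclic odd
Sylow subgroups, `C(z) / O(C(z))` is the semidihedral double cover of `PGL₂(q)`.
-/

set_option autoImplicit false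
set_option linter.style.haveILetI false
set_option linter.unusedSectionVars false

namespace Cfsg.Agent.SDCyclic

open TwoGroups QDFusion
open scoped MatrixGroups

universe u

/-- Odd Sylow subgroups cyclic: every odd `p`-subgroup of a section is cyclic. -/
theorem isCyclic_of_pgroup_image {G : Type*} [Group G] [Finite G]
    (hcyc : ∀ p, p.Prime → p ≠ 2 → ∀ P : Sylow p G, IsCyclic (P : Subgroup G))
    {H : Subgroup G} {L : Type*} [Group L] (f : H →* L) (hf : Function.Surjective f) :
    ∀ p, p.Prime → p ≠ 2 → ∀ Q : Subgroup L, IsPGroup p Q → IsCyclic Q := by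
  intro p hp hp2 Q hQ
  haveI : Fact p.Prime := ⟨hp⟩
  haveI : Finite L := Finite.of_surjective f hf
  obtain ⟨T, hQT⟩ := hQ.exists_le_sylow
  obtain ⟨R, rfl⟩ := Sylow.mapSurjective_surjective hf p T
  obtain ⟨P, hP⟩ := (R.isPGroup'.map H.subtype).exists_le_sylow
  haveI : IsCyclic (P : Subgroup G) := hcyc p hp hp2 P
  haveI : IsCyclic ((R : Subgroup H).map H.subtype) :=
    isCyclic_of_injective (Subgroup.inclusion hP) (Subgroup.inclusion_injective hP)
  haveI : IsCyclic (R : Subgroup H) :=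
    ((R : Subgroup H).equivMapOfInjective _ H.subtype_injective).isCyclic.2 inferInstance
  haveI : IsCyclic ((R : Subgroup H).map f) :=
    isCyclic_of_surjective (f.subgroupMap (R : Subgroup H)) (f.subgroupMap_surjective _)
  exact isCyclic_of_injective
    (Subgroup.inclusion (show Q ≤ (R : Subgroup H).map f from hQT))
    (Subgroup.inclusion_injective _)

/-- The odd core stays trivial in the quotient by a central subgroup of order two. -/
theorem oddCore_quotient_central {D : Type*} [Group D] [Finite D] (hO : Cfsg.oddCore D = ⊥)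
    (Z : Subgroup D) [Z.Normal] (hZ : Nat.card Z = 2) : Cfsg.oddCore (D ⧸ Z) = ⊥ := by
  set O := Cfsg.oddCore (D ⧸ Z) with hOdef
  set M := O.comap (QuotientGroup.mk' Z) with hM
  have hZM : Z ≤ M := fun z hz => by
    show QuotientGroup.mk' Z z ∈ O
    rw [QuotientGroup.mk'_apply, (QuotientGroup.eq_one_iff z).2 hz]
    exact one_mem _
  have hodd : Odd (Nat.card O) := PCore.odd_card_oddCore
  have hMcard : Nat.card M = 2 * Nat.card O := by
    rw [show Nat.card M = Nat.card (QuotientGroup.mk ⁻¹' ((O : Subgroup _) : Set (D ⧸ Z))) from rfl,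
      QuotientGroup.card_preimage_mk, hZ]
    rfl
  have hc : Nat.card (Z.subgroupOf M) = 2 := by
    rw [Nat.card_congr (Subgroup.subgroupOfEquivOfLe hZM).toEquiv, hZ]
  have hi : (Z.subgroupOf M).index = Nat.card O := by
    have := (Z.subgroupOf M).card_mul_index
    rw [hc, hMcard] at this
    omega
  obtain ⟨H, hH⟩ := Subgroup.exists_right_complement'_of_coprime (N := Z.subgroupOf M)
    (by rw [hc, hi]; exact Nat.coprime_two_left.2 hodd)
  have hHi : H.index = 2 := by rw [hH.index_eq_card, hc]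
  have hHcard : Nat.card H = Nat.card O := by
    have := H.card_mul_index
    rw [hHi, hMcard] at this
    omega
  have hHmem : ∀ x : M, x ∈ H ↔ Odd (orderOf x) := by
    refine fun x => ⟨fun hx => ?_, fun hx => QDFusion.mem_of_odd_of_index_two hHi hx⟩
    exact Odd.of_dvd_nat (hHcard ▸ hodd) (Subgroup.orderOf_dvd_natCard H hx)
  set H' := H.map M.subtype with hH'
  haveI : H'.Normal := by
    refine ⟨?_⟩
    rintro _ ⟨x, hx, rfl⟩ d
    have hmem : d * (x : D) * d⁻¹ ∈ M := (inferInstance : M.Normal).conj_mem _ x.2 d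
    refine ⟨⟨_, hmem⟩, (hHmem _).2 ?_, rfl⟩
    rw [← Subgroup.orderOf_coe, Subgroup.coe_mk, ← MulAut.conj_apply, MulEquiv.orderOf_eq,
      Subgroup.orderOf_coe]
    exact (hHmem x).1 hx
  have h' : H' ≤ Cfsg.oddCore D := PCore.le_pPrimeCore (Nat.coprime_two_right.2 (by
    rw [hH', Subgroup.card_map_of_injective M.subtype_injective, hHcard]; exact hodd))
  rw [hO, le_bot_iff] at h'
  rw [← Subgroup.card_eq_one, ← hHcard, ← Subgroup.card_map_of_injective M.subtype_injective,
    ← hH', h', Subgroup.card_bot]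

variable {G : Type u} [Group G] [Finite G]

theorem exists_cover {S : Sylow 2 G} {x y : ↥(S : Subgroup G)} {m : ℕ} (h : QDGen x y m)
    (hno : ∀ H : Subgroup G, H.index ≠ 2)
    (hcyc : ∀ p, p.Prime → p ≠ 2 → ∀ P : Sylow p G, IsCyclic (P : Subgroup G))
    (h2 : GW.PartTwo.{u}) :
    ∃ (q : ℕ) (_ : Fact q.Prime), q ≠ 2 ∧
      ∃ f : Subgroup.centralizer ({((zz x m : ↥(S : Subgroup G)) : G)} : Set G) ⧸
          Cfsg.oddCore (Subgroup.centralizer ({((zz x m : ↥(S : Subgroup G)) : G)} : Set G)) →*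
            PGL(2, ZMod q),
        Cover f (QuotientGroup.mk ⟨_, mem_centralizer_zz h (zz x m)⟩) (sqPart (ZMod q)) := by
  haveI : Fact (Nat.Prime 2) := ⟨Nat.prime_two⟩
  set z : G := ((zz x m : ↥(S : Subgroup G)) : G) with hz
  set C := Subgroup.centralizer ({z} : Set G) with hC
  have hSC : (S : Subgroup G) ≤ C := fun s hs => mem_centralizer_zz h ⟨s, hs⟩
  set K := Cfsg.oddCore C with hK
  set ι : ↥(S : Subgroup G) →* C := Subgroup.inclusion hSC with hι
  set σ : ↥(S : Subgroup G) →* C ⧸ K := (QuotientGroup.mk' K).comp ι with hσ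
  have hSp : IsPGroup 2 ↥(S : Subgroup G) := S.isPGroup'
  -- `S` embeds modulo `K`
  have hσi : Function.Injective σ := by
    refine (injective_iff_map_eq_one _).2 fun s hs => ?_
    rw [hσ, MonoidHom.comp_apply, QuotientGroup.mk'_apply, QuotientGroup.eq_one_iff] at hs
    obtain ⟨k, hk⟩ := hSp s
    have h1 : orderOf (ι s) ∣ 2 ^ k := orderOf_dvd_of_pow_eq_one (by rw [← map_pow, hk, map_one])
    have h3 : orderOf (ι s) = 1 := Nat.eq_one_of_dvd_coprimes
      ((Nat.coprime_two_right.2 PCore.odd_card_oddCore).pow_right k)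
      (Subgroup.orderOf_dvd_natCard K hs) h1
    rw [orderOf_eq_one_iff] at h3
    exact Subgroup.inclusion_injective hSC (h3.trans (map_one _).symm)
  set zd : C ⧸ K := σ (zz x m) with hzd
  have hzz2 : zz x m * zz x m = 1 := by rw [← pow_two]; exact (h.x_sq_eq_one_iff _).2 dvd_rfl
  have hzz1 : zz x m ≠ 1 := fun e => by
    have := orderOf_zz h; rw [e, Subgroup.coe_one, orderOf_one] at this; omega
  have hzne : zd ≠ 1 := fun e => hzz1 (hσi (e.trans (map_one σ).symm))
  have hzsq : zd * zd = 1 := by rw [hzd, ← map_mul, hzz2, map_one]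
  have hzc : ∀ d : C ⧸ K, Commute zd d := by
    intro d
    obtain ⟨c, rfl⟩ := QuotientGroup.mk'_surjective K d
    show Commute (QuotientGroup.mk' K (ι (zz x m))) _
    refine Commute.map ?_ _
    exact Subtype.ext (Subgroup.mem_centralizer_singleton_iff.1 c.2).symm
  have hmemZ : ∀ d : C ⧸ K, d ∈ Subgroup.zpowers zd ↔ d = 1 ∨ d = zd := by
    intro d
    refine ⟨?_, ?_⟩
    · rintro ⟨k, rfl⟩
      rcases Int.even_or_odd k with ⟨j, rfl⟩ | ⟨j, rfl⟩
      · left; show zd ^ (j + j) = 1
        rw [← two_mul, _root_.zpow_mul, zpow_two, hzsq, _root_.one_zpow]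
      · right; show zd ^ (2 * j + 1) = zd
        rw [zpow_add_one, _root_.zpow_mul, zpow_two, hzsq, _root_.one_zpow, one_mul]
    · rintro (rfl | rfl)
      exacts [one_mem _, Subgroup.mem_zpowers _]
  set Z := Subgroup.zpowers zd with hZ
  haveI : Z.Normal := ⟨fun d hd c => by
    rcases (hmemZ d).1 hd with rfl | rfl
    · rw [mul_one, mul_inv_cancel]; exact one_mem _
    · rw [((hzc c).symm).eq, mul_inv_cancel_right]; exact Subgroup.mem_zpowers _⟩
  have hZcard : Nat.card Z = 2 := by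
    rw [hZ, Nat.card_zpowers]
    exact orderOf_eq_prime (by rw [pow_two, hzsq]) hzne
  set ρ : C ⧸ K →* (C ⧸ K) ⧸ Z := QuotientGroup.mk' Z with hρ
  set θ : ↥(S : Subgroup G) →* (C ⧸ K) ⧸ Z := ρ.comp σ with hθ
  have hρeq : ∀ a b : C ⧸ K, ρ a = ρ b → a = b ∨ a = zd * b := by
    intro a b hab
    have h1 : a * b⁻¹ ∈ Z := by
      rw [← QuotientGroup.eq_one_iff]
      show ρ (a * b⁻¹) = 1
      rw [map_mul, map_inv, hab, mul_inv_cancel]
    rcases (hmemZ _).1 h1 with e | e
    · exact Or.inl (mul_inv_eq_one.1 e)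
    · exact Or.inr (mul_inv_eq_iff_eq_mul.1 e)
  have hθ1 : ∀ s, θ s = 1 ↔ s = 1 ∨ s = zz x m := by
    intro s
    rw [hθ, MonoidHom.comp_apply, hρ, QuotientGroup.mk'_apply, QuotientGroup.eq_one_iff, hmemZ,
      hzd, hσi.eq_iff, map_eq_one_iff _ hσi]
  -- elements of order four
  set A := aa x m with hA
  set y0 := x ^ (0 : ℤ) * y with hy0
  set y1 := x ^ (1 : ℤ) * y with hy1
  have hAA : A * A = zz x m := by
    rw [hA, QDGen.x_mul_x, h.zpow_eq_iff]; exact ⟨0, by ring⟩
  have hy00 : y0 * y0 = 1 := by rw [← pow_two]; exact (h.xy_sq_eq_one_iff _).2 (dvd_zero _)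
  have hy11 : y1 * y1 = zz x m := by
    rw [← pow_two, hy1, h.xy_sq, mul_one]
  -- the two classes of elements of order four are fused in `C`
  have hfus : IsConj (σ A) (σ y1) := by
    by_contra hcon
    refine hcon ?_
    by_cases hG : IsConj (A : G) (y1 : G)
    · obtain ⟨c, hc⟩ := isConj_iff.1 hG
      have hcC : c ∈ C := by
        rw [hC, Subgroup.mem_centralizer_singleton_iff, ← mul_inv_eq_iff_eq_mul]
        calc c * z * c⁻¹ = c * ((A : G) * A) * c⁻¹ := by
              rw [hz, ← Subgroup.coe_mul, hAA]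
          _ = (c * A * c⁻¹) * (c * A * c⁻¹) := by group
          _ = z := by rw [hc, ← Subgroup.coe_mul, hy11]
      refine isConj_iff.2 ⟨QuotientGroup.mk' K ⟨c, hcC⟩, ?_⟩
      rw [hσ, MonoidHom.comp_apply, MonoidHom.comp_apply, ← map_inv, ← map_mul, ← map_mul]
      exact congrArg _ (Subtype.ext hc)
    · obtain ⟨M, -, hM, -⟩ := exists_index_two_missing_four h hG
      exact absurd hM (hno M)
  -- the Sylow subgroups
  set SC : Sylow 2 C := S.subtype hSC with hSCd
  set T : Sylow 2 ((C ⧸ K) ⧸ Z) :=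
    Sylow.mapSurjective (f := ρ.comp (QuotientGroup.mk' K))
      ((QuotientGroup.mk'_surjective Z).comp (QuotientGroup.mk'_surjective K)) SC with hT
  have hιr : ι.range = (SC : Subgroup C) := Subgroup.inclusion_range hSC
  have hTr : θ.range = (T : Subgroup ((C ⧸ K) ⧸ Z)) := by
    rw [hT, Sylow.coe_mapSurjective, ← hιr, MonoidHom.map_range]
    rfl
  have hdih : GW.SubDihedral ((C ⧸ K) ⧸ Z) := by
    have hgen : Fusion.Dihedral.DihedralGen (T : Subgroup ((C ⧸ K) ⧸ Z)) (θ x) (θ y) (m + 2) := by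
      refine ⟨by omega, ?_, ?_, ?_, ?_⟩
      · refine orderOf_eq_prime_pow (p := 2) (n := m + 1) ?_ ?_
        · rw [← map_pow, hθ1]
          intro hcon
          have hpw : x ^ (2 ^ (m + 1) : ℕ) = A := by
            rw [hA, aa, ← zpow_natCast]; congr 1; push_cast; ring
          rw [hpw] at hcon
          rcases hcon with e | e
          · have := orderOf_aa h
            rw [← hA, e, Subgroup.coe_one, orderOf_one] at this
            omega
          · have := orderOf_aa h
            rw [← hA, e, orderOf_zz h] at this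
            omega
        · rw [← map_pow, hθ1]
          right
          rw [zz, ← zpow_natCast]; congr 1; push_cast; ring
      · rw [← map_mul, h.y_mul_self, map_one]
      · have e : y * x * y⁻¹ = zz x m * x⁻¹ := by
          rw [show y * x = y * x ^ (1 : ℤ) by rw [zpow_one], h.y_mul_zpow, mul_inv_cancel_right, zz,
            ← zpow_neg_one x, QDGen.x_mul_x]
          congr 1; ring
        rw [← map_inv, ← map_mul, ← map_mul, e, map_mul, (hθ1 _).2 (Or.inr rfl), one_mul, map_inv]
      · rw [← hTr]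
        refine le_antisymm ?_ (sup_le (Subgroup.zpowers_le.2 ⟨x, rfl⟩)
          (Subgroup.zpowers_le.2 ⟨y, rfl⟩))
        rintro _ ⟨s, rfl⟩
        obtain ⟨j, rfl | rfl⟩ := h.exists_form s
        · rw [map_zpow]; exact Subgroup.mem_sup_left ⟨j, rfl⟩
        · rw [map_mul, map_zpow]
          exact mul_mem (Subgroup.mem_sup_left ⟨j, rfl⟩)
            (Subgroup.mem_sup_right (Subgroup.mem_zpowers _))
    obtain ⟨e⟩ := nonempty_dihedral hgen
    exact GW.subDihedral_of_sylow T (n := 2 ^ (m + 2)) (by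
      rw [pow_succ]; have := Nat.one_le_two_pow (n := m + 1); omega) e
  -- the involutions of the quotient
  have hinv1 : ∀ s, orderOf (θ s) = 2 → IsConj (θ s) (θ A) ∨ IsConj (θ s) (θ y0) := by
    intro s hs
    have h2 : θ (s * s) = 1 := by
      have := pow_orderOf_eq_one (θ s)
      rw [hs, pow_two] at this
      rw [map_mul, this]
    have hsne : s ≠ 1 := fun e => by rw [e, map_one, orderOf_one] at hs; omega
    rcases (hθ1 _).1 h2 with e | e
    · have ho : orderOf s = 2 := orderOf_eq_prime (by rw [pow_two, e]) hsne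
      rcases eq_zz_or_xy h ho with rfl | ⟨i, hi, rfl⟩
      · rw [(hθ1 _).2 (Or.inr rfl), orderOf_one] at hs; omega
      · obtain ⟨j, hj⟩ := h.exists_conj (i := i) (i' := 0) (by simpa using hi)
        exact Or.inr (θ.map_isConj (isConj_iff.2 ⟨x ^ j, hj⟩))
    · have ho : orderOf s = 4 := by
        refine orderOf_eq_prime_pow (p := 2) (n := 1) (fun e' => hzz1 ?_) ?_
        · rw [pow_one, pow_two, e] at e'; exact e'
        · show s ^ (2 * 2) = 1
          rw [pow_mul, pow_two s, e, pow_two, hzz2]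
      rcases eq_aa_or_xy h ho with rfl | rfl | ⟨i, hi, rfl⟩
      · exact Or.inl (IsConj.refl _)
      · refine Or.inl ?_
        rw [map_inv, inv_eq_of_mul_eq_one_right (show θ A * θ A = 1 by
          rw [← map_mul, hAA]; exact (hθ1 _).2 (Or.inr rfl))]
      · obtain ⟨j, hj⟩ := h.exists_conj (i := i) (i' := 1) (by omega)
        exact Or.inl ((θ.map_isConj (isConj_iff.2 ⟨x ^ j, hj⟩)).trans (ρ.map_isConj hfus).symm)
  have hinv : ∀ u, orderOf u = 2 → IsConj u (θ A) ∨ IsConj u (θ y0) := by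
    intro u hu
    obtain ⟨Q, hQ⟩ := (IsPGroup.of_card (p := 2) (n := 1) (G := Subgroup.zpowers u)
      (by rw [Nat.card_zpowers, hu, pow_one])).exists_le_sylow
    obtain ⟨g, hg⟩ := MulAction.exists_smul_eq ((C ⧸ K) ⧸ Z) Q T
    obtain ⟨s, hs⟩ : g * u * g⁻¹ ∈ θ.range := by
      rw [hTr, ← hg, Sylow.coe_subgroup_smul]
      exact Subgroup.smul_mem_pointwise_smul u (MulAut.conj g) _ (hQ (Subgroup.mem_zpowers u))
    have hc : IsConj u (θ s) := isConj_iff.2 ⟨g, hs.symm⟩
    exact (hinv1 s (by rw [hs, ← MulAut.conj_apply, MulEquiv.orderOf_eq, hu])).imp hc.trans hc.trans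
  have hvo : orderOf (θ A) = 2 := by
    refine orderOf_eq_prime (by rw [pow_two, ← map_mul, hAA]; exact (hθ1 _).2 (Or.inr rfl))
      fun e => ?_
    have := orderOf_aa h
    rcases (hθ1 _).1 e with e' | e'
    · rw [← hA, e', Subgroup.coe_one, orderOf_one] at this; omega
    · rw [← hA, e', orderOf_zz h] at this; omega
  have hwo : orderOf (θ y0) = 2 := by
    refine orderOf_eq_prime (by rw [pow_two, ← map_mul, hy00, map_one]) fun e => ?_
    rcases (hθ1 _).1 e with e' | e'
    · exact h.xy_ne 0 0 (e'.trans (zpow_zero x).symm)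
    · exact h.xy_ne 0 ((4 : ℤ) * 2 ^ m) e'
  have hvw : ¬ IsConj (θ A) (θ y0) := by
    intro hcon
    obtain ⟨g, hg⟩ := isConj_iff.1 hcon
    obtain ⟨d, rfl⟩ := QuotientGroup.mk'_surjective Z g
    have h1 : ρ (d * σ A * d⁻¹) = ρ (σ y0) := by rw [map_mul, map_mul, map_inv]; exact hg
    have h3 : (d * σ A * d⁻¹) * (d * σ A * d⁻¹) = zd := by
      rw [show d * σ A * d⁻¹ * (d * σ A * d⁻¹) = d * (σ A * σ A) * d⁻¹ by group, ← map_mul, hAA,
        ← hzd, ((hzc d).symm).eq, mul_inv_cancel_right]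
    have h4 : (d * σ A * d⁻¹) * (d * σ A * d⁻¹) = 1 := by
      rcases hρeq _ _ h1 with e | e <;> rw [e]
      · rw [← map_mul, hy00, map_one]
      · rw [show zd * σ y0 * (zd * σ y0) = zd * (σ y0 * zd) * σ y0 by group, ← (hzc _).eq,
          ← mul_assoc, hzsq, one_mul, ← map_mul, hy00, map_one]
    exact hzne (h3.symm.trans h4)
  -- not a `2`-group
  have h2g : ¬ IsPGroup 2 ((C ⧸ K) ⧸ Z) := by
    intro hp
    have hDp : IsPGroup 2 (C ⧸ K) := by
      obtain ⟨k, hk⟩ := IsPGroup.iff_card.1 hp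
      exact IsPGroup.of_card (n := k + 1) (by
        rw [Z.card_eq_card_quotient_mul_card_subgroup, hk, hZcard, pow_succ])
    have htop : θ.range = ⊤ := by
      have hT' : (T : Subgroup ((C ⧸ K) ⧸ Z)) = ⊤ :=
        (T.3 (hp.to_subgroup ⊤) le_top).symm
      rw [hTr, hT']
    obtain ⟨d, hd⟩ := isConj_iff.1 hfus
    obtain ⟨s, hs⟩ : ρ d ∈ θ.range := htop ▸ Subgroup.mem_top _
    have h1 : σ y1 = σ (s * A * s⁻¹) := by
      rcases hρeq _ _ hs.symm with e | e
      · rw [← hd, e, map_mul, map_mul, map_inv]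
      · rw [← hd, e, map_mul, map_mul, map_inv]
        rw [show zd * σ s * σ A * (zd * σ s)⁻¹ = zd * (σ s * σ A * (σ s)⁻¹) * zd⁻¹ by group,
          (hzc _).eq, mul_inv_cancel_right]
    rcases conj_aa h s with e | e
    · rw [e] at h1
      exact h.xy_ne 1 _ (hσi h1)
    · rw [e] at h1
      exact h.xy_ne 1 _ ((hσi h1).trans (zpow_neg x _).symm)
  obtain ⟨q, hq, hq2, f, hf⟩ := exists_pgl_equiv hdih (GW.knownSections h2)
    (oddCore_quotient_central PCore.pPrimeCore_quotient_self_eq_bot Z hZcard)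
    (isCyclic_of_pgroup_image hcyc (ρ.comp (QuotientGroup.mk' K))
      ((QuotientGroup.mk'_surjective Z).comp (QuotientGroup.mk'_surjective K)))
    h2g hvo hwo hvw
  refine ⟨q, hq, hq2, f.comp ρ, ?_⟩
  have hidx : (sqPart (ZMod q)).index = 2 := PSL2.Maximal.index_range_psi (odd_card hq2)
  have hord : ∀ u, orderOf (f u) = orderOf u := fun u => orderOf_injective f hf.1 u
  have hfv : f (θ A) ∈ sqPart (ZMod q) := by
    rw [show A = x ^ ((2 : ℤ) ^ m) * x ^ ((2 : ℤ) ^ m) by
      rw [hA, QDGen.x_mul_x, aa]; congr 1; ring, map_mul, map_mul]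
    exact Subgroup.mul_self_mem_of_index_two hidx _
  have hfw : f (θ y0) ∉ sqPart (ZMod q) := by
    intro hP
    obtain ⟨c, hc⟩ := isConj_iff.1 (isConj_inner hq2 (by rw [hord, hvo]) (by rw [hord, hwo]) hfv hP)
    obtain ⟨g, rfl⟩ := hf.2 c
    exact hvw (isConj_iff.2 ⟨g, hf.1 (by rw [map_mul, map_mul, map_inv, hc])⟩)
  haveI hPn : (sqPart (ZMod q)).Normal := Subgroup.normal_of_index_eq_two hidx
  have hmemconj : ∀ a b : (C ⧸ K) ⧸ Z, IsConj a b → f a ∈ sqPart (ZMod q) →
      f b ∈ sqPart (ZMod q) := by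
    intro a b hab ha
    obtain ⟨c, rfl⟩ := isConj_iff.1 hab
    rw [map_mul, map_mul, map_inv]
    exact hPn.conj_mem _ ha _
  -- squares of lifts
  have hlift : ∀ (d : C ⧸ K) (b e : C ⧸ K), b * b = e → (e = 1 ∨ e = zd) →
      IsConj (ρ d) (ρ b) → d ^ 2 = e := by
    intro d b e hb he hc
    obtain ⟨g, hg⟩ := isConj_iff.1 hc
    obtain ⟨g, rfl⟩ := QuotientGroup.mk'_surjective Z g
    have h1 : ρ (g * d * g⁻¹) = ρ b := by rw [map_mul, map_mul, map_inv]; exact hg
    have h3 : (g * d * g⁻¹) * (g * d * g⁻¹) = e := by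
      rcases hρeq _ _ h1 with e' | e' <;> rw [e']
      · exact hb
      · rw [show zd * b * (zd * b) = zd * (b * zd) * b by group, ← (hzc _).eq, ← mul_assoc, hzsq,
          one_mul, hb]
    have h4 : g * e = e * g := by
      rcases he with rfl | rfl
      · rw [mul_one, one_mul]
      · exact ((hzc g).symm).eq
    calc d ^ 2 = g⁻¹ * ((g * d * g⁻¹) * (g * d * g⁻¹)) * g := by rw [pow_two]; group
      _ = e := by rw [h3, mul_assoc, ← h4, inv_mul_cancel_left]
  have hpick : ∀ d : C ⧸ K, orderOf (f (ρ d)) = 2 →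
      (f (ρ d) ∈ sqPart (ZMod q) ∧ IsConj (ρ d) (ρ (σ A))) ∨
      (f (ρ d) ∉ sqPart (ZMod q) ∧ IsConj (ρ d) (ρ (σ y0))) := by
    intro d hd
    rw [hord] at hd
    rcases hinv _ hd with hc | hc
    · exact Or.inl ⟨hmemconj _ _ hc.symm hfv, hc⟩
    · exact Or.inr ⟨fun hP => hfw (hmemconj _ _ hc hP), hc⟩
  exact
    { surj := hf.2.comp (QuotientGroup.mk'_surjective Z)
      z_ne := hzne, z_sq := hzsq, z_comm := hzc
      ker := fun d => by
        rw [MonoidHom.comp_apply, map_eq_one_iff f hf.1, hρ, QuotientGroup.mk'_apply,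
          QuotientGroup.eq_one_iff]
        exact hmemZ d
      inner := fun d hd hP => by
        rcases hpick d hd with ⟨-, hc⟩ | ⟨hn, -⟩
        · exact hlift d _ zd (by rw [← map_mul, hAA]) (Or.inr rfl) hc
        · exact absurd hP hn
      outer := fun d hd hP => by
        rcases hpick d hd with ⟨hy, -⟩ | ⟨-, hc⟩
        · exact absurd hy hP
        · exact hlift d _ 1 (by rw [← map_mul, hy00, map_one]) (Or.inl rfl) hc }

end Cfsg.Agent.SDCyclic
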