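import Cfsg.Agent.Lib.SDCyclic.Data
import Cfsg.Agent.Lib.SDCyclic.Quot
import Cfsg.Agent.Lib.SDCyclic.CoprimeKernel

/-!
# The structure of the centralizer of an involution

`exists_cent`: a quasi-dihedral Sylow 2-subgroup, no subgroup of index two and cyclic odd Sylow
subgroups give the data `Cent`.
-/

set_option autoImplicit false
set_option linter.style.haveILetI false
set_option linter.unusedSectionVars false

namespace Cfsg.Agent.SDCyclic

open scoped MatrixGroups

universe u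

variable {G : Type u} [Group G] [Finite G]

/-- Two involutions whose product has odd order are conjugate by a power of the product. -/
theorem conj_of_odd_product {a b : G} (ha : a * a = 1) (hb : b * b = 1)
    (h : Odd (orderOf (b * a))) : ∃ k : ℕ, (b * a) ^ k * a * ((b * a) ^ k)⁻¹ = b := by
  obtain ⟨r, hr⟩ := h
  refine ⟨r + 1, ?_⟩
  have hai : a⁻¹ = a := inv_eq_of_mul_eq_one_right ha
  have hinv : a * (b * a) * a⁻¹ = (b * a)⁻¹ := by
    rw [mul_inv_rev, hai, inv_eq_of_mul_eq_one_right hb, mul_assoc, mul_assoc, ha, mul_one]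
  have h2 : a * ((b * a) ^ (r + 1))⁻¹ = (b * a) ^ (r + 1) * a := by
    rw [← inv_pow, ← hinv, conj_pow]
    group
    simp [zpow_natCast, ha, hai, mul_assoc]
  rw [mul_assoc, h2, ← mul_assoc, ← pow_add, show r + 1 + (r + 1) = 2 * r + 1 + 1 by omega, pow_succ,
    ← hr, pow_orderOf_eq_one, one_mul, mul_assoc, ha, mul_one]

section Lift

variable {C : Subgroup G} (K : Subgroup C) [K.Normal]

/-- The preimage in `G` of a subgroup of `C ⧸ K`. -/
def liftSub (H : Subgroup (C ⧸ K)) : Subgroup G := (H.comap (QuotientGroup.mk' K)).map C.subtype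

theorem mem_liftSub {H : Subgroup (C ⧸ K)} (c : C) :
    (c : G) ∈ liftSub K H ↔ (QuotientGroup.mk c : C ⧸ K) ∈ H :=
  (Subgroup.mem_map_iff_mem C.subtype_injective).trans Iff.rfl

theorem mem_kernel (c : C) : (c : G) ∈ K.map C.subtype ↔ (QuotientGroup.mk c : C ⧸ K) = 1 :=
  (Subgroup.mem_map_iff_mem C.subtype_injective).trans (QuotientGroup.eq_one_iff c).symm

theorem mem_kernel_mul (a b : C) :
    (a : G) * (b : G)⁻¹ ∈ K.map C.subtype ↔
      (QuotientGroup.mk a : C ⧸ K) = QuotientGroup.mk b := by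
  rw [← Subgroup.coe_inv, ← Subgroup.coe_mul, mem_kernel, QuotientGroup.mk_mul, QuotientGroup.mk_inv,
    mul_inv_eq_one]

theorem sup_zpowers_eq_map (H : Subgroup C) (c : C) :
    H.map C.subtype ⊔ Subgroup.zpowers (c : G) = (H ⊔ Subgroup.zpowers c).map C.subtype := by
  rw [Subgroup.map_sup, MonoidHom.map_zpowers]
  rfl

theorem liftSub_zpowers (c : C) :
    K.map C.subtype ⊔ Subgroup.zpowers (c : G) =
      liftSub K (Subgroup.zpowers (QuotientGroup.mk c : C ⧸ K)) := by
  rw [sup_zpowers_eq_map, liftSub,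
    show Subgroup.zpowers (QuotientGroup.mk c : C ⧸ K) =
      (Subgroup.zpowers c).map (QuotientGroup.mk' K) from ((QuotientGroup.mk' K).map_zpowers c).symm,
    Subgroup.comap_map_eq, QuotientGroup.ker_mk', sup_comm]

theorem liftSub_zpowers_two (c e : C) :
    K.map C.subtype ⊔ Subgroup.zpowers (c : G) ⊔ Subgroup.zpowers (e : G) =
      liftSub K (Subgroup.zpowers (QuotientGroup.mk c : C ⧸ K) ⊔
        Subgroup.zpowers (QuotientGroup.mk e : C ⧸ K)) := by
  rw [sup_zpowers_eq_map, sup_zpowers_eq_map, liftSub,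
    show Subgroup.zpowers (QuotientGroup.mk c : C ⧸ K) =
      (Subgroup.zpowers c).map (QuotientGroup.mk' K) from ((QuotientGroup.mk' K).map_zpowers c).symm,
    show Subgroup.zpowers (QuotientGroup.mk e : C ⧸ K) =
      (Subgroup.zpowers e).map (QuotientGroup.mk' K) from ((QuotientGroup.mk' K).map_zpowers e).symm,
    ← Subgroup.map_sup, Subgroup.comap_map_eq, QuotientGroup.ker_mk', sup_comm _ K, sup_assoc]

theorem eq_one_of_odd_invol (hK : Odd (Nat.card K)) {c : C} (hc : c ∈ K) (h2 : c * c = 1) : c = 1 :=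
  orderOf_eq_one_iff.1 (Nat.eq_one_of_dvd_coprimes (Nat.coprime_two_right.2 hK)
    (Subgroup.orderOf_dvd_natCard K hc) (orderOf_dvd_of_pow_eq_one (by rw [pow_two, h2])))

/-- An involution of `C ⧸ K` lifts to an involution of `C`. -/
theorem exists_lift_invol (hK : Odd (Nat.card K)) {d : C ⧸ K} (hd : d * d = 1) (hd1 : d ≠ 1) :
    ∃ c : C, (QuotientGroup.mk c : C ⧸ K) = d ∧ c * c = 1 ∧ c ≠ 1 := by
  obtain ⟨c, rfl⟩ := QuotientGroup.mk'_surjective K d
  have hmem : c ^ 2 ∈ K := by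
    rw [← QuotientGroup.eq_one_iff, QuotientGroup.mk_pow, pow_two]; exact hd
  have h1 : (c ^ Nat.card K) * (c ^ Nat.card K) = 1 := by
    rw [← pow_add, ← two_mul, pow_mul]
    exact orderOf_dvd_iff_pow_eq_one.1 (Subgroup.orderOf_dvd_natCard K hmem)
  obtain ⟨r, hr⟩ := hK
  have h2 : (QuotientGroup.mk (c ^ Nat.card K) : C ⧸ K) = QuotientGroup.mk' K c := by
    rw [QuotientGroup.mk_pow, hr, pow_succ, pow_mul, pow_two]
    show ((QuotientGroup.mk' K c) * (QuotientGroup.mk' K c)) ^ r * QuotientGroup.mk' K c = _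
    rw [hd, one_pow, one_mul]
  exact ⟨c ^ Nat.card K, h2, h1, fun h => hd1 (by rw [← h2, h, QuotientGroup.mk_one])⟩

end Lift

section Main

open TwoGroups QDFusion

/-- The structure of the centralizer of an involution. -/
theorem exists_cent (S : Sylow 2 G) (hS : Cfsg.IsQuasiDihedral ↥(S : Subgroup G))
    (hno : ∀ H : Subgroup G, H.index ≠ 2)
    (hcyc : ∀ p, p.Prime → p ≠ 2 → ∀ P : Sylow p G, IsCyclic (P : Subgroup G))
    (h2 : GW.PartTwo.{u}) :
    ∃ (z : G) (q : ℕ) (η : ℤ) (l g o : ℕ), Nonempty (Cent z q η l g o) := by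
  obtain ⟨x, y, m, h⟩ := exists_qdGen hS
  set z : G := ((zz x m : ↥(S : Subgroup G)) : G) with hz
  set C := Subgroup.centralizer ({z} : Set G) with hC
  set K := Cfsg.oddCore C with hKdef
  set zC : C := ⟨z, mem_centralizer_zz h (zz x m)⟩ with hzC
  obtain ⟨q, hqf, hq2, f, hf⟩ : ∃ (q : ℕ) (_ : Fact q.Prime), q ≠ 2 ∧
      ∃ f : C ⧸ K →* PGL(2, ZMod q), Cover f (QuotientGroup.mk zC) (sqPart (ZMod q)) :=
    exists_cover h hno hcyc h2
  haveI := hqf
  obtain ⟨η, W, g, a, u', b, s, r, hη, hW4, hg, hqp, hqm, hs⟩ := exists_torusShape (q := q) hq2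
  have hqprime := hqf.out
  have hW0 : 0 < W := by rcases hη with e | e <;> subst e <;> have := hqprime.two_le <;> omega
  obtain ⟨daw, dau, dag, dt, dτ, dρ, E⟩ :=
    hf.exists_elems hs hW4 hW0 hg (hqprime.odd_of_ne_two hq2) hqprime
  obtain ⟨l, o, ho, rfl⟩ := Nat.exists_eq_two_pow_mul_odd hW0.ne'
  have hl : 2 ≤ l := by
    rcases l with _ | _ | l
    · simp at hW4; obtain ⟨r, rfl⟩ := ho; omega
    · simp at hW4; obtain ⟨r, rfl⟩ := ho; omega
    · omega
  have hK : Odd (Nat.card K) := PCore.odd_card_oddCore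
  have hmemC : ∀ v : G, Commute z v → v ∈ C := fun v hv =>
    Subgroup.mem_centralizer_singleton_iff.2 hv.eq.symm
  have hcomm : ∀ c : C, Commute z (c : G) := fun c =>
    (Subgroup.mem_centralizer_singleton_iff.1 c.2).symm
  have hz2 : z * z = 1 := by
    have := pow_orderOf_eq_one z
    rwa [hz, orderOf_zz h, pow_two] at this
  -- lifts
  obtain ⟨caw, hcaw⟩ := QuotientGroup.mk_surjective (s := K) daw
  obtain ⟨cau, hcau⟩ := QuotientGroup.mk_surjective (s := K) dau
  obtain ⟨cag, hcag⟩ := QuotientGroup.mk_surjective (s := K) dag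
  obtain ⟨cρ, hcρ⟩ := QuotientGroup.mk_surjective (s := K) dρ
  obtain ⟨ct, hct, hct2, hct1⟩ := exists_lift_invol K hK E.t_sq E.t_ne
  obtain ⟨cτ, hcτ, hcτ2, hcτ1⟩ := exists_lift_invol K hK E.τ_sq
    (fun e => E.τ_notMem (e ▸ one_mem _))
  set K' := K.map C.subtype with hK'
  have hcyc1 : ∀ c : C, cyc K' (c : G) =
      liftSub K (Subgroup.zpowers (QuotientGroup.mk c : C ⧸ K)) := liftSub_zpowers K
  have hKZ : K' ⊔ Subgroup.zpowers z =
      liftSub K (Subgroup.zpowers (QuotientGroup.mk zC : C ⧸ K)) := liftSub_zpowers K zC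
  have hcyc2 : cyc (K' ⊔ Subgroup.zpowers (ct : G)) (cag : G) =
      liftSub K (Subgroup.zpowers dt ⊔ Subgroup.zpowers dag) := by
    rw [← hct, ← hcag]; exact liftSub_zpowers_two K ct cag
  have hnorm : ∀ c : C, ∀ k ∈ K', (c : G) * k * (c : G)⁻¹ ∈ K' := by
    rintro c _ ⟨k, hk, rfl⟩
    exact ⟨c * k * c⁻¹, (inferInstance : K.Normal).conj_mem k hk c, rfl⟩
  have hpow : ∀ (c : C) (j : ℕ), (c : G) ^ j ∈ K' ↔ (QuotientGroup.mk c : C ⧸ K) ^ j = 1 := by
    intro c j
    rw [← Subgroup.coe_pow, mem_kernel, QuotientGroup.mk_pow]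
  -- translation of the conjugation conditions
  have hne : ∀ c : C, (c : G) ∉ K' ⊔ Subgroup.zpowers z →
      (QuotientGroup.mk c : C ⧸ K) ≠ 1 ∧ (QuotientGroup.mk c : C ⧸ K) ≠ QuotientGroup.mk zC := by
    intro c hc
    rw [hKZ, mem_liftSub] at hc
    exact ⟨fun e => hc (e ▸ one_mem _), fun e => hc (e ▸ Subgroup.mem_zpowers _)⟩
  have hsubC : ∀ {H : Subgroup (C ⧸ K)} {v : G}, v ∈ liftSub K H → v ∈ C := by
    rintro H _ ⟨c, -, rfl⟩; exact c.2
  have hconj : ∀ c e : C, (QuotientGroup.mk (e⁻¹ * c * e) : C ⧸ K) =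
      (QuotientGroup.mk e)⁻¹ * QuotientGroup.mk c * QuotientGroup.mk e := fun c e => by
    rw [QuotientGroup.mk_mul, QuotientGroup.mk_mul, QuotientGroup.mk_inv]
  have hzle : z ∉ K' := fun hmem => hf.z_ne ((mem_kernel K zC).1 hmem)
  have horder : ∀ c : C, c * c = 1 → c ≠ 1 → orderOf (c : G) = 2 := fun c hc hc1 =>
    orderOf_eq_prime (by rw [pow_two, ← Subgroup.coe_mul, hc, Subgroup.coe_one])
      fun e => hc1 (Subtype.ext e)
  refine ⟨z, q, η, l, g, o, ⟨
    { K := K', aw := caw, au := cau, ag := cag, t := ct, τ := cτ, ρ := cρ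
      hq := hqprime, hη := hη, hl := hl, hg := hg, ho := ho
      hqp := by rw [hqp]; push_cast; ring
      hqm := hqm
      zorder := orderOf_zz h
      conjAll := ?_
      K_le := fun k hk => ?_
      oddK := ?_
      normK := fun c hc k hk => hnorm ⟨c, hmemC c hc⟩ k hk
      card_C := ?_
      comm_w := hcomm caw, comm_u := hcomm cau, comm_g := hcomm cag, comm_t := hcomm ct
      comm_τ := hcomm cτ, comm_ρ := hcomm cρ
      cw := ⟨hnorm caw, by positivity, fun j => by rw [hpow, hcaw]; exact E.cw j⟩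
      cu := ⟨hnorm cau, by have := hqprime.pos; omega, fun j => by rw [hpow, hcau]; exact E.cu j⟩
      cg := ⟨hnorm cag, by have := hg.pos; omega, fun j => by rw [hpow, hcag]; exact E.cg j⟩
      cgt := ⟨?_, by have := hg.pos; omega, fun j => ?_⟩
      zw := ?_
      zu := ?_
      zg := ?_
      t_order := horder ct hct2 hct1
      t_notMem := ?_
      t_comm := ?_
      τ_order := horder cτ hcτ2 hcτ1
      τ_notMem := ?_
      τ_conj := ?_
      ρ_notMem := ?_
      ρ_conj := ?_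
      ρ_t := ?_
      selfW := ?_
      selfU := ?_
      kerU := ?_
      surU := ?_
      selfG := ?_
      crossWU := ?_
      crossWG := ?_
      crossUG := ?_
      coprimeK := ?_
      invU := ?_
      borel := ?_
      conjNC := ?_ }⟩⟩
  · -- conjAll
    intro s hs'
    have hzy : IsConj z ((x ^ (0 : ℤ) * y : ↥(S : Subgroup G)) : G) := by
      by_contra hne'
      obtain ⟨M, -, hM, -⟩ := exists_index_two_missing_involution h hne'
      exact hno M hM
    rcases isConj_involution h hs' with e | e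
    · exact e.symm
    · exact hzy.trans e.symm
  · obtain ⟨c, -, rfl⟩ := hk
    exact hcomm c
  · rw [hK', Subgroup.card_map_of_injective C.subtype_injective]; exact hK
  · -- card_C
    have h1 : Nat.card C = Nat.card (C ⧸ K) * Nat.card K := K.card_eq_card_quotient_mul_card_subgroup
    have h3 : Nat.card f.ker = 2 := by
      have hker : f.ker = Subgroup.zpowers (QuotientGroup.mk zC : C ⧸ K) := by
        ext d
        rw [MonoidHom.mem_ker, hf.ker]
        constructor
        · rintro (rfl | rfl)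
          exacts [one_mem _, Subgroup.mem_zpowers _]
        · rintro ⟨k, rfl⟩
          rcases Int.even_or_odd k with ⟨j, rfl⟩ | ⟨j, rfl⟩
          · left
            show (QuotientGroup.mk zC : C ⧸ K) ^ (j + j) = 1
            rw [← two_mul, _root_.zpow_mul, zpow_two, hf.z_sq, _root_.one_zpow]
          · right
            show (QuotientGroup.mk zC : C ⧸ K) ^ (2 * j + 1) = _
            rw [zpow_add_one, _root_.zpow_mul, zpow_two, hf.z_sq, _root_.one_zpow, one_mul]
      rw [hker, Nat.card_zpowers]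
      exact orderOf_eq_prime (by rw [pow_two, hf.z_sq]) hf.z_ne
    have h4 := f.ker.card_eq_card_quotient_mul_card_subgroup
    rw [h3, Nat.card_congr (QuotientGroup.quotientKerEquivOfSurjective f hf.surj).toEquiv,
      PSL2.Maximal.card_pgl_eq (odd_card hq2), PSL2.Maximal.two_mul_card_PSL' (odd_card hq2), ZMod.card] at h4
    have h5 : q ^ 2 - 1 = 2 * g * (2 ^ l * o) := by
      have e : ((q : ℤ) ^ 2 - 1) = 2 * g * ((2 ^ l * o : ℕ) : ℤ) := by
        rw [← hqm, ← hqp]
        rcases hη with e | e <;> subst e <;> ring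
      have e1 : 1 ≤ q ^ 2 := Nat.one_le_pow _ _ hqprime.pos
      exact_mod_cast (show (((q ^ 2 - 1 : ℕ)) : ℤ) = ((2 * g * (2 ^ l * o) : ℕ) : ℤ) by
        push_cast [Nat.cast_sub e1] at e ⊢; exact e)
    rw [hK', Subgroup.card_map_of_injective C.subtype_injective, h1, h4, h5]
    ring
  · -- cgt.norm
    intro v hv
    have hle : K' ⊔ Subgroup.zpowers (ct : G) = liftSub K (Subgroup.zpowers dt) := by
      rw [← hct]; exact liftSub_zpowers K ct
    rw [hle] at hv ⊢
    obtain ⟨c, hc, rfl⟩ := hv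
    show ((cag : G) * (c : G) * (cag : G)⁻¹) ∈ _
    rw [← Subgroup.coe_inv, ← Subgroup.coe_mul, ← Subgroup.coe_mul, mem_liftSub, QuotientGroup.mk_mul,
      QuotientGroup.mk_mul, QuotientGroup.mk_inv, hcag]
    obtain ⟨k, hk⟩ := hc
    refine ⟨k, ?_⟩
    show dt ^ k = dag * (QuotientGroup.mk c : C ⧸ K) * dag⁻¹
    rw [show (QuotientGroup.mk c : C ⧸ K) = dt ^ k from hk.symm]
    have htc : Commute dt dag := mul_inv_eq_iff_eq_mul.1 E.t_comm
    rw [← (htc.zpow_left k).eq, mul_inv_cancel_right]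
  · -- cgt.mem_iff
    have hle : K' ⊔ Subgroup.zpowers (ct : G) = liftSub K (Subgroup.zpowers dt) := by
      rw [← hct]; exact liftSub_zpowers K ct
    rw [hle, ← Subgroup.coe_pow, mem_liftSub, QuotientGroup.mk_pow, hcag]
    exact E.cgt j
  · show ((caw ^ (2 ^ l * o) * zC : C) : G) ∈ K'
    rw [mem_kernel, QuotientGroup.mk_mul, QuotientGroup.mk_pow, hcaw, E.zw, hf.z_sq]
  · show ((cau ^ q * zC : C) : G) ∈ K'
    rw [mem_kernel, QuotientGroup.mk_mul, QuotientGroup.mk_pow, hcau, E.zu, hf.z_sq]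
  · show ((cag ^ g * zC : C) : G) ∈ K'
    rw [mem_kernel, QuotientGroup.mk_mul, QuotientGroup.mk_pow, hcag, E.zg, hf.z_sq]
  · rw [hcyc1, mem_liftSub, hct, hcag]; exact E.t_notMem
  · show ((ct * cag * ct⁻¹ : C) : G) * (cag : G)⁻¹ ∈ K'
    rw [mem_kernel_mul, QuotientGroup.mk_mul, QuotientGroup.mk_mul, QuotientGroup.mk_inv, hct, hcag]
    exact E.t_comm
  · rw [hcyc1, mem_liftSub, hcτ, hcaw]; exact E.τ_notMem
  · show ((cτ * caw * cτ⁻¹ : C) : G) * ((caw ^ (2 ^ l * o - 1) : C) : G)⁻¹ ∈ K'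
    rw [mem_kernel_mul, QuotientGroup.mk_mul, QuotientGroup.mk_mul, QuotientGroup.mk_inv,
      QuotientGroup.mk_pow, hcτ, hcaw]
    exact E.τ_conj
  · rw [hcyc2, mem_liftSub, hcρ]; exact E.ρ_notMem
  · show ((cρ * cag * cρ⁻¹ * cag : C) : G) ∈ K'
    rw [mem_kernel, QuotientGroup.mk_mul, QuotientGroup.mk_mul, QuotientGroup.mk_mul,
      QuotientGroup.mk_inv, hcρ, hcag, E.ρ_conj, inv_mul_cancel]
  · show ((cρ * ct * cρ⁻¹ * (zC * ct) : C) : G) ∈ K'
    rw [mem_kernel, QuotientGroup.mk_mul, QuotientGroup.mk_mul, QuotientGroup.mk_mul,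
      QuotientGroup.mk_inv, QuotientGroup.mk_mul, hcρ, hct, E.ρ_t]
    calc (QuotientGroup.mk zC : C ⧸ K) * dt * (QuotientGroup.mk zC * dt)
        = QuotientGroup.mk zC * (dt * QuotientGroup.mk zC) * dt := by group
      _ = 1 := by rw [← (hf.z_comm dt).eq, ← mul_assoc, hf.z_sq, one_mul, E.t_sq]
  · -- selfW
    intro v hv hvne e he hm
    rw [hcyc1, hcaw] at hv hm ⊢
    lift v to C using hsubC hv with v
    lift e to C using hmemC e he with e
    obtain ⟨h1, h2⟩ := hne v hvne
    rw [← Subgroup.coe_inv, ← Subgroup.coe_mul, ← Subgroup.coe_mul, mem_liftSub, hconj] at hm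
    rw [mem_liftSub] at hv
    rw [← Subgroup.coe_mul, mem_liftSub, mem_liftSub, QuotientGroup.mk_mul, hcτ]
    exact E.selfW _ hv h1 h2 _ hm
  · -- selfU
    intro v hv hvne e he hm
    rw [hcyc1, hcau] at hv hm ⊢
    lift v to C using hsubC hv with v
    lift e to C using hmemC e he with e
    obtain ⟨h1, h2⟩ := hne v hvne
    rw [← Subgroup.coe_inv, ← Subgroup.coe_mul, ← Subgroup.coe_mul, mem_liftSub, hconj] at hm ⊢
    rw [mem_liftSub] at hv
    rw [hcau]
    exact E.selfU _ hv h1 h2 _ hm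
  · -- kerU
    intro e he hm
    lift e to C using hmemC e he with e
    rw [← Subgroup.coe_inv, ← Subgroup.coe_mul, ← Subgroup.coe_mul, mem_kernel_mul, hconj, hcau] at hm
    rw [hcyc1, mem_liftSub, hcau]
    exact E.kerU _ hm
  · -- surU
    intro j hj hjq
    obtain ⟨d, hd⟩ := E.surU j hj hjq
    obtain ⟨e, rfl⟩ := QuotientGroup.mk_surjective (s := K) d
    refine ⟨e, hcomm e, ?_⟩
    rw [← Subgroup.coe_inv, ← Subgroup.coe_mul, ← Subgroup.coe_mul, ← Subgroup.coe_pow, mem_kernel_mul,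
      hconj, QuotientGroup.mk_pow, hcau]
    exact hd
  · -- selfG
    intro v hv hvne e he hm
    rw [hcyc2] at hv hm ⊢
    lift v to C using hsubC hv with v
    lift e to C using hmemC e he with e
    obtain ⟨h1, h2⟩ := hne v hvne
    rw [← Subgroup.coe_inv, ← Subgroup.coe_mul, ← Subgroup.coe_mul, mem_liftSub, hconj] at hm
    rw [mem_liftSub] at hv
    rw [← Subgroup.coe_mul, mem_liftSub, mem_liftSub, QuotientGroup.mk_mul, hcρ]
    exact E.selfG _ hv h1 h2 _ hm
  · -- crossWU
    intro v hv hvne e he hm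
    rw [hcyc1, hcaw] at hv
    rw [hcyc1, hcau] at hm
    lift v to C using hsubC hv with v
    lift e to C using hmemC e he with e
    obtain ⟨h1, h2⟩ := hne v hvne
    rw [← Subgroup.coe_inv, ← Subgroup.coe_mul, ← Subgroup.coe_mul, mem_liftSub, hconj] at hm
    rw [mem_liftSub] at hv
    exact E.crossWU _ hv h1 h2 _ hm
  · -- crossWG
    intro v hv hvne e he hm
    rw [hcyc1, hcaw] at hv
    rw [hcyc2] at hm
    lift v to C using hsubC hv with v
    lift e to C using hmemC e he with e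
    obtain ⟨h1, h2⟩ := hne v hvne
    rw [← Subgroup.coe_inv, ← Subgroup.coe_mul, ← Subgroup.coe_mul, mem_liftSub, hconj] at hm
    rw [mem_liftSub] at hv
    exact E.crossWG _ hv h1 h2 _ hm
  · -- crossUG
    intro v hv hvne e he hm
    rw [hcyc1, hcau] at hv
    rw [hcyc2] at hm
    lift v to C using hsubC hv with v
    lift e to C using hmemC e he with e
    obtain ⟨h1, h2⟩ := hne v hvne
    rw [← Subgroup.coe_inv, ← Subgroup.coe_mul, ← Subgroup.coe_mul, mem_liftSub, hconj] at hm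
    rw [mem_liftSub] at hv
    exact E.crossUG _ hv h1 h2 _ hm
  · -- coprimeK
    intro hq5
    have hdvd : q * (2 ^ l * o) * g ∣ Nat.card PGL(2, ZMod q) := by
      have e : ((q : ℤ) ^ 2 - 1) = 2 * g * ((2 ^ l * o : ℕ) : ℤ) := by
        rw [← hqm, ← hqp]
        rcases hη with e | e <;> subst e <;> ring
      rw [PSL2.Maximal.card_pgl_eq (odd_card hq2), PSL2.Maximal.two_mul_card_PSL' (odd_card hq2), ZMod.card,
        mul_assoc]
      refine mul_dvd_mul_left q ⟨2, ?_⟩
      have e1 : 1 ≤ q ^ 2 := Nat.one_le_pow _ _ hqprime.pos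
      zify [e1]
      push_cast at e ⊢
      linear_combination e
    rw [hK', Subgroup.card_map_of_injective C.subtype_injective]
    refine Nat.Coprime.coprime_dvd_right hdvd ?_
    exact coprime_kernel (isCyclic_of_pgroup_image hcyc (MonoidHom.id C) Function.surjective_id) K hK
      hq5 (f.comp (QuotientGroup.mk' K)) (hf.surj.comp (QuotientGroup.mk'_surjective K))
  · -- invU
    intro hη1
    obtain ⟨d, hd2, hd1, -, hdu⟩ := E.invU hη1
    obtain ⟨e, rfl, he2, he1⟩ := exists_lift_invol K hK hd2 hd1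
    refine ⟨e, horder e he2 he1, hcomm e, ?_⟩
    rw [← Subgroup.coe_inv, ← Subgroup.coe_mul, ← Subgroup.coe_mul, ← Subgroup.coe_pow, mem_kernel_mul,
      hconj, QuotientGroup.mk_pow, hcau]
    exact hdu
  · -- borel
    intro hη1
    show ((caw * cau * caw⁻¹ : C) : G) ∈ cyc K' (cau : G)
    rw [hcyc1, mem_liftSub, QuotientGroup.mk_mul, QuotientGroup.mk_mul, QuotientGroup.mk_inv, hcaw,
      hcau]
    exact E.borel hη1
  · -- conjNC
    intro v hv hvz hne'
    lift v to C using hmemC v hvz with v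
    have hv2 : v * v = 1 := by
      apply Subtype.ext
      have := pow_orderOf_eq_one (v : G)
      rwa [hv, pow_two] at this
    have hv1 : v ≠ 1 := fun e => by rw [e, Subgroup.coe_one, orderOf_one] at hv; omega
    have hd2 : (QuotientGroup.mk v : C ⧸ K) * QuotientGroup.mk v = 1 := by
      rw [← QuotientGroup.mk_mul, hv2, QuotientGroup.mk_one]
    have hd1 : (QuotientGroup.mk v : C ⧸ K) ≠ 1 := fun e =>
      hv1 (eq_one_of_odd_invol K hK ((QuotientGroup.eq_one_iff v).1 e) hv2)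
    have hdz : (QuotientGroup.mk v : C ⧸ K) ≠ QuotientGroup.mk zC := fun e => by
      apply hne'
      have hzz' : zC * zC = 1 := Subtype.ext hz2
      have hcz : v * zC = zC * v := Subtype.ext (hcomm v).eq.symm
      have h1 : v * zC = 1 := by
        refine eq_one_of_odd_invol K hK ?_ ?_
        · rw [← QuotientGroup.eq_one_iff, QuotientGroup.mk_mul, e]; exact hf.z_sq
        · rw [show v * zC * (v * zC) = v * (zC * v) * zC by group, ← hcz, ← mul_assoc, hv2, one_mul,
            hzz']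
      have h2' : v = zC := by
        rw [eq_inv_of_mul_eq_one_left h1, inv_eq_of_mul_eq_one_right hzz']
      exact congrArg Subtype.val h2'
    obtain ⟨d, hd⟩ := E.invol _ hd2 hd1 hdz
    obtain ⟨e, rfl⟩ := QuotientGroup.mk_surjective (s := K) d
    set w := e * cτ * e⁻¹ with hw
    have hww : w * w = 1 := by
      rw [hw, show e * cτ * e⁻¹ * (e * cτ * e⁻¹) = e * (cτ * cτ) * e⁻¹ by group, hcτ2, mul_one,
        mul_inv_cancel]
    have hmk : (QuotientGroup.mk w : C ⧸ K) = QuotientGroup.mk v := by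
      rw [hw, QuotientGroup.mk_mul, QuotientGroup.mk_mul, QuotientGroup.mk_inv, hcτ, hd]
    have hodd : Odd (orderOf (v * w)) := by
      refine Odd.of_dvd_nat hK (Subgroup.orderOf_dvd_natCard K ?_)
      rw [← QuotientGroup.eq_one_iff, QuotientGroup.mk_mul, hmk, hd2]
    obtain ⟨k, hk⟩ := conj_of_odd_product hww hv2 hodd
    refine ⟨((v * w) ^ k * e : C), hcomm _, ?_⟩
    rw [← Subgroup.coe_inv, ← Subgroup.coe_mul, ← Subgroup.coe_mul]
    refine congrArg Subtype.val ?_
    calc (v * w) ^ k * e * cτ * ((v * w) ^ k * e)⁻¹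
        = (v * w) ^ k * (e * cτ * e⁻¹) * ((v * w) ^ k)⁻¹ := by group
      _ = v := hk

end Main

end Cfsg.Agent.SDCyclic
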