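import Cfsg.Agent.Lib.SDCyclic.Exclusion
import Cfsg.Agent.Lib.SDCyclic.Local
import Cfsg.Agent.Lib.SDCyclic.Structure
import Cfsg.Agent.Lib.SDCyclic.Almost
import Cfsg.Agent.Lib.GW.PartII.PartTwoFinal

/-!
# The exclusion of semidihedral Sylow 2-subgroups with cyclic odd Sylow subgroups

`sdExcluded` : a finite group with quasi-dihedral Sylow 2-subgroups and cyclic Sylow subgroups of odd order has a
subgroup of index two.
-/

set_option autoImplicit false

namespace Cfsg.Agent.SDCyclic

universe u

/-- Quasi-dihedral Sylow 2-subgroups with cyclic odd Sylow subgroups force a subgroup of index two. -/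
theorem sdExcluded : SDExcluded.{u} := by
  intro X _ _ S hS hno hc
  obtain ⟨z, q, η, l, g, o, ⟨d⟩⟩ := exists_cent S hS hno hc GW.partTwo
  exact d.false_of_localFacts (d.localFacts hc)

end Cfsg.Agent.SDCyclic
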