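import Mathlib.LinearAlgebra.Matrix.GeneralLinearGroup.Projective
import Mathlib.LinearAlgebra.Matrix.ToLin
import Mathlib.FieldTheory.Finite.Basic
import Cfsg.Agent.Lib.PSL2.MaximalPGL
import Cfsg.Agent.Lib.PSL2.PGLHom

/-!
# The tori of `PGL₂`

`pg M` is the class of an invertible `2 × 2` matrix, `sqPart` the image of `PSL₂`.  For a traceless
invertible `B` the classes of the matrices commuting with `B` form a torus; a generator of a torus
is inverted by an involution outside the image of `PSL₂`, and the torus is a TI subgroup whose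
normalizer is generated by it and this involution.
-/

set_option autoImplicit false
set_option linter.unusedSectionVars false

namespace Cfsg.Agent.SDCyclic

open Matrix
open scoped MatrixGroups

variable {F : Type*} [Field F]

/-- The class of an invertible matrix in `PGL₂`. -/
noncomputable def pg (M : Matrix (Fin 2) (Fin 2) F) : PGL(2, F) :=
  haveI := Classical.propDecidable (M.det ≠ 0)
  if h : M.det ≠ 0 then
    Matrix.ProjGenLinGroup.mk (Matrix.GeneralLinearGroup.mkOfDetNeZero M h) else 1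

theorem pg_of_ne {M : Matrix (Fin 2) (Fin 2) F} (h : M.det ≠ 0) :
    pg M = Matrix.ProjGenLinGroup.mk (Matrix.GeneralLinearGroup.mkOfDetNeZero M h) := by
  rw [pg, dif_pos h]

theorem pg_coe (A : GL (Fin 2) F) : pg (A : Matrix (Fin 2) (Fin 2) F) = Matrix.ProjGenLinGroup.mk A := by
  have h : (A : Matrix (Fin 2) (Fin 2) F).det ≠ 0 := A.det_ne_zero
  rw [pg_of_ne h]
  exact congrArg _ (Units.ext rfl)

theorem exists_pg (x : PGL(2, F)) : ∃ M : Matrix (Fin 2) (Fin 2) F, M.det ≠ 0 ∧ x = pg M := by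
  induction x using Matrix.ProjGenLinGroup.induction_on with | mk A => ?_
  exact ⟨A, A.det_ne_zero, (pg_coe A).symm⟩

theorem pg_mul {M N : Matrix (Fin 2) (Fin 2) F} (hM : M.det ≠ 0) (hN : N.det ≠ 0) :
    pg (M * N) = pg M * pg N := by
  have h : (M * N).det ≠ 0 := by rw [det_mul]; exact mul_ne_zero hM hN
  rw [pg_of_ne h, pg_of_ne hM, pg_of_ne hN, ← map_mul]
  exact congrArg _ (Units.ext rfl)

theorem pg_one : pg (1 : Matrix (Fin 2) (Fin 2) F) = 1 := by
  rw [← Units.val_one (α := Matrix (Fin 2) (Fin 2) F), pg_coe, map_one]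

theorem det_pow_ne {M : Matrix (Fin 2) (Fin 2) F} (hM : M.det ≠ 0) (n : ℕ) : (M ^ n).det ≠ 0 := by
  rw [det_pow]; exact pow_ne_zero n hM

theorem pg_pow {M : Matrix (Fin 2) (Fin 2) F} (hM : M.det ≠ 0) (n : ℕ) : pg (M ^ n) = pg M ^ n := by
  induction n with
  | zero => rw [pow_zero, pow_zero, pg_one]
  | succ n ih => rw [pow_succ, pow_succ, pg_mul (det_pow_ne hM n) hM, ih]

theorem det_smul_ne {M : Matrix (Fin 2) (Fin 2) F} {c : F} (hc : c ≠ 0) (hM : M.det ≠ 0) :
    (c • M).det ≠ 0 := by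
  rw [det_smul]; exact mul_ne_zero (pow_ne_zero _ hc) hM

theorem pg_smul {M : Matrix (Fin 2) (Fin 2) F} {c : F} (hc : c ≠ 0) (hM : M.det ≠ 0) :
    pg (c • M) = pg M := by
  rw [pg_of_ne (det_smul_ne hc hM), pg_of_ne hM, Matrix.ProjGenLinGroup.mk_eq_mk_iff]
  refine ⟨(Units.mk0 c hc)⁻¹, Units.ext ?_⟩
  rw [Units.val_mul, Matrix.GeneralLinearGroup.coe_scalar, Units.val_inv_eq_inv_val, Units.val_mk0,
    Matrix.scalar_apply, ← smul_one_eq_diagonal, mul_smul_comm, mul_one]
  show c⁻¹ • (c • M) = M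
  rw [smul_smul, inv_mul_cancel₀ hc, one_smul]

theorem pg_eq_pg_iff {M N : Matrix (Fin 2) (Fin 2) F} (hM : M.det ≠ 0) (hN : N.det ≠ 0) :
    pg M = pg N ↔ ∃ c : F, c ≠ 0 ∧ N = c • M := by
  refine ⟨fun h => ?_, fun ⟨c, hc, e⟩ => by rw [e, pg_smul hc hM]⟩
  rw [pg_of_ne hM, pg_of_ne hN, Matrix.ProjGenLinGroup.mk_eq_mk_iff] at h
  obtain ⟨u, hu⟩ := h
  refine ⟨u, u.ne_zero, ?_⟩
  have h' := congrArg (fun A : GL (Fin 2) F => (A : Matrix (Fin 2) (Fin 2) F)) hu
  refine h'.symm.trans ?_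
  simp only [Units.val_mul, Matrix.GeneralLinearGroup.coe_scalar, Matrix.scalar_apply,
    ← smul_one_eq_diagonal, mul_smul_comm, mul_one]
  rfl

theorem pg_eq_one_iff {M : Matrix (Fin 2) (Fin 2) F} (hM : M.det ≠ 0) :
    pg M = 1 ↔ ∃ c : F, M = c • (1 : Matrix (Fin 2) (Fin 2) F) := by
  rw [← pg_one, eq_comm, pg_eq_pg_iff (by rw [det_one]; exact one_ne_zero) hM]
  refine ⟨fun ⟨c, _, e⟩ => ⟨c, e⟩, fun ⟨c, e⟩ => ⟨c, fun h => hM ?_, e⟩⟩
  rw [e, h, zero_smul, det_zero]

variable (F) in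
/-- The image of `PSL₂` in `PGL₂`. -/
abbrev sqPart : Subgroup PGL(2, F) := (PSL2.Maximal.psi (F := F)).range

theorem pg_mem_sqPart_iff {M : Matrix (Fin 2) (Fin 2) F} (hM : M.det ≠ 0) :
    pg M ∈ sqPart F ↔ IsSquare M.det := by
  rw [sqPart, PSL2.Maximal.range_psi]
  constructor
  · rintro ⟨A, hA⟩
    rw [MonoidHom.comp_apply, ← pg_coe, pg_eq_pg_iff (Units.ne_zero
      (Matrix.GeneralLinearGroup.det (Matrix.SpecialLinearGroup.toGL A))) hM] at hA
    obtain ⟨c, -, rfl⟩ := hA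
    refine ⟨c, ?_⟩
    rw [det_smul, Fintype.card_fin,
      show (Matrix.SpecialLinearGroup.toGL A : Matrix (Fin 2) (Fin 2) F).det = 1 from A.2]
    ring
  · rintro ⟨c, hc⟩
    have hc0 : c ≠ 0 := fun h => hM (by rw [hc, h, mul_zero])
    have hd : (c⁻¹ • M).det = 1 := by
      rw [det_smul, Fintype.card_fin, hc]; field_simp
    refine ⟨⟨c⁻¹ • M, hd⟩, ?_⟩
    show Matrix.ProjGenLinGroup.mk (Matrix.SpecialLinearGroup.toGL ⟨c⁻¹ • M, hd⟩) = pg M
    rw [← pg_coe]
    exact pg_smul (inv_ne_zero hc0) hM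

/-! ### Traceless matrices -/

theorem traceless_anticomm {M N : Matrix (Fin 2) (Fin 2) F} (hM : M.trace = 0) (hN : N.trace = 0) :
    M * N + N * M = (M * N).trace • (1 : Matrix (Fin 2) (Fin 2) F) := by
  rw [trace_fin_two] at hM hN
  have e1 : M 1 1 = -M 0 0 := by linear_combination hM
  have e2 : N 1 1 = -N 0 0 := by linear_combination hN
  ext i j
  fin_cases i <;> fin_cases j <;>
    simp [Matrix.mul_apply, Fin.sum_univ_two, trace_fin_two, e1, e2] <;> ring

theorem traceless_sq {M : Matrix (Fin 2) (Fin 2) F} (hM : M.trace = 0) :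
    M * M = (-M.det) • (1 : Matrix (Fin 2) (Fin 2) F) := by
  rw [trace_fin_two] at hM
  have e1 : M 1 1 = -M 0 0 := by linear_combination hM
  ext i j
  fin_cases i <;> fin_cases j <;>
    simp [Matrix.mul_apply, Fin.sum_univ_two, det_fin_two, e1] <;> ring

variable {B : Matrix (Fin 2) (Fin 2) F}

theorem eq_zero_of_traceless (hB : B.trace = 0) (hBd : B.det ≠ 0) (h2 : (2 : F) ≠ 0)
    {M : Matrix (Fin 2) (Fin 2) F} (hM : M.trace = 0) (hc : M * B = B * M)
    (ht : (M * B).trace = 0) : M = 0 := by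
  have h1 := traceless_anticomm hM hB
  rw [ht, zero_smul, ← hc, ← two_smul F] at h1
  have h3 : M * B = 0 := (smul_eq_zero.1 h1).resolve_left h2
  have h4 : (M * B) * B = 0 := by rw [h3, zero_mul]
  rw [Matrix.mul_assoc, traceless_sq hB, mul_smul_comm, mul_one, smul_eq_zero] at h4
  exact h4.resolve_left (neg_ne_zero.2 hBd)

/-- The commutant of a traceless invertible matrix. -/
theorem exists_coeff (hB : B.trace = 0) (hBd : B.det ≠ 0) (h2 : (2 : F) ≠ 0)
    {M : Matrix (Fin 2) (Fin 2) F} (hc : M * B = B * M) :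
    ∃ α β : F, M = α • (1 : Matrix (Fin 2) (Fin 2) F) + β • B := by
  refine ⟨M.trace / 2, (M * B).trace / (-2 * B.det), sub_eq_zero.1 ?_⟩
  refine eq_zero_of_traceless hB hBd h2 ?_ ?_ ?_
  · rw [trace_sub, trace_add, trace_smul, trace_smul, hB, trace_one, Fintype.card_fin]
    simp only [smul_eq_mul, mul_zero, add_zero]
    field_simp
    push_cast
    ring
  · simp only [sub_mul, add_mul, mul_sub, mul_add, smul_mul_assoc, mul_smul_comm, one_mul, mul_one, hc]
  · rw [sub_mul, trace_sub, add_mul, trace_add, smul_mul_assoc, smul_mul_assoc, one_mul, trace_smul,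
      trace_smul, hB, traceless_sq hB, trace_smul, trace_one, Fintype.card_fin]
    simp only [smul_eq_mul, mul_zero, zero_add]
    field_simp
    push_cast
    ring

variable (B) in
/-- The classes of the invertible matrices commuting with `B`. -/
def tor : Subgroup PGL(2, F) where
  carrier := {x | ∃ M : Matrix (Fin 2) (Fin 2) F, M.det ≠ 0 ∧ M * B = B * M ∧ x = pg M}
  one_mem' := ⟨1, by rw [det_one]; exact one_ne_zero, by rw [one_mul, mul_one], pg_one.symm⟩
  mul_mem' := by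
    rintro _ _ ⟨M, hM, hMB, rfl⟩ ⟨N, hN, hNB, rfl⟩
    refine ⟨M * N, by rw [det_mul]; exact mul_ne_zero hM hN, ?_, (pg_mul hM hN).symm⟩
    rw [Matrix.mul_assoc, hNB, ← Matrix.mul_assoc, hMB, Matrix.mul_assoc]
  inv_mem' := by
    rintro _ ⟨M, hM, hMB, rfl⟩
    have h1 : M * M.adjugate = M.det • 1 := mul_adjugate M
    have h2 : M.adjugate * M = M.det • 1 := adjugate_mul M
    have hd : (M.adjugate).det ≠ 0 := by
      rw [det_adjugate]; exact pow_ne_zero _ hM
    refine ⟨M.adjugate, hd, ?_, ?_⟩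
    · have h3 : M.adjugate * (M * B) * M.adjugate = M.adjugate * (B * M) * M.adjugate := by rw [hMB]
      have e1 : M.adjugate * (M * B) * M.adjugate = M.det • (B * M.adjugate) := by
        rw [← Matrix.mul_assoc, h2, smul_mul_assoc, one_mul, smul_mul_assoc]
      have e2 : M.adjugate * (B * M) * M.adjugate = M.det • (M.adjugate * B) := by
        rw [Matrix.mul_assoc, Matrix.mul_assoc, h1, mul_smul_comm, mul_one, mul_smul_comm]
      rw [e1, e2] at h3
      exact (smul_right_injective _ hM h3).symm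
    · refine inv_eq_of_mul_eq_one_right ?_
      rw [← pg_mul hM hd, pg_eq_one_iff (by rw [det_mul]; exact mul_ne_zero hM hd)]
      exact ⟨M.det, h1⟩

/-- An element carrying a nontrivial torus element into the torus normalizes it. -/
theorem tor_self (hB : B.trace = 0) (hBd : B.det ≠ 0) (h2 : (2 : F) ≠ 0)
    {J : Matrix (Fin 2) (Fin 2) F} (hJd : J.det ≠ 0) (hJ : J * B = -(B * J))
    {e x : PGL(2, F)} (he : e ∈ tor B) (he1 : e ≠ 1) (hx : x⁻¹ * e * x ∈ tor B) :
    x ∈ tor B ∨ x * pg J ∈ tor B := by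
  obtain ⟨E, hE, hEB, rfl⟩ := he
  obtain ⟨X, hX, rfl⟩ := exists_pg x
  obtain ⟨E', hE', hE'B, hEE'⟩ := hx
  have h1 : pg (E * X) = pg (X * E') := by
    rw [pg_mul hE hX, pg_mul hX hE', ← hEE']; group
  rw [pg_eq_pg_iff (by rw [det_mul]; exact mul_ne_zero hE hX)
    (by rw [det_mul]; exact mul_ne_zero hX hE')] at h1
  obtain ⟨c, hc, hcx⟩ := h1
  obtain ⟨α, β, rfl⟩ := exists_coeff hB hBd h2 hEB
  obtain ⟨α', β', rfl⟩ := exists_coeff hB hBd h2 hE'B
  have hβ : β ≠ 0 := fun h => he1 ((pg_eq_one_iff hE).2 ⟨α, by rw [h, zero_smul, add_zero]⟩)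
  -- `B X = γ X + δ X B`
  obtain ⟨γ, δ, hBX⟩ : ∃ γ δ : F, B * X = γ • X + δ • (X * B) := by
    refine ⟨(c * β)⁻¹ * (α' - c * α), (c * β)⁻¹ * β', ?_⟩
    have e1 : (c * β) • (B * X) = (α' - c * α) • X + β' • (X * B) := by
      simp only [add_mul, mul_add, smul_add, smul_mul_assoc, mul_smul_comm, one_mul, mul_one,
        smul_smul] at hcx
      linear_combination (norm := module) -(1 : F) • hcx
    calc B * X = (c * β)⁻¹ • ((c * β) • (B * X)) := by
          rw [smul_smul, inv_mul_cancel₀ (mul_ne_zero hc hβ), one_smul]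
      _ = _ := by rw [e1, smul_add, smul_smul, smul_smul]
  have hadj : X.adjugate * X = X.det • 1 := adjugate_mul X
  have key : X.adjugate * (B * X) = X.det • (γ • (1 : Matrix (Fin 2) (Fin 2) F) + δ • B) := by
    rw [hBX, mul_add, mul_smul_comm, mul_smul_comm, hadj, ← Matrix.mul_assoc, hadj, smul_mul_assoc,
      one_mul, smul_add, smul_comm γ X.det, smul_comm δ X.det]
  have hγ : γ = 0 := by
    have h3 := congrArg Matrix.trace key
    rw [← Matrix.mul_assoc, trace_mul_comm, ← Matrix.mul_assoc, mul_adjugate, smul_mul_assoc, one_mul,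
      trace_smul, trace_smul, trace_add, trace_smul, trace_smul, hB, trace_one, Fintype.card_fin] at h3
    simp only [smul_eq_mul, mul_zero, add_zero] at h3
    rcases mul_eq_zero.1 h3.symm with h4 | h4
    · exact absurd h4 hX
    · push_cast at h4
      exact (mul_eq_zero.1 h4).resolve_right h2
  rw [hγ, zero_smul, zero_add] at hBX
  have hδ : δ = 1 ∨ δ = -1 := by
    have h3 := congrArg Matrix.det hBX
    rw [det_mul, det_smul, det_mul, Fintype.card_fin] at h3
    have h4 : δ ^ 2 = 1 :=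
      mul_right_cancel₀ (mul_ne_zero hX hBd) (by rw [one_mul]; linear_combination -h3)
    exact sq_eq_one_iff.1 h4
  rcases hδ with rfl | rfl
  · refine Or.inl ⟨X, hX, ?_, rfl⟩
    rw [hBX, one_smul]
  · refine Or.inr ⟨X * J, by rw [det_mul]; exact mul_ne_zero hX hJd, ?_, (pg_mul hX hJd).symm⟩
    rw [Matrix.mul_assoc, hJ, ← Matrix.mul_assoc B, hBX, neg_smul, one_smul, mul_neg, neg_mul,
      Matrix.mul_assoc]

theorem anticomm_data (hB : B.trace = 0) :
    ∃ J : Matrix (Fin 2) (Fin 2) F, J.trace = 0 ∧ J * B = -(B * J) ∧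
      (B.det ≠ 0 → (2 : F) ≠ 0 → J.det ≠ 0) := by
  rw [trace_fin_two] at hB
  have e1 : B 1 1 = -B 0 0 := by linear_combination hB
  rcases eq_or_ne (B 1 0) 0 with hs | hs
  · rcases eq_or_ne (B 0 1) 0 with hr | hr
    · refine ⟨!![0, 1; 1, 0], by simp [trace_fin_two], ?_, fun _ _ => by simp [det_fin_two]⟩
      ext i j
      fin_cases i <;> fin_cases j <;>
        simp [Matrix.mul_apply, Fin.sum_univ_two, hs, hr, e1] <;> ring
    · refine ⟨!![B 0 1, 0; -2 * B 0 0, -B 0 1], by simp [trace_fin_two], ?_,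
        fun _ _ => by simp [det_fin_two, hr]⟩
      ext i j
      fin_cases i <;> fin_cases j <;>
        simp [Matrix.mul_apply, Fin.sum_univ_two, hs, e1] <;> ring
  · refine ⟨!![B 1 0, -2 * B 0 0; 0, -B 1 0], by simp [trace_fin_two], ?_, fun _ _ => ?_⟩
    · ext i j
      fin_cases i <;> fin_cases j <;>
        simp [Matrix.mul_apply, Fin.sum_univ_two, e1] <;> ring
    · simp [det_fin_two, hs]

theorem pg_invol {M : Matrix (Fin 2) (Fin 2) F} (hM : M.trace = 0) (hd : M.det ≠ 0)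
    (h2 : (2 : F) ≠ 0) : orderOf (pg M) = 2 := by
  refine orderOf_eq_prime ?_ fun h => ?_
  · rw [pow_two, ← pg_mul hd hd, pg_eq_one_iff (by rw [det_mul]; exact mul_ne_zero hd hd)]
    exact ⟨_, traceless_sq hM⟩
  · obtain ⟨c, hc⟩ := (pg_eq_one_iff hd).1 h
    have h3 := congrArg Matrix.trace hc
    rw [hM, trace_smul, trace_one, Fintype.card_fin, smul_eq_mul] at h3
    push_cast at h3
    have hc0 : c = 0 := (mul_eq_zero.1 h3.symm).resolve_right h2
    exact hd (by rw [hc, hc0, zero_smul, det_zero])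

variable [Fintype F]

/-- The involution outside the image of `PSL₂` inverting a torus. -/
theorem exists_inverter (hodd : Odd (Fintype.card F)) (hB : B.trace = 0) (hBd : B.det ≠ 0)
    (h2 : (2 : F) ≠ 0) {a : PGL(2, F)} (hT : tor B = Subgroup.zpowers a) (ha : a ∉ sqPart F) :
    ∃ s : PGL(2, F), orderOf s = 2 ∧ s ∉ sqPart F ∧ s * a * s⁻¹ = a⁻¹ ∧ s ∉ Subgroup.zpowers a ∧
      ∀ e ∈ Subgroup.zpowers a, e ≠ 1 → ∀ x, x⁻¹ * e * x ∈ Subgroup.zpowers a →
        x ∈ Subgroup.zpowers a ∨ x * s ∈ Subgroup.zpowers a := by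
  obtain ⟨J, hJt, hJ, hJd'⟩ := anticomm_data hB
  have hJd := hJd' hBd h2
  obtain ⟨M, hM, hMB, haM⟩ : a ∈ tor B := hT ▸ Subgroup.mem_zpowers a
  obtain ⟨α, β, hMαβ⟩ := exists_coeff hB hBd h2 hMB
  set j := pg J with hj
  have hjo : orderOf j = 2 := pg_invol hJt hJd h2
  have hjj : j * j = 1 := by
    have := pow_orderOf_eq_one j; rwa [hjo, pow_two] at this
  have hjinv : j⁻¹ = j := inv_eq_of_mul_eq_one_right hjj
  have hja : j * a * j⁻¹ = a⁻¹ := by
    rw [hjinv]
    refine eq_inv_of_mul_eq_one_left ?_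
    rw [haM, hj, ← pg_mul hJd hM, ← pg_mul (by rw [det_mul]; exact mul_ne_zero hJd hM) hJd,
      ← pg_mul (by simp only [det_mul]; exact mul_ne_zero (mul_ne_zero hJd hM) hJd) hM,
      pg_eq_one_iff (by simp only [det_mul]; exact mul_ne_zero (mul_ne_zero (mul_ne_zero hJd hM) hJd) hM)]
    refine ⟨-J.det * (α * α + β * β * B.det), ?_⟩
    have e1 : J * M * J = (-J.det) • (α • (1 : Matrix (Fin 2) (Fin 2) F) - β • B) := by
      rw [hMαβ, mul_add, mul_smul_comm, mul_smul_comm, mul_one, hJ, add_mul, smul_mul_assoc,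
        smul_mul_assoc, neg_mul, Matrix.mul_assoc B, traceless_sq hJt, mul_smul_comm, mul_one]
      module
    rw [e1, hMαβ, smul_mul_assoc, sub_mul, mul_add, mul_add, smul_mul_assoc, smul_mul_assoc,
      smul_mul_assoc, smul_mul_assoc, one_mul, one_mul, mul_smul_comm, mul_smul_comm, mul_one,
      traceless_sq hB]
    module
  have hjn : j ∉ Subgroup.zpowers a := by
    rw [← hT]
    rintro ⟨N, hN, hNB, hjN⟩
    rw [hj, pg_eq_pg_iff hJd hN] at hjN
    obtain ⟨c, hc, rfl⟩ := hjN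
    rw [smul_mul_assoc, mul_smul_comm] at hNB
    have h3 := smul_right_injective _ hc hNB
    rw [hJ, neg_eq_iff_add_eq_zero, ← two_smul F, smul_eq_zero] at h3
    have h4 := congrArg Matrix.det (h3.resolve_left h2)
    rw [det_mul, det_zero] at h4
    exact mul_ne_zero hBd hJd h4
  have hself : ∀ e ∈ Subgroup.zpowers a, e ≠ 1 → ∀ x, x⁻¹ * e * x ∈ Subgroup.zpowers a →
      x ∈ Subgroup.zpowers a ∨ x * j ∈ Subgroup.zpowers a := by
    intro e he he1 x hx
    rw [← hT] at he hx ⊢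
    exact tor_self hB hBd h2 hJd hJ he he1 hx
  by_cases hjP : j ∈ sqPart F
  · have hidx := PSL2.Maximal.index_range_psi (F := F) hodd
    refine ⟨j * a, ?_, fun h => ha ?_, ?_, fun h => hjn ?_, fun e he he1 x hx => ?_⟩
    · refine orderOf_eq_prime ?_ fun h => hjn ?_
      · rw [pow_two, show j * a * (j * a) = j * a * j * a by group]
        nth_rw 2 [← hjinv]
        rw [hja, inv_mul_cancel]
      · rw [eq_inv_of_mul_eq_one_left h]
        exact inv_mem (Subgroup.mem_zpowers a)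
    · have := mul_mem (inv_mem hjP) h
      rwa [inv_mul_cancel_left] at this
    · rw [show j * a * a * (j * a)⁻¹ = j * a * j⁻¹ by group, hja]
    · have := mul_mem h (inv_mem (Subgroup.mem_zpowers a))
      rwa [mul_inv_cancel_right] at this
    · exact (hself e he he1 x hx).imp id fun h => by
        rw [← mul_assoc]; exact mul_mem h (Subgroup.mem_zpowers a)
  · exact ⟨j, hjo, hjP, hja, hjn, hself⟩

end Cfsg.Agent.SDCyclic
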