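import Cfsg.Agent.Lib.SDCyclic.PGLMatrix
import Cfsg.Agent.Lib.Spectrum.PGL2Orders
import Mathlib.NumberTheory.LegendreSymbol.Basic

/-!
# The shape of `PGL₂(q)`, `q` an odd prime

`exists_torusShape` : `PGL₂(q)` has three cyclic TI subgroups of orders `q + η`, `q`, `q - η` (with
`4 ∣ q + η`), the two tori having their involutions in the two different classes.
-/

set_option autoImplicit false
set_option linter.unusedSectionVars false

namespace Cfsg.Agent.SDCyclic

open Matrix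
open scoped MatrixGroups

/-- What the construction of `Cent` uses of `PGL₂(q)`; `P` is the image of `PSL₂(q)`. -/
structure TorusShape {L : Type*} [Group L] (P : Subgroup L) (q W g : ℕ) (η : ℤ) (a u b s r : L) :
    Prop where
  index : P.index = 2
  conj_inner : ∀ v w : L, orderOf v = 2 → orderOf w = 2 → v ∈ P → w ∈ P → IsConj v w
  conj_outer : ∀ v w : L, orderOf v = 2 → orderOf w = 2 → v ∉ P → w ∉ P → IsConj v w
  a_order : orderOf a = W
  a_notMem : a ∉ P
  u_order : orderOf u = q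
  b_order : orderOf b = 2 * g
  b_notMem : b ∉ P
  s_order : orderOf s = 2
  s_notMem : s ∉ P
  s_conj : s * a * s⁻¹ = a⁻¹
  s_notin : s ∉ Subgroup.zpowers a
  r_order : orderOf r = 2
  r_conj : r * b * r⁻¹ = b⁻¹
  r_notin : r ∉ Subgroup.zpowers b
  selfW : ∀ e ∈ Subgroup.zpowers a, e ≠ 1 → ∀ x, x⁻¹ * e * x ∈ Subgroup.zpowers a →
    x ∈ Subgroup.zpowers a ∨ x * s ∈ Subgroup.zpowers a
  selfG : ∀ e ∈ Subgroup.zpowers b, e ≠ 1 → ∀ x, x⁻¹ * e * x ∈ Subgroup.zpowers b →
    x ∈ Subgroup.zpowers b ∨ x * r ∈ Subgroup.zpowers b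
  kerU : ∀ x, x⁻¹ * u * x = u → x ∈ Subgroup.zpowers u
  surU : ∀ j : ℕ, ¬ q ∣ j → ∃ x, x⁻¹ * u * x = u ^ j
  crossWU : ∀ e ∈ Subgroup.zpowers a, e ≠ 1 → ∀ x, x⁻¹ * e * x ∉ Subgroup.zpowers u
  crossWG : ∀ e ∈ Subgroup.zpowers a, e ≠ 1 → ∀ x, x⁻¹ * e * x ∉ Subgroup.zpowers b
  crossUG : ∀ e ∈ Subgroup.zpowers u, e ≠ 1 → ∀ x, x⁻¹ * e * x ∉ Subgroup.zpowers b
  invU : η = 1 → ∃ y, orderOf y = 2 ∧ y ∉ P ∧ y⁻¹ * u * y = u⁻¹
  borel : η = -1 → a * u * a⁻¹ ∈ Subgroup.zpowers u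

section General

variable {L : Type*} [Group L]

theorem orderOf_dvd_of_mem {a e : L} (he : e ∈ Subgroup.zpowers a) : orderOf e ∣ orderOf a := by
  obtain ⟨k, rfl⟩ := he
  exact orderOf_dvd_of_pow_eq_one (by
    show (a ^ k) ^ orderOf a = 1
    rw [← zpow_natCast, ← _root_.zpow_mul, mul_comm, _root_.zpow_mul, zpow_natCast, pow_orderOf_eq_one,
      _root_.one_zpow])

theorem orderOf_inv_conj (e x : L) : orderOf (x⁻¹ * e * x) = orderOf e := by
  conv_lhs => rw [show x⁻¹ * e * x = MulAut.conj x⁻¹ e by simp]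
  exact MulEquiv.orderOf_eq _ _

theorem cross_coprime {a b e x : L} (he : e ∈ Subgroup.zpowers a) (he1 : e ≠ 1)
    (hco : (orderOf a).Coprime (orderOf b)) : x⁻¹ * e * x ∉ Subgroup.zpowers b := by
  intro h
  have h2 := orderOf_dvd_of_mem h
  rw [orderOf_inv_conj] at h2
  exact he1 (orderOf_eq_one_iff.1 (Nat.eq_one_of_dvd_coprimes hco (orderOf_dvd_of_mem he) h2))

/-- The involution classes of two cyclic subgroups separated by a subgroup of index two. -/
theorem cross_two [Finite L] {P : Subgroup L} (hP : P.index = 2) {a b e x : L} {h g : ℕ}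
    (ha : orderOf a = 2 * h) (hh : Even h) (hb : orderOf b = 2 * g) (hbP : b ∉ P)
    (hgcd : Nat.gcd (2 * h) (2 * g) ∣ 2)
    (he : e ∈ Subgroup.zpowers a) (he1 : e ≠ 1) : x⁻¹ * e * x ∉ Subgroup.zpowers b := by
  intro hm
  have hd : orderOf e ∣ 2 := by
    refine dvd_trans (Nat.dvd_gcd ?_ ?_) hgcd
    · exact ha ▸ orderOf_dvd_of_mem he
    · have := orderOf_dvd_of_mem hm
      rwa [orderOf_inv_conj, hb] at this
  haveI : P.Normal := Subgroup.normal_of_index_eq_two hP
  have heP : e ∈ P := by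
    rw [← mem_powers_iff_mem_zpowers] at he
    obtain ⟨k, rfl : a ^ k = e⟩ := he
    have h1 : a ^ (k * 2) = 1 := by rw [pow_mul]; exact orderOf_dvd_iff_pow_eq_one.1 hd
    rw [← orderOf_dvd_iff_pow_eq_one, ha, mul_comm k] at h1
    obtain ⟨c, rfl⟩ := (mul_dvd_mul_iff_left (two_ne_zero (α := ℕ))).1 h1
    obtain ⟨d, rfl⟩ := hh
    rw [show (d + d) * c = d * c + d * c by ring, pow_add]
    exact Subgroup.mul_self_mem_of_index_two hP _
  rw [← mem_powers_iff_mem_zpowers] at hm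
  obtain ⟨k, hk : b ^ k = x⁻¹ * e * x⟩ := hm
  have h1 : b ^ (k * 2) = 1 := by
    rw [pow_mul, hk, ← orderOf_dvd_iff_pow_eq_one, orderOf_inv_conj]; exact hd
  rw [← orderOf_dvd_iff_pow_eq_one, hb, mul_comm k] at h1
  obtain ⟨c, rfl⟩ := (mul_dvd_mul_iff_left (two_ne_zero (α := ℕ))).1 h1
  have hmem : b ^ (g * c) ∈ P := by
    rw [hk]
    simpa using (inferInstance : P.Normal).conj_mem _ heP x⁻¹
  rcases Nat.even_or_odd (g * c) with ⟨d, hd'⟩ | ⟨d, hd'⟩
  swap
  · rw [hd', pow_succ, pow_mul, pow_two] at hmem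
    refine hbP ?_
    have := mul_mem (inv_mem (pow_mem (Subgroup.mul_self_mem_of_index_two hP b) d)) hmem
    rwa [inv_mul_cancel_left] at this
  ·
    have h2 : b ^ (g * c) = 1 := by
      rcases Nat.even_or_odd c with ⟨c', rfl⟩ | hc
      · rw [← orderOf_dvd_iff_pow_eq_one, hb]; exact ⟨c', by ring⟩
      · exfalso
        obtain ⟨g', rfl⟩ : Even g := by
          rcases Nat.even_mul.1 ⟨d, hd'⟩ with h | h
          · exact h
          · exact absurd h (Nat.not_even_iff_odd.2 hc)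
        obtain ⟨h', rfl⟩ := hh
        have h4 : 4 ∣ 2 := dvd_trans (Nat.dvd_gcd ⟨h', by ring⟩ ⟨g', by ring⟩) hgcd
        omega
    rw [h2] at hk
    refine he1 ?_
    calc e = x * (x⁻¹ * e * x) * x⁻¹ := by group
      _ = 1 := by rw [← hk]; group

end General

variable {q : ℕ} [hq : Fact q.Prime]

local notation "𝔽" => ZMod q
local notation "M₂" => Matrix (Fin 2) (Fin 2) (ZMod q)

theorem zmod_two_ne (hodd : q ≠ 2) : (2 : 𝔽) ≠ 0 := by
  intro h
  have h' : ((2 : ℕ) : 𝔽) = 0 := by exact_mod_cast h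
  rw [ZMod.natCast_eq_zero_iff] at h'
  exact hodd ((Nat.prime_dvd_prime_iff_eq hq.out Nat.prime_two).1 h')

theorem odd_card (hodd : q ≠ 2) : Odd (Fintype.card 𝔽) := by
  rw [ZMod.card]; exact hq.out.odd_of_ne_two hodd

theorem ringChar_ne_two (hodd : q ≠ 2) : ringChar 𝔽 ≠ 2 := by
  rw [ZMod.ringChar_zmod_n]; exact hodd

theorem mul_isSquare_of_not {x y : 𝔽} (hx : ¬ IsSquare x) (hy : ¬ IsSquare y) : IsSquare (x * y) := by
  have hx0 : x ≠ 0 := fun h => hx (h ▸ IsSquare.zero)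
  have hy0 : y ≠ 0 := fun h => hy (h ▸ IsSquare.zero)
  rw [ZMod.euler_criterion q (mul_ne_zero hx0 hy0), mul_pow]
  rw [ZMod.euler_criterion q hx0] at hx
  rw [ZMod.euler_criterion q hy0] at hy
  rw [(ZMod.pow_div_two_eq_neg_one_or_one q hx0).resolve_left hx,
    (ZMod.pow_div_two_eq_neg_one_or_one q hy0).resolve_left hy, neg_mul_neg, one_mul]

/-! ### Involutions -/

theorem cayley_hamilton_two (M : M₂) : M * M = M.trace • M - M.det • (1 : M₂) := by
  ext i j
  fin_cases i <;> fin_cases j <;>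
    simp [Matrix.mul_apply, Fin.sum_univ_two, trace_fin_two, det_fin_two] <;> ring

theorem exists_traceless_of_invol {x : PGL(2, 𝔽)} (hx : orderOf x = 2) :
    ∃ M : M₂, M.det ≠ 0 ∧ M.trace = 0 ∧ x = pg M := by
  obtain ⟨M, hM, rfl⟩ := exists_pg x
  refine ⟨M, hM, ?_, rfl⟩
  have h1 : pg M ^ 2 = 1 := by
    have := pow_orderOf_eq_one (pg M)
    rwa [hx] at this
  rw [← pg_pow hM, pg_eq_one_iff (det_pow_ne hM 2), pow_two] at h1
  obtain ⟨c, hc⟩ := h1
  by_contra ht
  rw [cayley_hamilton_two, sub_eq_iff_eq_add, ← add_smul] at hc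
  have h2 : pg M = 1 := (pg_eq_one_iff hM).2 ⟨M.trace⁻¹ * (c + M.det), by
    rw [mul_smul, ← hc, smul_smul, inv_mul_cancel₀ ht, one_smul]⟩
  rw [h2, orderOf_one] at hx
  omega

theorem exists_companion {M : M₂} (hM : M.trace = 0) (hd : M.det ≠ 0) (h2 : (2 : 𝔽) ≠ 0) :
    ∃ Q : M₂, Q.det ≠ 0 ∧ M * Q = Q * !![0, -M.det; 1, 0] := by
  rw [trace_fin_two] at hM
  have e1 : M 1 1 = -M 0 0 := by linear_combination hM
  have key : ∀ v₀ v₁ : 𝔽,
      M * !![v₀, M 0 0 * v₀ + M 0 1 * v₁; v₁, M 1 0 * v₀ + M 1 1 * v₁] =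
        !![v₀, M 0 0 * v₀ + M 0 1 * v₁; v₁, M 1 0 * v₀ + M 1 1 * v₁] * !![0, -M.det; 1, 0] := by
    intro v₀ v₁
    ext i j
    fin_cases i <;> fin_cases j <;>
      simp [Matrix.mul_apply, Fin.sum_univ_two, det_fin_two, e1] <;> ring
  by_cases h10 : M 1 0 = 0
  · by_cases h01 : M 0 1 = 0
    · refine ⟨_, ?_, key 1 1⟩
      rw [det_fin_two, e1, h10, mul_zero, sub_zero] at hd
      have h00 : M 0 0 ≠ 0 := fun h => hd (by rw [h]; ring)
      simp only [det_fin_two, h10, h01, e1, cons_val', cons_val_zero, cons_val_one, of_apply,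
        empty_val', cons_val_fin_one, mul_one, zero_add, zero_mul, one_mul, add_zero]
      intro h
      exact mul_ne_zero h2 h00 (by linear_combination -h)
    · exact ⟨_, by simp [det_fin_two, h01], key 0 1⟩
  · exact ⟨_, by simp [det_fin_two, h10], key 1 0⟩

theorem isConj_invol (h2 : (2 : 𝔽) ≠ 0) {M N : M₂} (hM : M.trace = 0) (hMd : M.det ≠ 0)
    (hN : N.trace = 0) (hNd : N.det ≠ 0) (hsq : IsSquare (M.det * N.det)) :
    IsConj (pg M) (pg N) := by
  obtain ⟨w, hw⟩ := hsq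
  obtain ⟨c, hc⟩ : ∃ c, c = w / M.det := ⟨_, rfl⟩
  have hw0 : w ≠ 0 := fun h => mul_ne_zero hMd hNd (by rw [hw, h, mul_zero])
  have hc0 : c ≠ 0 := hc ▸ div_ne_zero hw0 hMd
  have hdet : (c • M).det = N.det := by
    rw [det_smul, Fintype.card_fin, hc, div_pow, pow_two w, ← hw]
    field_simp
  obtain ⟨Q, hQ, hQe⟩ := exists_companion (M := c • M) (by rw [trace_smul, hM, smul_zero])
    (det_smul_ne hc0 hMd) h2
  obtain ⟨R, hR, hRe⟩ := exists_companion hN hNd h2
  rw [hdet] at hQe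
  have hcd : (!![0, -N.det; 1, 0] : M₂).det ≠ 0 := by
    simpa only [det_fin_two, of_apply, cons_val', cons_val_zero, cons_val_one, cons_val_fin_one,
      empty_val', zero_mul, mul_one, neg_neg, zero_sub] using hNd
  have e1 : IsConj (pg (c • M)) (pg (!![0, -N.det; 1, 0] : M₂)) := by
    refine isConj_iff.2 ⟨(pg Q)⁻¹, ?_⟩
    rw [inv_inv, mul_assoc, ← pg_mul (det_smul_ne hc0 hMd) hQ, hQe, pg_mul hQ hcd,
      inv_mul_cancel_left]
  have e2 : IsConj (pg N) (pg (!![0, -N.det; 1, 0] : M₂)) := by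
    refine isConj_iff.2 ⟨(pg R)⁻¹, ?_⟩
    rw [inv_inv, mul_assoc, ← pg_mul hNd hR, hRe, pg_mul hR hcd, inv_mul_cancel_left]
  rw [pg_smul hc0 hMd] at e1
  exact e1.trans e2.symm

theorem isConj_inner (hodd : q ≠ 2) {v w : PGL(2, 𝔽)} (hv : orderOf v = 2) (hw : orderOf w = 2)
    (hv' : v ∈ sqPart 𝔽) (hw' : w ∈ sqPart 𝔽) : IsConj v w := by
  obtain ⟨M, hMd, hM, rfl⟩ := exists_traceless_of_invol hv
  obtain ⟨N, hNd, hN, rfl⟩ := exists_traceless_of_invol hw
  rw [pg_mem_sqPart_iff hMd] at hv'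
  rw [pg_mem_sqPart_iff hNd] at hw'
  exact isConj_invol (zmod_two_ne hodd) hM hMd hN hNd (hv'.mul hw')

theorem isConj_outer (hodd : q ≠ 2) {v w : PGL(2, 𝔽)} (hv : orderOf v = 2) (hw : orderOf w = 2)
    (hv' : v ∉ sqPart 𝔽) (hw' : w ∉ sqPart 𝔽) : IsConj v w := by
  obtain ⟨M, hMd, hM, rfl⟩ := exists_traceless_of_invol hv
  obtain ⟨N, hNd, hN, rfl⟩ := exists_traceless_of_invol hw
  rw [pg_mem_sqPart_iff hMd] at hv'
  rw [pg_mem_sqPart_iff hNd] at hw'
  exact isConj_invol (zmod_two_ne hodd) hM hMd hN hNd (mul_isSquare_of_not hv' hw')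

/-! ### The split torus and the Borel subgroup -/

theorem det_diag (x : 𝔽ˣ) : (!![(x : 𝔽), 0; 0, 1] : M₂).det ≠ 0 := by simp [det_fin_two]

variable (q) in
/-- The split torus as the image of the units. -/
noncomputable def diagHom : 𝔽ˣ →* PGL(2, 𝔽) :=
  MonoidHom.mk' (fun x => pg (!![(x : 𝔽), 0; 0, 1] : M₂)) (fun x y => by
    rw [← pg_mul (det_diag x) (det_diag y)]
    congr 1
    ext i j
    fin_cases i <;> fin_cases j <;> simp [Matrix.mul_apply, Fin.sum_univ_two])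

theorem diagHom_injective : Function.Injective (diagHom q) := by
  refine (injective_iff_map_eq_one _).2 fun x hx => ?_
  obtain ⟨c, hc⟩ := (pg_eq_one_iff (det_diag x)).1 hx
  have h0 := congrFun (congrFun hc 0) 0
  have h1 := congrFun (congrFun hc 1) 1
  simp at h0 h1
  exact Units.ext (by rw [h0, ← h1, Units.val_one])

theorem det_unip (c : 𝔽) : (!![1, c; 0, 1] : M₂).det ≠ 0 := by simp [det_fin_two]

theorem unip_pow (n : ℕ) : (!![1, 1; 0, 1] : M₂) ^ n = !![1, (n : 𝔽); 0, 1] := by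
  induction n with
  | zero => ext i j; fin_cases i <;> fin_cases j <;> simp
  | succ n ih =>
    rw [pow_succ, ih]
    ext i j
    fin_cases i <;> fin_cases j <;> simp [Matrix.mul_apply, Fin.sum_univ_two, add_comm]

theorem pg_unip (c : 𝔽) :
    pg (!![1, c; 0, 1] : M₂) = pg (!![1, 1; 0, 1] : M₂) ^ c.val := by
  rw [← pg_pow (det_unip (1 : 𝔽)), unip_pow, ZMod.natCast_zmod_val]

theorem unip_mem (c : 𝔽) :
    pg (!![1, c; 0, 1] : M₂) ∈ Subgroup.zpowers (pg (!![1, 1; 0, 1] : M₂)) :=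
  (pg_unip c).symm ▸ pow_mem (Subgroup.mem_zpowers _) _

theorem pg_unip_pow_q : pg (!![1, 1; 0, 1] : M₂) ^ q = 1 := by
  rw [← pg_pow (det_unip (1 : 𝔽)), unip_pow, ZMod.natCast_self, pg_eq_one_iff (det_unip (0 : 𝔽))]
  exact ⟨1, by ext i j; fin_cases i <;> fin_cases j <;> simp⟩

theorem orderOf_unip : orderOf (pg (!![1, 1; 0, 1] : M₂)) = q := by
  refine orderOf_eq_prime pg_unip_pow_q fun h => ?_
  obtain ⟨c, hc⟩ := (pg_eq_one_iff (det_unip (1 : 𝔽))).1 h
  have := congrFun (congrFun hc 0) 1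
  simp at this

theorem kerU_unip (hodd : q ≠ 2) {x : PGL(2, 𝔽)}
    (hx : x⁻¹ * pg (!![1, 1; 0, 1] : M₂) * x = pg (!![1, 1; 0, 1] : M₂)) :
    x ∈ Subgroup.zpowers (pg (!![1, 1; 0, 1] : M₂)) := by
  obtain ⟨M, hM, rfl⟩ := exists_pg x
  have hU := det_unip (1 : 𝔽)
  have h1 : pg ((!![1, 1; 0, 1] : M₂) * M) = pg (M * (!![1, 1; 0, 1] : M₂)) := by
    rw [pg_mul hU hM, pg_mul hM hU]
    conv_rhs => rw [← hx]
    group
  rw [pg_eq_pg_iff (by rw [det_mul]; exact mul_ne_zero hU hM)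
    (by rw [det_mul]; exact mul_ne_zero hM hU)] at h1
  obtain ⟨c, hc, he⟩ := h1
  rw [det_fin_two] at hM
  have e00 := congrFun (congrFun he 0) 0
  have e01 := congrFun (congrFun he 0) 1
  have e10 := congrFun (congrFun he 1) 0
  have e11 := congrFun (congrFun he 1) 1
  simp only [Matrix.mul_apply, Fin.sum_univ_two, of_apply, cons_val', cons_val_zero, cons_val_one,
    cons_val_fin_one, empty_val', Matrix.smul_apply, smul_eq_mul, mul_zero, zero_mul, mul_one,
    one_mul, zero_add, add_zero] at e00 e01 e10 e11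
  -- `c = 1`
  have hc1 : c = 1 := by
    by_contra hne
    have h10 : M 1 0 = 0 := by
      by_contra h
      exact hne (mul_right_cancel₀ h (by linear_combination -e10))
    have h00 : M 0 0 = 0 := by
      by_contra h
      rw [h10] at e00
      exact hne (mul_right_cancel₀ h (by linear_combination -e00))
    exact hM (by rw [h10, h00]; ring)
  subst hc1
  have h10 : M 1 0 = 0 := by linear_combination -e00
  have h11 : M 1 1 = M 0 0 := by linear_combination -e01
  have h00 : M 0 0 ≠ 0 := fun h => hM (by rw [h, h10]; ring)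
  have hM' : M = M 0 0 • (!![1, M 0 1 / M 0 0; 0, 1] : M₂) := by
    ext i j
    fin_cases i <;> fin_cases j <;> simp [h10, h11]
    field_simp
  rw [hM', pg_smul h00 (det_unip (q := q) _)]
  exact unip_mem _

theorem det_diag' (x : 𝔽) (hx : x ≠ 0) : (!![1, 0; 0, x] : M₂).det ≠ 0 := by simp [det_fin_two, hx]

theorem surU_unip {j : ℕ} (hj : ¬ q ∣ j) :
    ∃ x : PGL(2, 𝔽), x⁻¹ * pg (!![1, 1; 0, 1] : M₂) * x = pg (!![1, 1; 0, 1] : M₂) ^ j := by
  have hj0 : (j : 𝔽) ≠ 0 := by rwa [ne_eq, ZMod.natCast_eq_zero_iff]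
  have hd := det_diag' (q := q) (j : 𝔽) hj0
  refine ⟨pg (!![1, 0; 0, (j : 𝔽)] : M₂), ?_⟩
  rw [mul_assoc, inv_mul_eq_iff_eq_mul, ← pg_pow (det_unip (1 : 𝔽)), unip_pow]
  rw [← pg_mul (det_unip (1 : 𝔽)) hd, ← pg_mul hd (det_unip (j : 𝔽))]
  congr 1
  ext a b
  fin_cases a <;> fin_cases b <;> simp [Matrix.mul_apply, Fin.sum_univ_two]

theorem exists_split (hodd : q ≠ 2) :
    ∃ a : PGL(2, 𝔽), orderOf a = q - 1 ∧ a ∉ sqPart 𝔽 ∧
      tor (!![1, 0; 0, -1] : M₂) = Subgroup.zpowers a ∧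
      a * pg (!![1, 1; 0, 1] : M₂) * a⁻¹ ∈ Subgroup.zpowers (pg (!![1, 1; 0, 1] : M₂)) := by
  obtain ⟨ω, hω⟩ := IsCyclic.exists_generator (α := 𝔽ˣ)
  refine ⟨diagHom q ω, ?_, ?_, ?_, ?_⟩
  · rw [orderOf_injective _ diagHom_injective, orderOf_eq_card_of_forall_mem_zpowers hω,
      Nat.card_eq_fintype_card, ZMod.card_units]
  · rw [show diagHom q ω = pg (!![(ω : 𝔽), 0; 0, 1] : M₂) from rfl, pg_mem_sqPart_iff (det_diag ω)]
    simp only [det_fin_two, of_apply, cons_val', cons_val_zero, cons_val_one, cons_val_fin_one,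
      empty_val', mul_one, mul_zero, sub_zero]
    intro hsq
    obtain ⟨y, hy⟩ := FiniteField.exists_nonsquare (F := 𝔽) (ringChar_ne_two hodd)
    have hy0 : y ≠ 0 := fun h => hy (h ▸ IsSquare.zero)
    obtain ⟨k, hk⟩ := mem_powers_iff_mem_zpowers.2 (hω (Units.mk0 y hy0))
    refine hy ?_
    have e : (ω : 𝔽) ^ k = y := by
      have := congrArg Units.val hk
      simpa using this
    exact e ▸ hsq.pow k
  · ext x
    constructor
    · rintro ⟨M, hM, hMB, rfl⟩
      have e01 := congrFun (congrFun hMB 0) 1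
      have e10 := congrFun (congrFun hMB 1) 0
      simp [Matrix.mul_apply, Fin.sum_univ_two] at e01 e10
      have h01 : M 0 1 = 0 :=
        (mul_eq_zero.1 (show (2 : 𝔽) * M 0 1 = 0 by linear_combination -e01)).resolve_left
          (zmod_two_ne hodd)
      have h10 : M 1 0 = 0 :=
        (mul_eq_zero.1 (show (2 : 𝔽) * M 1 0 = 0 by linear_combination e10)).resolve_left
          (zmod_two_ne hodd)
      rw [det_fin_two, h01, zero_mul, sub_zero] at hM
      have h00 := left_ne_zero_of_mul hM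
      have h11 := right_ne_zero_of_mul hM
      have hM' : M = M 1 1 • (!![(Units.mk0 _ (div_ne_zero h00 h11) : 𝔽ˣ).1, 0; 0, 1] : M₂) := by
        ext i j
        fin_cases i <;> fin_cases j <;> simp [h10, h01]
        field_simp
      rw [hM', pg_smul h11 (det_diag _)]
      obtain ⟨k, hk⟩ := hω (Units.mk0 _ (div_ne_zero h00 h11))
      exact ⟨k, ((map_zpow (diagHom q) ω k).symm.trans (congrArg _ hk) : _)⟩
    · intro hx
      obtain ⟨k, rfl⟩ := hx
      show diagHom q ω ^ k ∈ tor _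
      rw [← map_zpow]
      refine ⟨_, det_diag (ω ^ k), ?_, rfl⟩
      ext i j
      fin_cases i <;> fin_cases j <;> simp [Matrix.mul_apply, Fin.sum_univ_two]
  · rw [show diagHom q ω = pg (!![(ω : 𝔽), 0; 0, 1] : M₂) from rfl, ← pg_mul (det_diag ω) (det_unip (1 : 𝔽))]
    have e : (!![(ω : 𝔽), 0; 0, 1] : M₂) * !![1, 1; 0, 1] =
        (!![1, (ω : 𝔽); 0, 1] : M₂) * !![(ω : 𝔽), 0; 0, 1] := by
      ext i j
      fin_cases i <;> fin_cases j <;> simp [Matrix.mul_apply, Fin.sum_univ_two]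
    rw [e, pg_mul (det_unip (q := q) _) (det_diag ω), mul_inv_cancel_right]
    exact unip_mem _

/-! ### The nonsplit torus -/

theorem det_add_traceless {B : M₂} (hB : B.trace = 0) (α : 𝔽) :
    (α • (1 : M₂) + B).det = α * α + B.det := by
  rw [trace_fin_two] at hB
  simp [det_fin_two]
  linear_combination α * hB

theorem exists_nonsplit (hodd : q ≠ 2) :
    ∃ (a : PGL(2, 𝔽)) (B : M₂), B.trace = 0 ∧ B.det ≠ 0 ∧ orderOf a = q + 1 ∧ a ∉ sqPart 𝔽 ∧
      tor B = Subgroup.zpowers a := by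
  have hq3 : 3 ≤ q := by have := hq.out.two_le; omega
  have hq2 : q % 2 = 1 := Nat.odd_iff.1 (hq.out.odd_of_ne_two hodd)
  obtain ⟨x, hx⟩ : ∃ x : GL (Fin 2) 𝔽 ⧸ Subgroup.center (GL (Fin 2) 𝔽), orderOf x = q + 1 := by
    have h := Spectrum.range_orderOf_pgl_two (F := 𝔽) q (by rw [ZMod.card]; exact hq3)
    have h1 : q + 1 ∈ Set.range (orderOf : GL (Fin 2) 𝔽 ⧸ Subgroup.center (GL (Fin 2) 𝔽) → ℕ) := by
      rw [h, ZMod.card]
      exact ⟨q + 1, by simp, dvd_rfl⟩
    exact h1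
  have h2 := zmod_two_ne hodd
  have hox : orderOf (x : PGL(2, 𝔽)) = q + 1 := hx
  obtain ⟨M, hM, hxM⟩ := exists_pg (x : PGL(2, 𝔽))
  rw [hxM] at hox
  replace hox : orderOf (pg M) = q + 1 := hox
  obtain ⟨τ, hτ⟩ : ∃ τ, τ = M.trace / 2 := ⟨_, rfl⟩
  obtain ⟨B, hBdef⟩ : ∃ B : M₂, B = M - τ • (1 : M₂) := ⟨_, rfl⟩
  have hB : B.trace = 0 := by
    rw [hBdef, trace_sub, trace_smul, trace_one, Fintype.card_fin, hτ, smul_eq_mul]
    push_cast
    field_simp
    ring
  have hMB : M = τ • (1 : M₂) + B := by rw [hBdef, add_sub_cancel]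
  obtain ⟨k, hk⟩ : ∃ k, q = 2 * k + 1 := ⟨q / 2, by omega⟩
  -- Frobenius
  have hfrob : M ^ q = τ • (1 : M₂) + ((-B.det) ^ k) • B := by
    rw [hMB, add_pow_char_of_commute (p := q) ((Commute.one_left B).smul_left τ), smul_pow, one_pow,
      ZMod.pow_card]
    congr 1
    rw [congrArg (B ^ ·) hk]
    show B ^ (2 * k + 1) = _
    rw [pow_succ, pow_mul, pow_two, traceless_sq hB, smul_pow, one_pow, smul_mul_assoc, one_mul]
  have hBd : B.det ≠ 0 := by
    intro hd
    rw [hd, neg_zero, zero_pow (by omega), zero_smul, add_zero] at hfrob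
    have h1 : pg M ^ q = 1 := by
      rw [← pg_pow hM, pg_eq_one_iff (det_pow_ne hM q)]; exact ⟨τ, hfrob⟩
    have h3 := orderOf_dvd_of_pow_eq_one h1
    rw [hox] at h3
    have := Nat.le_of_dvd (by omega) h3
    omega
  have hns : ¬ IsSquare (-B.det) := by
    rw [ZMod.euler_criterion q (neg_ne_zero.2 hBd), show q / 2 = k by omega]
    intro h
    rw [h, one_smul, ← hMB] at hfrob
    have h1 : pg M ^ (q - 1) = 1 := by
      refine mul_right_cancel (b := pg M) ?_
      rw [← pow_succ, show q - 1 + 1 = q by omega, one_mul, ← pg_pow hM, hfrob]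
    have h3 := orderOf_dvd_of_pow_eq_one h1
    rw [hox] at h3
    have := Nat.le_of_dvd (by omega) h3
    omega
  have hdet : ∀ α : 𝔽, (α • (1 : M₂) + B).det ≠ 0 := by
    intro α h
    rw [det_add_traceless hB] at h
    exact hns ⟨α, by linear_combination -h⟩
  have hT : tor B = Subgroup.zpowers (pg M) := by
    haveI : Finite PGL(2, 𝔽) := PSL2.pgl_finite
    refine (Subgroup.eq_of_le_of_card_ge ?_ ?_).symm
    · exact Subgroup.zpowers_le.2 ⟨M, hM, by
        rw [hMB, add_mul, mul_add, smul_mul_assoc, mul_smul_comm, one_mul, mul_one], rfl⟩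
    · rw [Nat.card_zpowers, hox]
      let φ : Option 𝔽 → PGL(2, 𝔽) := fun o => o.elim 1 fun α => pg (α • (1 : M₂) + B)
      have hle : ((tor B : Subgroup PGL(2, 𝔽)) : Set PGL(2, 𝔽)) ⊆ Set.range φ := by
        rintro _ ⟨N, hN, hNB, rfl⟩
        obtain ⟨α, β, rfl⟩ := exists_coeff hB hBd h2 hNB
        rcases eq_or_ne β 0 with rfl | hβ
        · exact ⟨none, ((pg_eq_one_iff hN).2 ⟨α, by rw [zero_smul, add_zero]⟩).symm⟩
        · refine ⟨some (α / β), ?_⟩
          show pg _ = pg _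
          rw [← pg_smul hβ (hdet (α / β))]
          congr 1
          rw [smul_add, smul_smul, mul_div_cancel₀ _ hβ]
      calc Nat.card (tor B) ≤ Nat.card (Set.range φ) := Nat.card_mono (Set.finite_range _) hle
        _ ≤ Nat.card (Option 𝔽) := Finite.card_range_le φ
        _ = q + 1 := by rw [Nat.card_eq_fintype_card, Fintype.card_option, ZMod.card]
  refine ⟨pg M, B, hB, hBd, hox, ?_, hT⟩
  intro hP
  have hall : ∀ α : 𝔽, IsSquare (α * α + B.det) := by
    intro α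
    rw [← det_add_traceless hB, ← pg_mem_sqPart_iff (hdet α)]
    refine Subgroup.zpowers_le.2 hP (hT ▸ ?_)
    exact ⟨_, hdet α, by
      rw [add_mul, mul_add, smul_mul_assoc, mul_smul_comm, one_mul, mul_one], rfl⟩
  have hind : ∀ n : ℕ, IsSquare ((n : 𝔽) * B.det) := by
    intro n
    induction n with
    | zero => rw [Nat.cast_zero, zero_mul]; exact IsSquare.zero
    | succ n ih =>
      obtain ⟨w, hw⟩ := ih
      rw [Nat.cast_succ, add_mul, one_mul, hw]
      exact hall w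
  obtain ⟨y, hy⟩ := FiniteField.exists_nonsquare (F := 𝔽) (ringChar_ne_two hodd)
  refine hy ?_
  have := hind (y / B.det).val
  rwa [ZMod.natCast_zmod_val, div_mul_cancel₀ _ hBd] at this

/-! ### The shape -/

theorem exists_torusShape (hodd : q ≠ 2) :
    ∃ (η : ℤ) (W g : ℕ) (a u b s r : PGL(2, 𝔽)), (η = 1 ∨ η = -1) ∧ 4 ∣ W ∧ Odd g ∧
      (q : ℤ) + η = W ∧ (q : ℤ) - η = 2 * g ∧ TorusShape (sqPart 𝔽) q W g η a u b s r := by
  haveI : Finite PGL(2, 𝔽) := PSL2.pgl_finite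
  have h2 := zmod_two_ne hodd
  have hoddc := odd_card hodd
  have hidx := PSL2.Maximal.index_range_psi (F := 𝔽) hoddc
  have hq2 : q % 2 = 1 := Nat.odd_iff.1 (hq.out.odd_of_ne_two hodd)
  have hBt : (!![1, 0; 0, -1] : M₂).trace = 0 := by simp [trace_fin_two]
  have hBd : (!![1, 0; 0, -1] : M₂).det ≠ 0 := by simp [det_fin_two]
  obtain ⟨d, hdo, hdP, hdT, hdU⟩ := exists_split hodd
  obtain ⟨n, B, hB, hBd', hno, hnP, hnT⟩ := exists_nonsplit hodd
  obtain ⟨s₁, hs₁o, hs₁P, hs₁c, hs₁n, hs₁s⟩ := exists_inverter hoddc hBt hBd h2 hdT hdP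
  obtain ⟨s₂, hs₂o, hs₂P, hs₂c, hs₂n, hs₂s⟩ := exists_inverter hoddc hB hBd' h2 hnT hnP
  set u : PGL(2, 𝔽) := pg (!![1, 1; 0, 1] : M₂) with hu
  have huo : orderOf u = q := orderOf_unip
  have hgcd : ∀ A C : ℕ, A + 2 = C ∨ C + 2 = A → Nat.gcd A C ∣ 2 := by
    intro A C h
    have h1 := Nat.gcd_dvd_left A C
    have h3 := Nat.gcd_dvd_right A C
    rcases h with h | h
    · exact (Nat.dvd_add_right h1).1 (h ▸ h3)
    · exact (Nat.dvd_add_right h3).1 (h ▸ h1)
  have hcop : ∀ A : ℕ, 0 < A → A ≤ q + 1 → A ≠ q → Nat.Coprime A q := by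
    intro A h0 h1 hne
    refine (Nat.Coprime.symm ((Nat.Prime.coprime_iff_not_dvd hq.out).2 fun hd => ?_))
    obtain ⟨c, rfl⟩ := hd
    have := hq.out.two_le
    rcases c with _ | _ | c <;> simp at *
    nlinarith
  rcases (show q % 4 = 3 ∨ q % 4 = 1 by omega) with h4 | h4
  · -- `η = 1` : `W = q + 1`, the nonsplit torus
    obtain ⟨g, hg⟩ : ∃ g, q = 2 * g + 1 := ⟨q / 2, by omega⟩
    refine ⟨1, q + 1, g, n, u, d, s₂, s₁, Or.inl rfl, by omega, Nat.odd_iff.2 (by omega),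
      by push_cast; ring, by rw [hg]; push_cast; ring, ?_⟩
    have hdo' : orderOf d = 2 * g := by rw [hdo, hg, Nat.add_sub_cancel]
    exact
      { index := hidx
        conj_inner := fun v w hv hw => isConj_inner hodd hv hw
        conj_outer := fun v w hv hw => isConj_outer hodd hv hw
        a_order := hno, a_notMem := hnP, u_order := huo, b_order := hdo', b_notMem := hdP
        s_order := hs₂o, s_notMem := hs₂P, s_conj := hs₂c, s_notin := hs₂n
        r_order := hs₁o, r_conj := hs₁c, r_notin := hs₁n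
        selfW := hs₂s, selfG := hs₁s
        kerU := fun x hx => kerU_unip hodd hx
        surU := fun j hj => surU_unip hj
        crossWU := fun e he he1 x => cross_coprime he he1 (by
          rw [hno, huo]; exact hcop _ (by omega) le_rfl (by omega))
        crossWG := fun e he he1 x => cross_two hidx (h := g + 1) (by rw [hno, hg]; ring)
          (Nat.even_iff.2 (by omega)) hdo' hdP (hgcd _ _ (Or.inr (by ring))) he he1
        crossUG := fun e he he1 x => cross_coprime he he1 (by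
          rw [huo, hdo']; exact (hcop _ (by omega) (by omega) (by omega)).symm)
        invU := fun _ => by
          have hns : ¬ IsSquare (-1 : 𝔽) := fun h => ZMod.exists_sq_eq_neg_one_iff.1 h h4
          have hd' := det_diag' (-1 : 𝔽) (neg_ne_zero.2 one_ne_zero)
          refine ⟨pg (!![1, 0; 0, -1] : M₂), pg_invol hBt hBd h2, ?_, ?_⟩
          · rw [pg_mem_sqPart_iff hBd]
            simpa [det_fin_two] using hns
          · refine eq_inv_of_mul_eq_one_left ?_
            rw [mul_assoc, mul_assoc, inv_mul_eq_one, hu, ← pg_mul hBd (det_unip (1 : 𝔽)),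
              ← pg_mul (det_unip (1 : 𝔽)) (by rw [det_mul]; exact mul_ne_zero hBd (det_unip (1 : 𝔽)))]
            congr 1
            ext i j
            fin_cases i <;> fin_cases j <;> simp [Matrix.mul_apply, Fin.sum_univ_two]
        borel := fun h => absurd h (by norm_num) }
  · -- `η = -1` : `W = q - 1`, the split torus
    obtain ⟨m, hm⟩ : ∃ m, q = 4 * m + 1 := ⟨q / 4, by omega⟩
    have hm1 : 1 ≤ m := by have := hq.out.two_le; omega
    refine ⟨-1, 4 * m, 2 * m + 1, d, u, n, s₁, s₂, Or.inr rfl, dvd_mul_right 4 m, ⟨m, rfl⟩,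
      by rw [hm]; push_cast; ring, by rw [hm]; push_cast; ring, ?_⟩
    have hdo' : orderOf d = 4 * m := by rw [hdo, hm, Nat.add_sub_cancel]
    have hno' : orderOf n = 2 * (2 * m + 1) := by rw [hno, hm]; ring
    exact
      { index := hidx
        conj_inner := fun v w hv hw => isConj_inner hodd hv hw
        conj_outer := fun v w hv hw => isConj_outer hodd hv hw
        a_order := hdo', a_notMem := hdP, u_order := huo, b_order := hno', b_notMem := hnP
        s_order := hs₁o, s_notMem := hs₁P, s_conj := hs₁c, s_notin := hs₁n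
        r_order := hs₂o, r_conj := hs₂c, r_notin := hs₂n
        selfW := hs₁s, selfG := hs₂s
        kerU := fun x hx => kerU_unip hodd hx
        surU := fun j hj => surU_unip hj
        crossWU := fun e he he1 x => cross_coprime he he1 (by
          rw [hdo', huo]; exact hcop _ (by omega) (by omega) (by omega))
        crossWG := fun e he he1 x => cross_two hidx (h := 2 * m) (by rw [hdo']; ring)
          (even_two_mul m) hno' hnP (hgcd _ _ (Or.inl (by ring))) he he1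
        crossUG := fun e he he1 x => cross_coprime he he1 (by
          rw [huo, hno]; exact (hcop _ (by omega) le_rfl (by omega)).symm)
        invU := fun h => absurd h (by norm_num)
        borel := fun _ => hdU }

end Cfsg.Agent.SDCyclic
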