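import Cfsg.Agent.Lib.SDCyclic.Shapes
import Cfsg.Agent.Lib.SDCyclic.AutPrime
import Cfsg.Agent.Lib.SDCyclic.CyclicSylow
import Cfsg.Agent.Lib.GWRankOne.Pieces
import Cfsg.Agent.Lib.Transfer.Central
import Cfsg.Agent.S0205

/-!
# Perfect groups with cyclic odd Sylow subgroups and almost cyclic Sylow 2-subgroups

`perfect_structure`: such a group is `PSL(2, p)` or `SL(2, p)`, given the second part of
Gorenstein-Walter and the exclusion of semidihedral Sylow 2-subgroups.
-/

set_option autoImplicit false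
set_option linter.style.haveILetI false
set_option linter.unusedSectionVars false

namespace Cfsg.Agent.SDCyclic

open Subgroup
open scoped MatrixGroups

universe u v

/-- Semidihedral Sylow 2-subgroups, cyclic odd Sylow subgroups and no subgroup of index two do not
occur together. -/
def SDExcluded : Prop :=
  ∀ (X : Type u) [Group X] [Finite X] (S : Sylow 2 X), Cfsg.IsQuasiDihedral (S : Subgroup X) →
    (∀ H : Subgroup X, H.index ≠ 2) → CycSylow X → False

theorem CycSylow.of_injective {G : Type u} [Group G] [Finite G] {H : Type v} [Group H] [Finite H]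
    (hc : CycSylow G) (f : H →* G) (hf : Function.Injective f) : CycSylow H := by
  intro p hp hp2 P
  haveI := hc.isCyclic_of_isPGroup hp hp2 (P.2.map f)
  exact isCyclic_of_injective ((P : Subgroup H).equivMapOfInjective f hf).toMonoidHom
    (MulEquiv.injective _)

theorem CycSylow.of_surjective {G : Type u} [Group G] [Finite G] {H : Type v} [Group H] [Finite H]
    (hc : CycSylow G) (f : G →* H) (hf : Function.Surjective f) : CycSylow H := by
  intro p hp hp2 Q
  haveI := Fact.mk hp
  obtain ⟨P⟩ : Nonempty (Sylow p G) := inferInstance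
  haveI := hc p hp hp2 P
  haveI : IsCyclic ((P.mapSurjective hf : Sylow p H) : Subgroup H) := by
    rw [Sylow.coe_mapSurjective]
    exact isCyclic_of_surjective (f.subgroupMap (P : Subgroup G)) (f.subgroupMap_surjective _)
  exact isCyclic_of_surjective _ ((P.mapSurjective hf).equiv Q).surjective

theorem CycIndexTwo.of_injective {T : Type u} [Group T] [Finite T] {T' : Type v} [Group T']
    [Finite T'] (h : CycIndexTwo T) (f : T' →* T) (hf : Function.Injective f) : CycIndexTwo T' := by
  obtain ⟨C, hC, hCi⟩ := h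
  refine ⟨C.comap f, isCyclic_of_injective
    ((f.comp (C.comap f).subtype).codRestrict C fun x => x.2)
    (fun x y e => Subtype.ext (hf (congrArg Subtype.val e))), ?_⟩
  rw [Subgroup.index_comap]
  have h1 : C.relIndex f.range ≤ C.relIndex ⊤ :=
    relIndex_le_of_le_right le_top (by rw [relIndex_top_right]; exact FiniteIndex.index_ne_zero)
  rw [relIndex_top_right] at h1
  have h2 : C.relIndex f.range ≠ 0 :=
    fun h => FiniteIndex.index_ne_zero (H := C.subgroupOf f.range) h
  have h3 := Nat.le_of_dvd two_pos hCi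
  rcases (show C.relIndex f.range = 1 ∨ C.relIndex f.range = 2 by omega) with e | e <;> rw [e] <;>
    norm_num

theorem sylowIndexTwo_of_injective {G : Type u} [Group G] [Finite G] {H : Type v} [Group H]
    [Finite H] (h : ∀ S : Sylow 2 G, CycIndexTwo (S : Subgroup G)) (f : H →* G)
    (hf : Function.Injective f) (T : Sylow 2 H) : CycIndexTwo (T : Subgroup H) := by
  obtain ⟨S, hS⟩ := (T.2.map f).exists_le_sylow
  exact (h S).of_injective ((Subgroup.inclusion hS).comp
      ((T : Subgroup H).equivMapOfInjective f hf).toMonoidHom)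
    ((Subgroup.inclusion_injective hS).comp (MulEquiv.injective _))

variable {G : Type u} [Group G] [Finite G]

/-- A perfect group with cyclic odd Sylow subgroups has no odd core. -/
theorem oddCore_eq_bot_of_perfect [Group.IsPerfect G] (hc : CycSylow G) :
    Cfsg.oddCore G = ⊥ := by
  have hodd : Odd (Nat.card (Cfsg.oddCore G)) := PCore.odd_card_oddCore
  have hO : IsZGroup (Cfsg.oddCore G) := hc.isZGroup hodd
  have hN : ∀ n ∈ (⊤ : Subgroup G), n ∈ normalizer (Cfsg.oddCore G : Set G) := fun n _ => by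
    rw [Subgroup.normalizer_eq_top_iff.2 inferInstance]
    exact mem_top n
  have htop : ∀ c : G, c ∈ ⁅(⊤ : Subgroup G), (⊤ : Subgroup G)⁆ := fun c => by
    rw [← commutator_def, Group.IsPerfect.commutator_eq_top]
    exact mem_top c
  -- the odd core is central
  have hcen : Cfsg.oddCore G ≤ center G := by
    intro x hx
    rw [mem_center_iff]
    -- `c ↦ [c, x]` is multiplicative and kills commutators
    let ζ : G →* (⁅Cfsg.oddCore G, Cfsg.oddCore G⁆ : Subgroup G) :=
      { toFun := fun c => ⟨c * x * c⁻¹ * x⁻¹, conj_mul_inv_mem_commutator hO hN (htop c) hx⟩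
        map_one' := Subtype.ext (by simp)
        map_mul' := fun a b => Subtype.ext (by
          have h1 := conj_mul_inv_mem_commutator hO hN (htop b) hx
          have h2 := (commute_commutator_of_mem hO hN (htop a) h1).eq
          have h3 : ∀ y ∈ ⁅Cfsg.oddCore G, Cfsg.oddCore G⁆,
              Commute y (a * x * a⁻¹ * x⁻¹) := fun y hy => by
            have h4 := conj_mul_inv_mem_commutator hO hN (htop a) hx
            exact commute_commutator_of_mem hO hN (htop y) h4
          show a * b * x * (a * b)⁻¹ * x⁻¹ = a * x * a⁻¹ * x⁻¹ * (b * x * b⁻¹ * x⁻¹)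
          calc a * b * x * (a * b)⁻¹ * x⁻¹
              = a * (b * x * b⁻¹ * x⁻¹) * a⁻¹ * (a * x * a⁻¹ * x⁻¹) := by group
            _ = (b * x * b⁻¹ * x⁻¹) * (a * x * a⁻¹ * x⁻¹) := by rw [h2, mul_inv_cancel_right]
            _ = _ := (h3 _ h1).eq) }
    intro c
    have hmem : c ∈ ζ.ker := by
      have hle : commutator G ≤ ζ.ker := by
        rw [commutator_def, commutator_le]
        intro a _ b _
        rw [MonoidHom.mem_ker, map_commutatorElement, commutatorElement_eq_one_iff_commute]
        exact Subtype.ext (commute_commutator_of_mem hO hN (htop _) (ζ b).2).eq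
      exact hle (by rw [Group.IsPerfect.commutator_eq_top]; exact mem_top c)
    have h1 : c * x * c⁻¹ * x⁻¹ = 1 := congrArg Subtype.val (MonoidHom.mem_ker.1 hmem)
    exact mul_inv_eq_iff_eq_mul.1 (mul_inv_eq_one.1 h1)
  by_contra hne
  obtain ⟨p, hp, hpO⟩ := Nat.exists_prime_and_dvd
    (fun h => hne (Subgroup.card_eq_one.1 h) : Nat.card (Cfsg.oddCore G) ≠ 1)
  haveI := Fact.mk hp
  have hp2 : p ≠ 2 := fun h => hodd.not_two_dvd_nat (h ▸ hpO)
  obtain ⟨⟨x, hx⟩, hxo⟩ := exists_prime_orderOf_dvd_card' (G := Cfsg.oddCore G) p hpO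
  obtain ⟨P⟩ : Nonempty (Sylow p G) := inferInstance
  haveI := hc p hp hp2 P
  haveI : IsMulCommutative (P : Subgroup G) := IsCyclic.isMulCommutative
  refine Transfer.not_dvd_orderOf_central_commutator P (hcen hx) ?_ ?_
  · rw [Group.IsPerfect.commutator_eq_top]; exact mem_top x
  · rw [← Subgroup.orderOf_mk x hx, hxo]

theorem not_alternating_seven {H : Type v} [Group H] [Finite H] (hc : CycSylow H)
    (e : H ≃* alternatingGroup (Fin 7)) : False := by
  have d1 : ∃ a b : alternatingGroup (Fin 7), a * a * a = 1 ∧ a ≠ 1 ∧ b * b * b = 1 ∧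
      a * b = b * a ∧ b ≠ 1 ∧ b ≠ a ∧ b ≠ a * a :=
    ⟨⟨Equiv.swap 0 1 * Equiv.swap 1 2, by simp [Equiv.Perm.mem_alternatingGroup]⟩,
      ⟨Equiv.swap 3 4 * Equiv.swap 4 5, by simp [Equiv.Perm.mem_alternatingGroup]⟩, by decide⟩
  obtain ⟨a, b, ha, ha1, hb, hab, hb1, hba, hbaa⟩ := d1
  have hao : orderOf (e.symm a) = 3 := by
    rw [MulEquiv.orderOf_eq]
    exact orderOf_eq_prime (by rw [pow_succ, pow_two]; exact ha) ha1
  have h := hc.mem_zpowers_of_commute (p := 3) Nat.prime_three (by norm_num)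
    (x := e.symm a) (y := e.symm b) hao (by rw [← map_pow, pow_succ, pow_two, hb, map_one])
    (by show e.symm a * e.symm b = e.symm b * e.symm a; rw [← map_mul, hab, map_mul])
  obtain ⟨i, hi⟩ := mem_powers_iff_mem_zpowers.2 h
  simp only at hi
  rw [← map_pow, EmbeddingLike.apply_eq_iff_eq, ← Nat.mod_add_div i 3, pow_add, pow_mul,
    show a ^ 3 = 1 by rw [pow_succ, pow_two]; exact ha, one_pow, mul_one] at hi
  have : i % 3 < 3 := Nat.mod_lt _ (by norm_num)
  interval_cases h : i % 3
  · exact hb1 (by rw [← hi, pow_zero])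
  · exact hba (by rw [← hi, pow_one])
  · exact hbaa (by rw [← hi, pow_two])

/-- `SL` over isomorphic fields. -/
noncomputable def slCongr {F K : Type} [Field F] [Field K] (e : F ≃+* K) : SL(2, F) ≃* SL(2, K) :=
  { Matrix.SpecialLinearGroup.map (e : F →+* K) with
    invFun := Matrix.SpecialLinearGroup.map (e.symm : K →+* F)
    left_inv := fun g => by
      apply Matrix.SpecialLinearGroup.ext
      intro i j
      exact e.symm_apply_apply _
    right_inv := fun g => by
      apply Matrix.SpecialLinearGroup.ext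
      intro i j
      exact e.apply_symm_apply _ }

/-- The possibilities for a perfect group. -/
inductive PerfectShape (L : Type u) [Group L] (p : ℕ) [Fact p.Prime] : Prop
  | psl : center L = ⊥ → Nonempty (L ≃* Matrix.ProjectiveSpecialLinearGroup (Fin 2) (ZMod p)) →
      (∃ a b : L, a * a = 1 ∧ b * b = 1 ∧ a ≠ 1 ∧ b ≠ 1 ∧ b ≠ a ∧ a * b = b * a) →
      PerfectShape L p
  | sl : Nat.card (center L) = 2 →
      Nonempty (L ⧸ center L ≃* Matrix.ProjectiveSpecialLinearGroup (Fin 2) (ZMod p)) →
      Nonempty (L ≃* Matrix.SpecialLinearGroup (Fin 2) (ZMod p)) →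
      (∃ i j : L, i * j ≠ j * i ∧ i ^ 4 = 1 ∧ j * j = i * i ∧ i * j * (i * j) = i * i ∧
        IsPGroup 2 (closure ({i, j} : Set L))) →
      PerfectShape L p

theorem exists_four_of_dihedral {n : ℕ} (hn : Even n) (h2 : 2 ≤ n) :
    ∃ a b : DihedralGroup n, a * a = 1 ∧ b * b = 1 ∧ a ≠ 1 ∧ b ≠ 1 ∧ b ≠ a ∧ a * b = b * a := by
  obtain ⟨m, rfl⟩ := hn
  have hm0 : ((m : ℕ) : ZMod (m + m)) ≠ 0 := by
    rw [Ne, ZMod.natCast_eq_zero_iff]
    intro h
    have := Nat.le_of_dvd (by omega) h
    omega
  have hmm : ((m : ℕ) : ZMod (m + m)) + m = 0 := by rw [← Nat.cast_add]; exact ZMod.natCast_self _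
  refine ⟨.r (m : ℕ), .sr 0, ?_, DihedralGroup.sr_mul_self 0, ?_, ?_, ?_, ?_⟩
  · rw [DihedralGroup.r_mul_r, hmm]; rfl
  · rw [DihedralGroup.one_def]; exact fun h => hm0 (DihedralGroup.r.inj h)
  · rw [DihedralGroup.one_def]; exact fun h => by cases h
  · exact fun h => by cases h
  · rw [DihedralGroup.r_mul_sr, DihedralGroup.sr_mul_r, zero_sub, zero_add]
    congr 1
    exact neg_eq_of_add_eq_zero_left hmm

theorem exists_pair_of_quaternion {N : ℕ} (hN : Even N) (h2 : 2 ≤ N) :
    ∃ i j : QuaternionGroup N, i * j ≠ j * i ∧ i ^ 4 = 1 ∧ j * j = i * i ∧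
      i * j * (i * j) = i * i := by
  obtain ⟨m, rfl⟩ := hN
  refine ⟨.a (m : ℕ), .xa 0, ?_, ?_, ?_, ?_⟩
  · rw [QuaternionGroup.a_mul_xa, QuaternionGroup.xa_mul_a, zero_sub, zero_add]
    intro h
    have h1 := QuaternionGroup.xa.inj h
    have h3 : ((m + m : ℕ) : ZMod (2 * (m + m))) = 0 := by
      push_cast
      linear_combination -h1
    rw [ZMod.natCast_eq_zero_iff] at h3
    have := Nat.le_of_dvd (by omega) h3
    omega
  · rw [show 4 = 2 * 2 from rfl, pow_mul, pow_two, pow_two, QuaternionGroup.a_mul_a,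
      QuaternionGroup.a_mul_a, QuaternionGroup.one_def]
    congr 1
    rw [← ZMod.natCast_self (2 * (m + m))]
    push_cast
    ring
  · rw [QuaternionGroup.xa_mul_xa, QuaternionGroup.a_mul_a]
    congr 1
    push_cast
    ring
  · rw [QuaternionGroup.a_mul_xa, QuaternionGroup.xa_mul_xa, QuaternionGroup.a_mul_a]
    congr 1
    push_cast
    ring

/-- **The perfect case.** -/
theorem perfect_structure (h2 : GW.PartTwo.{u}) (hSD : SDExcluded.{u}) [Group.IsPerfect G]
    [Nontrivial G] (hc : CycSylow G) (hS : ∀ S : Sylow 2 G, CycIndexTwo (S : Subgroup G)) :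
    ∃ (p : ℕ) (_ : Fact p.Prime), 5 ≤ p ∧ PerfectShape G p := by
  haveI : Fact (Nat.Prime 2) := ⟨Nat.prime_two⟩
  have hns : ¬ Group.IsSolvable G := fun h => by
    haveI := GW.subsingleton_of_isPerfect h
    exact not_subsingleton G ‹_›
  have hev : 2 ∣ Nat.card G := by
    by_contra h
    exact hns (S0205.result (Nat.odd_iff.2 (Nat.two_dvd_ne_zero.1 h)))
  have hO := oddCore_eq_bot_of_perfect hc
  obtain ⟨S⟩ : Nonempty (Sylow 2 G) := inferInstance
  have hfield : ∀ (F : Type) [Field F] [Fintype F] (H : Type u) [Group H] [Finite H],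
      CycSylow H → Odd (Fintype.card F) → 3 < Fintype.card F →
      Nonempty (H ≃* Matrix.ProjectiveSpecialLinearGroup (Fin 2) F) →
      ∃ (p : ℕ) (_ : Fact p.Prime), 5 ≤ p ∧ Nonempty (F ≃+* ZMod p) := by
    intro F _ _ H _ _ hcH hodd h3 ⟨f⟩
    haveI : Finite (Matrix.ProjectiveSpecialLinearGroup (Fin 2) F) := Finite.of_equiv _ f.toEquiv
    have hp := card_prime_of_cyclic hodd fun p hp hp2 Q hQ =>
      (hcH.of_surjective f.toMonoidHom f.surjective).isCyclic_of_isPGroup hp hp2 hQ
    refine ⟨_, ⟨hp⟩, ?_, ⟨(@ZMod.ringEquivOfPrime F _ _ _ hp rfl).symm⟩⟩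
    obtain ⟨k, hk⟩ := hodd
    omega
  rcases shape_of_perfect hev S (hS S) with ⟨n, hn, ⟨e⟩⟩ | ⟨n, hn, ⟨e⟩⟩ | hq
  · -- dihedral
    have hk := GW.known_of_perfect h2 S hn ⟨e⟩
    have hk' : GW.IsKnown G :=
      hk.of_equiv ((QuotientGroup.quotientMulEquivOfEq hO).trans QuotientGroup.quotientBot)
    rcases hk' with ⟨F, iF, iF', hodd, h3, ⟨f⟩⟩ | ⟨⟨f⟩⟩
    · obtain ⟨p, hp, h5, ⟨g⟩⟩ := hfield F G hc hodd h3 ⟨f⟩
      refine ⟨p, hp, h5, PerfectShape.psl ?_ ⟨f.trans (PSL2.pslCongr g)⟩ ?_⟩
      · haveI := PSL2.psl_isSimpleGroup (F := F) (by omega)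
        haveI : IsSimpleGroup G := f.isSimpleGroup
        rcases (inferInstance : (center G).Normal).eq_bot_or_eq_top with h | h
        · exact h
        · exfalso
          refine hns ?_
          have : ∀ a b : G, a * b = b * a := fun a b =>
            (mem_center_iff.1 (h.symm ▸ mem_top a : a ∈ center G) b).symm
          exact IsSimpleGroup.comm_iff_isSolvable.1 this
      · have hev' : Even n := by
          obtain ⟨k, hk⟩ := S.2.exists_card_eq
          rw [Nat.card_congr e.toEquiv, DihedralGroup.nat_card] at hk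
          rcases k with _ | _ | k
          · omega
          · omega
          · exact ⟨2 ^ k, by rw [pow_succ, pow_succ] at hk; omega⟩
        obtain ⟨a, b, ha, hb, ha1, hb1, hba, hab⟩ := exists_four_of_dihedral hev' hn
        refine ⟨(e.symm a : G), (e.symm b : G), ?_, ?_, ?_, ?_, ?_, ?_⟩
        · rw [← Subgroup.coe_mul, ← map_mul, ha, map_one]; rfl
        · rw [← Subgroup.coe_mul, ← map_mul, hb, map_one]; rfl
        · simpa using ha1
        · simpa using hb1
        · simpa using hba
        · rw [← Subgroup.coe_mul, ← map_mul, hab, map_mul]; rfl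
    · exact (not_alternating_seven hc f).elim
  · -- quaternion
    obtain ⟨hZ, -, h⟩ := GWRankOne.perfect_cover h2 hO S hn e
    rcases h with ⟨F, iF, iF', hodd, ⟨f⟩⟩ | ⟨-, ⟨f⟩⟩
    · have h3 : 3 < Fintype.card F := by
        by_contra h
        have h1 := Fintype.one_lt_card (α := F)
        obtain ⟨k, hk⟩ := hodd
        haveI : Group.IsSolvable SL(2, F) := by
          refine CharInt.isSolvable_of_card_eq (a := 3) (b := 1) Nat.prime_two Nat.prime_three ?_
          rw [PSL2.card_SL, show Fintype.card F = 3 by omega]; rfl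
        exact hns (solvable_of_solvable_injective (f := f.toMonoidHom) f.injective)
      have f' : (G ⧸ center G) ≃* Matrix.ProjectiveSpecialLinearGroup (Fin 2) F :=
        QuotientGroup.congr _ _ f (PSL2.map_center_equiv f)
      obtain ⟨p, hp, h5, ⟨g⟩⟩ := hfield F (G ⧸ center G)
        (hc.of_surjective _ (QuotientGroup.mk'_surjective _)) hodd h3 ⟨f'⟩
      refine ⟨p, hp, h5, PerfectShape.sl hZ ⟨f'.trans (PSL2.pslCongr g)⟩
        ⟨f.trans (slCongr g)⟩ ?_⟩
      obtain ⟨i, j, hij, hi, hj, hijj⟩ := exists_pair_of_quaternion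
        (N := 2 ^ n) (Nat.even_pow.2 ⟨even_two, by omega⟩)
        (by calc 2 = 2 ^ 1 := rfl
              _ ≤ 2 ^ n := Nat.pow_le_pow_right two_pos hn)
      refine ⟨(e.symm i : G), (e.symm j : G), fun h => hij ?_, ?_, ?_, ?_, ?_⟩
      · have h1 : e.symm i * e.symm j = e.symm j * e.symm i := Subtype.ext h
        rw [← map_mul, ← map_mul] at h1
        exact e.symm.injective h1
      · rw [← Subgroup.coe_pow, ← map_pow, hi, map_one]; rfl
      · rw [← Subgroup.coe_mul, ← Subgroup.coe_mul, ← map_mul, ← map_mul, hj]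
      · rw [← Subgroup.coe_mul, ← Subgroup.coe_mul, ← Subgroup.coe_mul, ← map_mul, ← map_mul,
          ← map_mul, hijj]
      · refine S.2.to_le ((closure_le _).2 ?_)
        rintro x (rfl | rfl) <;> exact SetLike.coe_mem _
    · exact (not_alternating_seven (hc.of_surjective _ (QuotientGroup.mk'_surjective _)) f).elim
  · -- semidihedral
    refine (hSD G S hq (fun H hH => ?_) hc).elim
    haveI := Subgroup.normal_of_index_eq_two hH
    haveI := GW.isPerfect_quotient H
    have hq2 : Nat.card (G ⧸ H) = 2 := hH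
    haveI : IsCyclic (G ⧸ H) := isCyclic_of_prime_card hq2
    letI := IsCyclic.commGroup (α := G ⧸ H)
    haveI := GW.subsingleton_of_isPerfect (Y := G ⧸ H) inferInstance
    rw [Nat.card_of_subsingleton (1 : G ⧸ H)] at hq2
    omega

end Cfsg.Agent.SDCyclic
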