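import Cfsg.Agent.Lib.SDCyclic.Constituents
import Cfsg.Agent.Lib.ZStar.SectionAverage
import Cfsg.Agent.Lib.ZStar.SecondMain
import Cfsg.Agent.Lib.Char.PRegularBlock
import Cfsg.Agent.Lib.BlockCount.Criterion
import Cfsg.Agent.Lib.Blocks.SecondMain

/-!
# The principal block and the value of the exceptional character at `z`

`X` lies in the principal 2-block, so the function `y ↦ X (z y)` on the odd elements of `C(z)` is
orthogonal to the characters outside the principal block of `C(z)`; for the characters `± (Ind ν -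
Ind ρ)` this gives `X(z) = ε (E + 2 g D)`.
-/

set_option autoImplicit false
set_option linter.style.haveILetI false
set_option linter.unusedSectionVars false

namespace Cfsg.Agent.SDCyclic

open Cfsg
open scoped ComplexConjugate Classical

universe u

/-- Sums over two periods. -/
theorem sum_range_two_mul {R : Type*} [AddCommMonoid R] (f : ℕ → R) (n : ℕ) :
    ∑ i ∈ Finset.range (2 * n), (if Even i then f i else 0) =
      ∑ m ∈ Finset.range n, f (2 * m) := by
  induction n with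
  | zero => simp
  | succ n ih =>
    rw [show 2 * (n + 1) = 2 * n + 1 + 1 by ring, Finset.sum_range_succ, Finset.sum_range_succ, ih,
      Finset.sum_range_succ, if_pos (even_two_mul n),
      if_neg (Nat.not_even_iff_odd.2 (odd_two_mul_add_one n)), add_zero]

theorem classInner_wt_avg {G : Type u} [Group G] [Fintype G] {L : Subgroup G} {a : G} {n : ℕ}
    (c : CycOver L a n) [Fintype L] {f : ℕ → ℂ} (hf : Function.Periodic f n) {Φ : G → ℂ}
    (hΦ : IsClassFunction G Φ) {V : ℕ → ℂ}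
    (hV : ∀ i, i < n → ∑ k : L, Φ ((k : G) * a ^ i) = (Nat.card L : ℂ) * V i) :
    classInner (indFun (cyc L a) (c.wt f)) Φ =
      (n : ℂ)⁻¹ * ∑ i ∈ Finset.range n, f i * conj (V i) := by
  haveI := Fintype.ofFinite (cyc L a)
  rw [Char.classInner_indFun _ _ hΦ, classInner,
    Finset.sum_congr rfl (g := fun x : cyc L a =>
      (fun y => extendByZero (cyc L a) (c.wt f) y * conj (Φ y)) x) fun x _ => by
        simp only [Char.extendByZero_coe],
    c.sum_cyc fun y => extendByZero (cyc L a) (c.wt f) y * conj (Φ y),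
    Finset.sum_congr rfl (g := fun i => (Nat.card L : ℂ) * (f i * conj (V i))) fun i hi => ?_,
    ← Finset.mul_sum, c.card_cyc, Nat.cast_mul, mul_inv]
  · rw [mul_comm ((Nat.card L : ℂ))⁻¹, mul_assoc, ← mul_assoc ((Nat.card L : ℂ))⁻¹,
      inv_mul_cancel₀ (card_ne _), one_mul]
  · rw [Finset.sum_congr rfl (g := fun x : L => f i * conj (Φ ((x : G) * a ^ i))) fun x _ => by
      rw [c.ext_wt hf x.2 rfl], ← Finset.mul_sum, ← map_sum, hV i (Finset.mem_range.1 hi),
      map_mul, map_natCast]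
    ring

variable {G : Type u} [Group G] [Fintype G] {z : G} {q : ℕ} {η : ℤ} {l g o : ℕ}

namespace Cent

variable (d : Cent z q η l g o)
include d

/-- `C(z)`. -/
abbrev C (_d : Cent z q η l g o) : Subgroup G := Subgroup.centralizer ({z} : Set G)

theorem mem_C {x : G} (h : Commute z x) : x ∈ d.C :=
  Subgroup.mem_centralizer_singleton_iff.2 h.eq.symm

theorem comm_C (y : d.C) : Commute z (y : G) :=
  (Subgroup.mem_centralizer_singleton_iff.1 y.2).symm

theorem odd_pow {a : G} {h : ℕ} (c : CycOver d.K a (2 * h)) (hodd : Odd h) {i : ℕ} (hi : Even i)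
    {k : G} (hk : k ∈ d.K) : Odd (orderOf (k * a ^ i)) := by
  obtain ⟨y, hy, e⟩ := c.mul_pow_pow hk i h
  obtain ⟨m, rfl⟩ := hi
  have h1 : (k * a ^ (m + m)) ^ h ∈ d.K := by
    rw [e]
    exact mul_mem hy ((c.mem_iff _).2 ⟨m, by ring⟩)
  have h2 : (k * a ^ (m + m)) ^ (h * Nat.card d.K) = 1 := by
    rw [pow_mul]
    exact orderOf_dvd_iff_pow_eq_one.1 (Subgroup.orderOf_dvd_natCard d.K h1)
  exact (hodd.mul d.oddK).of_dvd_nat (orderOf_dvd_of_pow_eq_one h2)

theorem even_of_odd_order {a : G} {h : ℕ} (c : CycOver d.K a (2 * h)) {i : ℕ} {k : G}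
    (hk : k ∈ d.K) (ho : Odd (orderOf (k * a ^ i))) : Even i := by
  obtain ⟨y, hy, e⟩ := c.mul_pow_pow hk i (orderOf (k * a ^ i))
  rw [pow_orderOf_eq_one] at e
  have h1 : 2 * h ∣ i * orderOf (k * a ^ i) := Nat.modEq_zero_iff_dvd.1
    (c.pow_mem_cyc_eq hy d.K.one_mem (j := 0) (by simpa using e.symm))
  have h2 : Even (i * orderOf (k * a ^ i)) := even_iff_two_dvd.2 ((dvd_mul_right 2 h).trans h1)
  exact (Nat.even_mul.1 h2).resolve_right (Nat.not_even_iff_odd.2 ho)

/-! ### `X` lies in the principal block -/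

theorem rootW_prim {ω : ℂ} (hω : IsPrimitiveRoot ω (2 ^ (l + 1))) : ω ^ (2 * d.W) = 1 :=
  RootW.pow_two_W d hω.pow_eq_one

theorem lam_eq_one_iff {ω : ℂ} (hω : IsPrimitiveRoot ω (2 ^ (l + 1))) {x : d.Aw} :
    d.cwW.lam (d.rootW_prim hω) x = 1 ↔ Odd (orderOf (x : G)) := by
  obtain ⟨k, hk, i, -, e⟩ := d.cwW.existsUnique_coord x.2
  rw [d.cwW.lam_apply _ hk e, hω.pow_eq_one_iff_dvd, e]
  refine ⟨fun ⟨m, hm⟩ => ?_, fun ho => ?_⟩
  · obtain ⟨y, hy, e'⟩ := d.cwW.mul_pow_pow hk i o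
    have h1 : (k * d.aw ^ i) ^ o ∈ d.K := by
      rw [e']
      refine mul_mem hy ((d.cwW.mem_iff _).2 ⟨m, ?_⟩)
      rw [hm, pow_succ, Cent.W]; ring
    have h2 : (k * d.aw ^ i) ^ (o * Nat.card d.K) = 1 := by
      rw [pow_mul]
      exact orderOf_dvd_iff_pow_eq_one.1 (Subgroup.orderOf_dvd_natCard d.K h1)
    exact (d.ho.mul d.oddK).of_dvd_nat (orderOf_dvd_of_pow_eq_one h2)
  · obtain ⟨y, hy, e'⟩ := d.cwW.mul_pow_pow hk i (orderOf (k * d.aw ^ i))
    rw [pow_orderOf_eq_one] at e'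
    have h1 : 2 * d.W ∣ i * orderOf (k * d.aw ^ i) := Nat.modEq_zero_iff_dvd.1
      (d.cwW.pow_mem_cyc_eq hy d.K.one_mem (j := 0) (by simpa using e'.symm))
    refine ((Nat.coprime_two_left.2 ho).pow_left (l + 1)).dvd_of_dvd_mul_right
      (dvd_trans ⟨o, ?_⟩ h1)
    rw [Cent.W, pow_succ]; ring

/-- Decomposition into the parts of even and odd order. -/
theorem exists_two_parts (x : G) :
    ∃ s t : ℕ, x ^ s * x ^ t = x ∧ (∃ k, orderOf (x ^ s) = 2 ^ k) ∧ Odd (orderOf (x ^ t)) := by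
  obtain ⟨e, m, hm, he⟩ := Nat.exists_eq_two_pow_mul_odd (orderOf_pos x).ne'
  have hco : (2 ^ e).Coprime m := (Nat.coprime_two_left.2 hm).pow_left e
  obtain ⟨s, hs1, hs2⟩ := Nat.chineseRemainder hco 1 0
  obtain ⟨t, ht1, ht2⟩ := Nat.chineseRemainder hco 0 1
  refine ⟨s, t, ?_, ?_, ?_⟩
  · rw [← pow_add]
    conv_rhs => rw [← pow_one x]
    rw [pow_eq_pow_iff_modEq, he]
    refine (Nat.modEq_and_modEq_iff_modEq_mul hco).1 ⟨?_, ?_⟩
    · simpa using hs1.add ht1
    · simpa using hs2.add ht2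
  · have h : (x ^ s) ^ 2 ^ e = 1 := by
      rw [← pow_mul, ← orderOf_dvd_iff_pow_eq_one, he, mul_comm (2 ^ e) m]
      exact mul_dvd_mul_right (Nat.modEq_zero_iff_dvd.1 hs2) _
    obtain ⟨k, -, hk⟩ := (Nat.dvd_prime_pow Nat.prime_two).1 (orderOf_dvd_of_pow_eq_one h)
    exact ⟨k, hk⟩
  · have h : (x ^ t) ^ m = 1 := by
      rw [← pow_mul, ← orderOf_dvd_iff_pow_eq_one, he]
      exact mul_dvd_mul_right (Nat.modEq_zero_iff_dvd.1 ht1) _
    exact hm.of_dvd_nat (orderOf_dvd_of_pow_eq_one h)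

theorem wt_mul_odd {u v : G} (hu : u ∈ d.Aw) (hv : v ∈ d.Aw) (ho : Odd (orderOf v)) :
    extendByZero d.Aw (d.cwW.wt fun i => (1 : ℂ) ^ i - Complex.I ^ i) (u * v) =
      extendByZero d.Aw (d.cwW.wt fun i => (1 : ℂ) ^ i - Complex.I ^ i) u := by
  obtain ⟨k, hk, i, -, e⟩ := d.cwW.existsUnique_coord hu
  obtain ⟨k', hk', j, -, e'⟩ := d.cwW.existsUnique_coord hv
  have hp := periodic_pow_sub (one_pow (2 * d.W)) (RootW.pow_two_W d d.rootW_I)
  have h4 : 4 ∣ j := by
    obtain ⟨y, hy, e''⟩ := d.cwW.mul_pow_pow hk' j (orderOf v)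
    rw [← e', pow_orderOf_eq_one] at e''
    have h1 : 2 * d.W ∣ j * orderOf v := Nat.modEq_zero_iff_dvd.1
      (d.cwW.pow_mem_cyc_eq hy d.K.one_mem (j := 0) (by simpa using e''.symm))
    exact ((Nat.coprime_two_left.2 ho).pow_left 2).dvd_of_dvd_mul_right
      ((d.four_dvd_W.trans (dvd_mul_left _ 2)).trans h1)
  rw [d.cwW.ext_wt hp (mul_mem hk (d.cwW.norm_pow i hk')) (j := i + j)
      (by rw [e, e', pow_add]; group), d.cwW.ext_wt hp hk e]
  obtain ⟨m, rfl⟩ := h4
  simp only [one_pow, pow_add, pow_mul Complex.I 4, I_pow_four, mul_one]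

theorem classInner_alpha_outside {M : Ideal AlgInt} (hM : IsPModular 2 M) {χ : IrrCharacter G}
    (hχ : χ ∉ principalBlock M G) : classInner d.alpha χ.1 = 0 := by
  classical
  obtain ⟨ω, hω⟩ : ∃ ω : ℂ, IsPrimitiveRoot ω (2 ^ (l + 1)) :=
    ⟨_, Complex.isPrimitiveRoot_exp (2 ^ (l + 1)) (pow_ne_zero _ two_ne_zero)⟩
  haveI := Fintype.ofFinite d.Aw
  set w : G → ℂ := extendByZero d.Aw (d.cwW.wt fun i => (1 : ℂ) ^ i - Complex.I ^ i) with hwdef
  rw [show d.alpha = indFun d.Aw (d.cwW.wt fun i => (1 : ℂ) ^ i - Complex.I ^ i) from rfl,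
    Char.classInner_indFun _ _ (Char.IsCharacter.isClassFunction (Char.irr_isCharacter χ)),
    classInner, Finset.sum_congr rfl (g := fun a : d.Aw => w a * conj (χ.1 a)) fun a _ => by
      rw [hwdef, Char.extendByZero_coe]]
  refine mul_eq_zero_of_right _ ?_
  -- the odd part of the centralizer of a 2-element of nonzero weight
  have hodd : ∀ u ∈ d.Aw, (∃ k, orderOf u = 2 ^ k) → w u ≠ 0 →
      ∀ v, Commute u v → Odd (orderOf v) → v ∈ d.Aw := by
    intro u hu _ hne v hv ho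
    obtain ⟨k, hk, i, -, e⟩ := d.cwW.existsUnique_coord hu
    have hne' : (1 : ℂ) ^ i - Complex.I ^ i ≠ 0 := by
      rwa [hwdef, d.cwW.ext_wt (periodic_pow_sub (one_pow _) (RootW.pow_two_W d d.rootW_I)) hk e]
        at hne
    have h2 : ¬ 2 ^ (l + 1) ∣ i := (d.weight_ne_zero d.rootW_one d.rootW_I hne').2
    have hW : ¬ d.W ∣ i := fun h => hne' (by
      obtain ⟨m, rfl⟩ := d.four_dvd_W.trans h
      rw [one_pow, pow_mul, I_pow_four, one_pow, sub_self])
    obtain ⟨m, hm⟩ := d.exists_mul_modEq_W h2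
    obtain ⟨N, hN⟩ := d.exists_pow_eq_z d.cwW d.zwW hk hm
    rw [← e] at hN
    have hzv : Commute z v := hN ▸ hv.pow_left N
    have hKZ : u ∉ d.KZ := fun h => hW ((d.mem_KZ_iff d.cwW d.zwW hk i).1 (e ▸ h))
    have hmem : v⁻¹ * u * v ∈ d.Aw := by
      rw [show v⁻¹ * u * v = u by rw [mul_assoc, hv.eq, inv_mul_cancel_left]]
      exact hu
    rcases d.selfW u hu hKZ v hzv hmem with h | h
    · exact h
    · obtain ⟨n, hn⟩ := ho
      have h2 : v * v ∈ d.Aw := by
        obtain ⟨k', hk', j, -, e'⟩ := d.cwW.existsUnique_coord h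
        obtain ⟨k'', hk'', e''⟩ :=
          conj_mul_pow d.cwW (fun x hx => d.normK _ d.comm_τ x hx) d.τ_conj hk' j
        have h3 : v * v = v * d.τ * (d.τ * (v * d.τ) * d.τ⁻¹) := by
          calc v * v = v * (d.τ * d.τ) * v := by rw [d.τ_sq, mul_one]
            _ = _ := by group
        rw [h3, e']
        refine mul_mem (e' ▸ h) ?_
        rw [e'']
        exact mul_pow_mem_cyc hk'' _
      have h3 : v = (v * v) ^ (n + 1) := by
        rw [← pow_two, ← pow_mul, show 2 * (n + 1) = orderOf v + 1 by omega, pow_succ,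
          pow_orderOf_eq_one, one_mul]
      rw [h3]
      exact pow_mem h2 _
  set S := (Finset.univ : Finset G).filter fun u => u ∈ d.Aw ∧ (∃ k, orderOf u = 2 ^ k) ∧ w u ≠ 0
  have hsum : ∑ a : d.Aw, w a * conj (χ.1 a) =
      ∑ u ∈ S, ∑ v ∈ ZStar.oddCentralizing u, w u * conj (χ.1 (u * v)) := by
    rw [Finset.sum_sigma']
    symm
    refine Finset.sum_bij_ne_zero (fun p hp _ => (⟨p.1 * p.2, ?_⟩ : d.Aw)) (fun p _ _ => Finset.mem_univ _)
      ?_ ?_ ?_
    · obtain ⟨hp1, hp2⟩ := Finset.mem_sigma.1 hp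
      obtain ⟨h1, h2, h3⟩ := (Finset.mem_filter.1 hp1).2
      rw [ZStar.mem_oddCentralizing] at hp2
      exact mul_mem h1 (hodd _ h1 h2 h3 _ hp2.1 hp2.2)
    · rintro ⟨u, v⟩ hp _ ⟨u', v'⟩ hp' _ h
      have h' : u * v = u' * v' := congrArg Subtype.val h
      obtain ⟨hp1, hp2⟩ := Finset.mem_sigma.1 hp
      obtain ⟨hq1, hq2⟩ := Finset.mem_sigma.1 hp'
      obtain ⟨-, ⟨a, ha⟩, -⟩ := (Finset.mem_filter.1 hp1).2
      obtain ⟨-, ⟨b, hb⟩, -⟩ := (Finset.mem_filter.1 hq1).2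
      rw [ZStar.mem_oddCentralizing] at hp2 hq2
      simp only at ha hb hp2 hq2
      obtain ⟨N, hN⟩ : ∃ N : ℕ, 2 ^ (a + b) * N ≡ 1 [MOD orderOf v * orderOf v'] := by
        rcases Nat.eq_or_lt_of_le (Nat.one_le_iff_ne_zero.2
          (mul_ne_zero (orderOf_pos v).ne' (orderOf_pos v').ne')) with h1 | h1
        · exact ⟨1, by rw [← h1]; exact Nat.modEq_one⟩
        · exact ⟨_, (Nat.exists_mul_mod_eq_one_of_coprime
            ((Nat.coprime_two_left.2 (hp2.2.mul hq2.2)).pow_left (a + b)) h1).choose_spec.2.trans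
              (Nat.mod_eq_of_lt h1).symm⟩
      have hu : u ^ 2 ^ (a + b) = 1 := orderOf_dvd_iff_pow_eq_one.1 (ha ▸ pow_dvd_pow 2 (Nat.le_add_right a b))
      have hu' : u' ^ 2 ^ (a + b) = 1 := orderOf_dvd_iff_pow_eq_one.1 (hb ▸ pow_dvd_pow 2 (Nat.le_add_left b a))
      have h1 : v ^ (2 ^ (a + b) * N) = v' ^ (2 ^ (a + b) * N) := by
        have := congrArg (fun y => (y ^ 2 ^ (a + b)) ^ N) h'
        simp only [hp2.1.mul_pow, hq2.1.mul_pow, hu, hu', one_mul, ← pow_mul] at this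
        exact this
      have e1 : v ^ (2 ^ (a + b) * N) = v := by
        conv_rhs => rw [← pow_one v]
        exact pow_eq_pow_iff_modEq.2 (hN.of_dvd (dvd_mul_right _ _))
      have e2 : v' ^ (2 ^ (a + b) * N) = v' := by
        conv_rhs => rw [← pow_one v']
        exact pow_eq_pow_iff_modEq.2 (hN.of_dvd (dvd_mul_left _ _))
      rw [e1, e2] at h1
      subst h1
      simp [mul_right_cancel h']
    · intro a _ hne
      obtain ⟨s, t, hst, hs, ht⟩ := d.exists_two_parts (a : G)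
      have hwu : w ((a : G) ^ s) ≠ 0 := by
        have h := d.wt_mul_odd (pow_mem a.2 s) (pow_mem a.2 t) ht
        rw [hst] at h
        rw [hwdef, ← h]
        exact left_ne_zero_of_mul hne
      refine ⟨⟨(a : G) ^ s, (a : G) ^ t⟩, Finset.mem_sigma.2 ⟨Finset.mem_filter.2
        ⟨Finset.mem_univ _, pow_mem a.2 s, hs, hwu⟩, ?_⟩, ?_, Subtype.ext hst⟩
      · rw [ZStar.mem_oddCentralizing]
        exact ⟨Commute.pow_pow_self _ s t, ht⟩
      · simp only
        rw [hst]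
        refine mul_ne_zero hwu (right_ne_zero_of_mul hne)
    · intro p hp _
      obtain ⟨hp1, hp2⟩ := Finset.mem_sigma.1 hp
      obtain ⟨h1, h2, h3⟩ := (Finset.mem_filter.1 hp1).2
      rw [ZStar.mem_oddCentralizing] at hp2
      simp only
      rw [hwdef, d.wt_mul_odd h1 (hodd _ h1 h2 h3 _ hp2.1 hp2.2) hp2.2]
  rw [hsum]
  refine Finset.sum_eq_zero fun u hu => ?_
  obtain ⟨h1, h2, h3⟩ := (Finset.mem_filter.1 hu).2
  set N : Subgroup G := (d.cwW.lam (d.rootW_prim hω)).ker.map d.Aw.subtype ⊓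
    Subgroup.centralizer ({u} : Set G)
  have hN : ∀ v, v ∈ N ↔ Commute u v ∧ Odd (orderOf v) := by
    intro v
    rw [Subgroup.mem_inf, Subgroup.mem_map, Subgroup.mem_centralizer_singleton_iff]
    constructor
    · rintro ⟨⟨a, ha, rfl⟩, hc⟩
      exact ⟨hc.symm, (d.lam_eq_one_iff hω).1 (MonoidHom.mem_ker.1 ha)⟩
    · rintro ⟨hc, ho⟩
      exact ⟨⟨⟨v, hodd u h1 h2 h3 v hc ho⟩, MonoidHom.mem_ker.2 ((d.lam_eq_one_iff hω).2 ho), rfl⟩,
        hc.eq.symm⟩
  have h := (ZStar.sum_oddCentralizing_apply ZStar.secondPrincipal hM h2 hN χ).2 hχ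
  rw [← Finset.mul_sum, ← map_sum, h, map_zero, mul_zero]

theorem X_mem_principal {ξ : ℂ} (e : Exceptional d ξ) {M : Ideal AlgInt} (hM : IsPModular 2 M) :
    e.X ∈ principalBlock M G := by
  by_contra h
  have h1 := e.inner_X
  rw [d.classInner_alpha_outside hM h] at h1
  rcases e.hε with h2 | h2 <;> rw [h2] at h1 <;> norm_num at h1

/-! ### The function `y ↦ χ (z y)` on the odd elements of `C(z)` -/

/-- `y ↦ χ (z y)`. -/
noncomputable def atZ (χ : G → ℂ) (y : d.C) : ℂ := χ (z * (y : G))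

theorem isClassFunction_atZ {χ : G → ℂ} (hχ : IsClassFunction G χ) :
    IsClassFunction d.C (d.atZ χ) := by
  intro y c
  have hc := d.comm_C c
  have : z * ((c * y * c⁻¹ : d.C) : G) = (c : G) * (z * (y : G)) * (c : G)⁻¹ := by
    rw [Subgroup.coe_mul, Subgroup.coe_mul, Subgroup.coe_inv, ← mul_assoc (c : G) z, ← hc.eq]
    group
  show χ (z * ((c * y * c⁻¹ : d.C) : G)) = χ (z * (y : G))
  rw [this, hχ]

/-- The part in the principal block. -/
theorem atZ_eq_blockPart {M : Ideal AlgInt} (hM : IsPModular 2 M) {χ : IrrCharacter G}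
    (hχ : χ ∈ principalBlock M G) {y : d.C} (hy : Odd (orderOf y)) :
    d.atZ χ.1 y = blockPart (principalBlock M d.C) (d.atZ χ.1) y := by
  classical
  haveI := Fintype.ofFinite d.C
  have h := (ZStar.secondPrincipal G M hM z ⟨1, by rw [d.zorder, pow_one]⟩ χ y hy).1 hχ
  rw [← Blocks.sum_mul_blockCoeff
    (d.isClassFunction_atZ (Char.IsCharacter.isClassFunction (Char.irr_isCharacter χ)))]
  rw [finsum_eq_sum_of_fintype] at h
  show χ.1 (z * (y : G)) = _
  rw [← h]
  refine Fintype.sum_equiv (Equiv.mulRight y) _ _ fun k => ?_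
  simp only [Equiv.coe_mulRight, mul_inv_cancel_right]
  rw [mul_comm]
  rfl

theorem atZ_mul_core {M : Ideal AlgInt} (hM : IsPModular 2 M) {χ : IrrCharacter G}
    (hχ : χ ∈ principalBlock M G) {y k : G} (hy : Commute z y) (ho : Odd (orderOf y))
    (ho' : Odd (orderOf (y * k))) (hk : k ∈ d.K) : χ.1 (z * (y * k)) = χ.1 (z * y) := by
  classical
  haveI := Fintype.ofFinite d.C
  set N := d.K.subgroupOf d.C
  haveI : N.Normal := ⟨fun n hn c => by
    rw [Subgroup.mem_subgroupOf] at hn ⊢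
    exact d.normK _ (d.comm_C c) _ hn⟩
  have hN : Odd (Nat.card N) := by
    rw [Nat.card_congr (Subgroup.subgroupOfEquivOfLe
      (fun k hk => d.mem_C (d.K_le k hk) : d.K ≤ d.C)).toEquiv]
    exact d.oddK
  set y' : d.C := ⟨y, d.mem_C hy⟩
  set k' : d.C := ⟨k, d.mem_C (d.K_le k hk)⟩
  have h1 := d.atZ_eq_blockPart hM hχ (y := y') (by rwa [← Subgroup.orderOf_coe])
  have h2 := d.atZ_eq_blockPart hM hχ (y := y' * k') (by rwa [← Subgroup.orderOf_coe])
  have h3 : blockPart (principalBlock M d.C) (d.atZ χ.1) (y' * k') =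
      blockPart (principalBlock M d.C) (d.atZ χ.1) y' := by
    simp only [blockPart]
    refine finsum_mem_congr rfl fun ψ hψ => ?_
    rw [Char.apply_mul_of_trivOn (ZStar.trivOn_of_mem_principalBlock hM hN hψ) y'
      (show k' ∈ N from Subgroup.mem_subgroupOf.2 hk)]
  rw [h3, ← h1] at h2
  exact h2

theorem pregSum_atZ_orth {M : Ideal AlgInt} (hM : IsPModular 2 M) {χ : IrrCharacter G}
    (hχ : χ ∈ principalBlock M G) [Fintype d.C] {ψ : IrrCharacter d.C}
    (hψ : ψ ∉ principalBlock M d.C) :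
    BlockCount.pregSum 2 (fun y : d.C => d.atZ χ.1 y * conj (ψ.1 y)) = 0 := by
  classical
  haveI : Fact (Nat.Prime 2) := ⟨Nat.prime_two⟩
  haveI := hM.2.1
  obtain rfl : ‹Fintype d.C› = Fintype.ofFinite d.C := Subsingleton.elim _ _
  letI := Fintype.ofFinite d.C
  rw [BlockCount.pregSum, Finset.sum_congr rfl (g := fun y : d.C =>
    ∑ θ ∈ Finset.univ.filter (· ∈ principalBlock M d.C),
      classInner (d.atZ χ.1) θ.1 * (θ.1 y * conj (ψ.1 y))) fun y hy => ?_, Finset.sum_comm]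
  · refine Finset.sum_eq_zero fun θ hθ => ?_
    rw [← Finset.mul_sum]
    refine mul_eq_zero_of_right _ ?_
    have hns : ¬ SameBlock M θ.1 ψ.1 := by
      intro h
      exact hψ (Blocks.SameBlock.trans (Finset.mem_filter.1 hθ).2 h)
    have h := Blocks.regular_orthogonality (p := 2) hM.2.2 hns
    rw [← h]
    exact Finset.sum_congr (by ext x; simp [IsPRegular]) fun _ _ => rfl
  · have ho : Odd (orderOf y) := ZStar.not_two_dvd_iff_odd.1 (Finset.mem_filter.1 hy).2
    rw [d.atZ_eq_blockPart hM hχ ho, blockPart, finsum_mem_eq_sum_of_inter_support_eq _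
      (t := Finset.univ.filter (· ∈ principalBlock M d.C)) (by ext; simp), Finset.sum_mul]
    exact Finset.sum_congr rfl fun θ _ => by ring

end Cent

end Cfsg.Agent.SDCyclic
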