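import Cfsg.Prelude.Def_CaseTheorems
import Cfsg.Agent.Lib.PGroup.CyclicMaximal
import Cfsg.Agent.Lib.PGroup.MetacyclicTwoAut
import Cfsg.Agent.Lib.IsolatedRankTwo.AutChain
import Cfsg.Agent.Lib.Transfer.Frobenius
import Cfsg.Agent.Lib.GW.Assembly

/-!
# Sylow 2-subgroups with a cyclic subgroup of index two in perfect groups

`shape_of_perfect`: in a perfect group of even order such a Sylow subgroup is dihedral (or a four
group), quaternion or semidihedral, as the other types give a normal 2-complement.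
-/

set_option autoImplicit false
set_option linter.style.haveILetI false
set_option linter.unusedSectionVars false

namespace Cfsg.Agent.SDCyclic

open Subgroup

universe u

/-- A cyclic subgroup of index at most two. -/
def CycIndexTwo (T : Type u) [Group T] : Prop := ∃ C : Subgroup T, IsCyclic C ∧ C.index ∣ 2

variable {G : Type u} [Group G] [Finite G]

theorem eq_of_sq_mem_zpowers {a x : G} {k : ℕ} (ha : orderOf a = 2 ^ (k + 1))
    (hx : x ∈ zpowers a) (h2 : x * x = 1) (h1 : x ≠ 1) : x = a ^ 2 ^ k := by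
  obtain ⟨j, rfl⟩ := mem_powers_iff_mem_zpowers.2 hx
  simp only at h2 h1 ⊢
  rw [← pow_add, ← orderOf_dvd_iff_pow_eq_one, ha, ← two_mul, pow_succ'] at h2
  obtain ⟨d, rfl⟩ := Nat.dvd_of_mul_dvd_mul_left two_pos h2
  rcases Nat.even_or_odd' d with ⟨e, rfl | rfl⟩
  · refine absurd ?_ h1
    rw [← orderOf_dvd_iff_pow_eq_one, ha, pow_succ]
    exact ⟨e, by ring⟩
  · rw [show 2 ^ k * (2 * e + 1) = 2 ^ (k + 1) * e + 2 ^ k by ring, pow_add, pow_mul, ← ha,
      pow_orderOf_eq_one, one_pow, one_mul]

/-- No fusion and hence a normal complement, for the groups neither of maximal class nor four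
groups. -/
theorem hasNormalPComplement_of_cyclic_index (P : Sylow 2 G) {a : G} {k : ℕ}
    (ha : orderOf a = 2 ^ (k + 1)) (haP : a ∈ (P : Subgroup G))
    (hidx : (zpowers a).relIndex (P : Subgroup G) = 2)
    {c : G} (hcP : c ∈ (P : Subgroup G)) (hc : ∀ x ∈ (P : Subgroup G), Commute c x)
    (hc4 : 4 ∣ orderOf c)
    (h4 : ∀ x ∈ (P : Subgroup G), ∀ y ∈ (P : Subgroup G), x ^ 4 = 1 → y ^ 4 = 1 → Commute x y) :
    Cfsg.HasNormalPComplement 2 G := by
  haveI : Fact (Nat.Prime 2) := ⟨Nat.prime_two⟩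
  have hmul : ∀ x ∈ (P : Subgroup G), ∀ y ∈ (P : Subgroup G),
      x ∉ zpowers a → y ∉ zpowers a → x * y ∈ zpowers a := by
    intro x hx y hy hx' hy'
    have h := (Subgroup.mul_mem_iff_of_index_two
      (H := (zpowers a).subgroupOf (P : Subgroup G)) hidx (a := ⟨x, hx⟩) (b := ⟨y, hy⟩)).2
      ⟨fun h => absurd (mem_subgroupOf.1 h) hx', fun h => absurd (mem_subgroupOf.1 h) hy'⟩
    exact mem_subgroupOf.1 h
  have hsq : ∀ x ∈ (P : Subgroup G), x * x ∈ zpowers a := fun x hx => by
    by_cases h : x ∈ zpowers a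
    · exact mul_mem h h
    · exact hmul x hx x hx h h
  set z0 := a ^ 2 ^ k
  obtain ⟨j, hj⟩ : ∃ j, orderOf c = 2 ^ (j + 2) := by
    obtain ⟨i, hi⟩ := IsPGroup.iff_orderOf.1 P.2 ⟨c, hcP⟩
    rw [Subgroup.orderOf_mk] at hi
    refine ⟨i - 2, ?_⟩
    have : 2 ≤ i := (Nat.pow_dvd_pow_iff_le_right (x := 2) (by norm_num)).1 (by rw [← hi]; exact hc4)
    rw [hi]; congr 1; omega
  have hcz : c ^ 2 ^ (j + 1) = z0 := by
    refine eq_of_sq_mem_zpowers ha ?_ ?_ ?_
    · rw [pow_succ, pow_mul, pow_two]
      exact hsq _ (pow_mem hcP _)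
    · rw [← pow_add, ← two_mul, ← pow_succ', ← hj, pow_orderOf_eq_one]
    · rw [Ne, ← orderOf_dvd_iff_pow_eq_one, hj, Nat.pow_dvd_pow_iff_le_right (by norm_num)]
      omega
  refine Transfer.hasNormalPComplement_of_own_fusion P
    (Transfer.controlsElementFusion_of_tame P _ ?_)
  intro D hD x hx
  have hDP := hD.le
  obtain ⟨Q, -, hP, -⟩ := hD
  refine (fun ⟨y, hy, he⟩ => ⟨y, hy.1, he⟩)
    (Transfer.exists_conj_eq_of_coprime_centralize hP ?_ hx)
  intro g hg hco
  by_contra hgC
  set α : MulAut D := D.normalizerMonoidHom ⟨g, hg⟩ with hαdef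
  have hα : ∀ d : D, ((α d : D) : G) = g * d * g⁻¹ := fun d => rfl
  have hne : α ≠ 1 := fun h => hgC (mem_centralizer_iff.2 fun d hd => by
    have h1 := hα ⟨d, hd⟩
    rw [h] at h1
    exact eq_mul_inv_iff_mul_eq.1 h1)
  have hodd : Odd (orderOf α) := by
    refine (Nat.coprime_two_right.1 hco).of_dvd_nat ?_
    rw [← Subgroup.orderOf_mk g hg]
    exact orderOf_map_dvd D.normalizerMonoidHom _
  have hD2 : IsPGroup 2 D := P.2.to_le hDP
  obtain ⟨e, he⟩ : ∃ e : D, Nat.card D ≤ 2 * orderOf e := by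
    obtain ⟨e, he⟩ := (Subgroup.isCyclic_iff_exists_zpowers_eq_top _).1
      (show IsCyclic ((zpowers a).subgroupOf D) from isCyclic_of_injective
        ((D.subtype.comp ((zpowers a).subgroupOf D).subtype).codRestrict (zpowers a) fun x => x.2)
        fun x y h => Subtype.ext (Subtype.ext (congrArg (fun w : zpowers a => (w : G)) h)))
    refine ⟨e, ?_⟩
    have h1 : (zpowers a).relIndex D ≤ 2 := by
      rw [← hidx]
      exact Subgroup.relIndex_le_of_le_right hDP (by rw [hidx]; norm_num)
    rw [← Nat.card_zpowers, he, ← Subgroup.card_mul_index ((zpowers a).subgroupOf D), mul_comm 2]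
    exact Nat.mul_le_mul_left _ h1
  rcases PGroup.MetacyclicTwo.homocyclic_or_quaternion_of_odd_aut hD2
    (IsolatedRankTwo.isMetacyclic_of_zpowers hD2 e he) hodd hne with
    ⟨n, hn, -, hcard, hexp⟩ | ⟨-, i, i', hi, hi2, hii⟩
  · -- a four group
    have hn1 : n = 1 := by
      have h1 : orderOf e ≤ 2 ^ n := Nat.le_of_dvd (pow_pos two_pos n)
        (orderOf_dvd_of_pow_eq_one (hexp e))
      rw [hcard] at he
      have h2 : 2 ^ (2 * n) ≤ 2 ^ (n + 1) := by
        rw [pow_succ 2 n, mul_comm (2 ^ n)]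
        exact he.trans (Nat.mul_le_mul_left 2 h1)
      have := (Nat.pow_le_pow_iff_right (by norm_num : 1 < 2)).1 h2
      omega
    subst hn1
    have hsq' : ∀ d ∈ D, d * d = 1 := fun d hd => by
      have := congrArg (fun w : D => (w : G)) (hexp ⟨d, hd⟩)
      simpa [pow_two] using this
    -- the square involution lies in `D`
    have hz0D : z0 ∈ D := by
      by_contra hz0
      have hout : ∀ d ∈ D, d ≠ 1 → d ∉ zpowers a := fun d hd h1 h =>
        hz0 (by rw [show z0 = d from (eq_of_sq_mem_zpowers ha h (hsq' d hd) h1).symm]; exact hd)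
      haveI : Nontrivial D := Finite.one_lt_card_iff_nontrivial.1 (by rw [hcard]; norm_num)
      obtain ⟨d, hd, hd1⟩ := (Subgroup.nontrivial_iff_exists_ne_one D).1 ‹_›
      have hall : ∀ w ∈ D, w = 1 ∨ w = d := fun w hw => by
        by_contra h
        push Not at h
        refine hout (d * w) (mul_mem hd hw) (fun h1 => h.2 ?_)
          (hmul d (hDP hd) w (hDP hw) (hout d hd hd1) (hout w hw h.1))
        rw [← inv_eq_of_mul_eq_one_right h1, inv_eq_of_mul_eq_one_right (hsq' d hd)]
      have hle : Nat.card D ≤ 2 := by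
        classical
        haveI := Fintype.ofFinite D
        rw [Nat.card_eq_fintype_card]
        refine le_trans (Finset.card_le_card (s := Finset.univ)
          (t := ({1, ⟨d, hd⟩} : Finset D)) fun w _ => ?_) Finset.card_le_two
        rcases hall w w.2 with h | h
        · simp [Subtype.ext_iff, h]
        · simp [Subtype.ext_iff, h]
      rw [hcard] at hle
      norm_num at hle
    -- `P ∩ C(D)` is a Sylow subgroup of `C(D)`
    set N := normalizer (D : Set G)
    set Z := centralizer (D : Set G)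
    have hZN : Z ≤ N := centralizer_le_normalizer _
    set c' := g * c * g⁻¹
    have hgD : ∀ d ∈ D, g * d * g⁻¹ ∈ D := fun d hd => (mem_normalizer_iff.1 hg d).1 hd
    have hgD' : ∀ d ∈ D, g⁻¹ * d * g ∈ D := fun d hd => by
      have h1 := (mem_normalizer_iff.1 (inv_mem hg) d).1 hd
      rwa [inv_inv] at h1
    have hc'Z : c' ∈ Z := mem_centralizer_iff.2 fun d hd => by
      have h1 : Commute c (g⁻¹ * d * g) := hc _ (hDP (hgD' d hd))
      calc d * c' = g * ((g⁻¹ * d * g) * c) * g⁻¹ := by simp only [c']; group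
        _ = g * (c * (g⁻¹ * d * g)) * g⁻¹ := by rw [h1.eq]
        _ = c' * d := by simp only [c']; group
    have hc'2 : IsPGroup 2 (zpowers c') := IsPGroup.of_card (n := j + 2) (by
      rw [Nat.card_zpowers, ← hj]
      exact orderOf_injective (MulAut.conj g).toMonoidHom (MulAut.conj g).injective c)
    -- a Sylow subgroup of `N` inside `P`
    obtain ⟨y, hyZ, hyP⟩ : ∃ y ∈ Z, y * c' * y⁻¹ ∈ (P : Subgroup G) := by
      haveI : (Z.subgroupOf N).Normal := ⟨fun w hw m => by
        rw [mem_subgroupOf, mem_centralizer_iff] at hw ⊢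
        intro d hd
        have hd' : (m : G)⁻¹ * d * m ∈ D := by
          have h1 := (mem_normalizer_iff.1 (inv_mem m.2) d).1 hd
          rwa [inv_inv] at h1
        have h1 := hw _ hd'
        rw [Subgroup.coe_mul, Subgroup.coe_mul, Subgroup.coe_inv]
        calc d * ((m : G) * w * (m : G)⁻¹) = m * ((m : G)⁻¹ * d * m * w) * (m : G)⁻¹ := by group
          _ = m * ((w : G) * ((m : G)⁻¹ * d * m)) * (m : G)⁻¹ := by rw [h1]
          _ = _ := by group⟩
      have hPN : IsPGroup 2 (((P : Subgroup G) ⊓ N).subgroupOf N) :=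
        (P.2.to_le inf_le_left).of_equiv (subgroupOfEquivOfLe inf_le_right).symm
      set SN : Sylow 2 N := hPN.toSylow hP
      set A := ((P : Subgroup G) ⊓ Z).subgroupOf Z
      have hA : IsPGroup 2 A :=
        (P.2.to_le inf_le_left).of_equiv (subgroupOfEquivOfLe inf_le_right).symm
      obtain ⟨R, hR⟩ := hA.exists_le_sylow
      obtain ⟨R', hR'⟩ := (hc'2.of_equiv (subgroupOfEquivOfLe (zpowers_le.2 hc'Z)).symm).exists_le_sylow
      -- `R` is contained in a conjugate of `SN`
      have hRN : IsPGroup 2 ((R : Subgroup Z).map (Subgroup.inclusion hZN)) := R.2.map _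
      obtain ⟨T, hT⟩ := hRN.exists_le_sylow
      obtain ⟨m, hm⟩ := MulAction.exists_smul_eq N T SN
      have hAR : A = (R : Subgroup Z) := by
        refine eq_of_le_of_card_ge hR ?_
        refine Nat.card_le_card_of_injective
          (fun r : (R : Subgroup Z) => (⟨⟨(m : G) * (r : Z) * (m : G)⁻¹, ?_⟩, ?_⟩ : A)) ?_
        · have h1 := (Subgroup.Normal.conj_mem (H := Z.subgroupOf N) inferInstance
            (Subgroup.inclusion hZN (r : Z)) (mem_subgroupOf.2 (r : Z).2) m)
          exact mem_subgroupOf.1 h1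
        · rw [mem_subgroupOf]
          refine ⟨?_, ?_⟩
          · have h1 : m * Subgroup.inclusion hZN (r : Z) * m⁻¹ ∈ (SN : Subgroup N) := by
              rw [← hm, Sylow.coe_subgroup_smul]
              exact Subgroup.smul_mem_pointwise_smul _ (MulAut.conj m) _ (hT ⟨_, r.2, rfl⟩)
            exact (mem_subgroupOf.1 h1).1
          · have h1 := (Subgroup.Normal.conj_mem (H := Z.subgroupOf N) inferInstance
              (Subgroup.inclusion hZN (r : Z)) (mem_subgroupOf.2 (r : Z).2) m)
            exact mem_subgroupOf.1 h1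
        · intro r r' h
          have h1 : (m : G) * (r : Z) * (m : G)⁻¹ = (m : G) * (r' : Z) * (m : G)⁻¹ :=
            congrArg (fun w : A => ((w : Z) : G)) h
          exact Subtype.ext (Subtype.ext (mul_left_cancel (mul_right_cancel h1)))
      obtain ⟨y, hy⟩ := MulAction.exists_smul_eq Z R' R
      refine ⟨y, y.2, ?_⟩
      have h1 : y * ⟨c', hc'Z⟩ * y⁻¹ ∈ (R : Subgroup Z) := by
        rw [← hy, Sylow.coe_subgroup_smul]
        exact Subgroup.smul_mem_pointwise_smul _ (MulAut.conj y) _
          (hR' (mem_subgroupOf.2 (mem_zpowers c')))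
      rw [← hAR, mem_subgroupOf] at h1
      exact h1.1
    have hpow : (y * c' * y⁻¹) ^ 2 ^ (j + 1) = y * (g * z0 * g⁻¹) * y⁻¹ := by
      simp only [c', conj_pow, hcz]
    have hw1 : z0 ≠ 1 := by
      rw [Ne, ← orderOf_dvd_iff_pow_eq_one, ha, Nat.pow_dvd_pow_iff_le_right (by norm_num)]
      omega
    have hfix0 : g * z0 * g⁻¹ = z0 := by
      have hyd : y * (g * z0 * g⁻¹) * y⁻¹ = g * z0 * g⁻¹ := by
        rw [← (mem_centralizer_iff.1 hyZ) _ (hgD _ hz0D), mul_inv_cancel_right]
      rw [hyd] at hpow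
      refine eq_of_sq_mem_zpowers ha ?_ (hsq' _ (hgD _ hz0D)) ?_
      · rw [← hpow, pow_succ, pow_mul, pow_two]
        exact hsq _ (pow_mem hyP _)
      · intro h
        exact hw1 (by simpa using h)
    refine hgC (mem_centralizer_iff.2 fun d hd => ?_)
    suffices hgd : g * d * g⁻¹ = d from (mul_inv_eq_iff_eq_mul.1 hgd).symm
    by_contra hne'
    have hd1 : d ≠ 1 := fun h => hne' (by rw [h]; group)
    have hdz : d ≠ z0 := fun h => hne' (by rw [h]; exact hfix0)
    have hall : ∀ w ∈ D, w = 1 ∨ w = z0 ∨ w = d ∨ w = z0 * d := by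
      intro w hw
      classical
      haveI := Fintype.ofFinite D
      have hcard4 : Fintype.card D = 4 := by rw [← Nat.card_eq_fintype_card, hcard]; norm_num
      set s : Finset D := {1, ⟨z0, hz0D⟩, ⟨d, hd⟩, ⟨z0 * d, mul_mem hz0D hd⟩}
      have hs : s.card = 4 := Finset.card_eq_four.2 ⟨_, _, _, _,
        fun h => hw1 (congrArg Subtype.val h).symm, fun h => hd1 (congrArg Subtype.val h).symm,
        fun h => hdz ((inv_eq_of_mul_eq_one_right (congrArg Subtype.val h).symm).symm.trans
          (inv_eq_of_mul_eq_one_right (hsq' _ hz0D))),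
        fun h => hdz (congrArg Subtype.val h).symm,
        fun h => hd1 (mul_eq_left.1 (congrArg Subtype.val h).symm),
        fun h => hw1 (mul_eq_right.1 (congrArg Subtype.val h).symm), rfl⟩
      have hu : s = Finset.univ := Finset.eq_univ_of_card _ (hs.trans hcard4.symm)
      have hw' : (⟨w, hw⟩ : D) ∈ s := hu ▸ Finset.mem_univ _
      simpa [s, Subtype.ext_iff] using hw'
    rcases hall _ (hgD d hd) with h | h | h | h
    · exact hd1 (by simpa using h)
    · exact hdz (mul_left_cancel (mul_right_cancel (h.trans hfix0.symm)))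
    · exact hne' h
    · have h2 : Commute (g * g) d := by
        refine mul_inv_eq_iff_eq_mul.1 ?_
        calc g * g * d * (g * g)⁻¹ = g * (g * d * g⁻¹) * g⁻¹ := by group
          _ = g * z0 * g⁻¹ * (g * d * g⁻¹) := by conv_lhs => rw [h]
                                                 group
          _ = d := by rw [hfix0, h, ← mul_assoc, hsq' _ hz0D, one_mul]
      obtain ⟨m, hm⟩ := Nat.coprime_two_right.1 hco
      have h3 : g = (g * g) ^ (m + 1) := by
        rw [← pow_two, ← pow_mul, show 2 * (m + 1) = orderOf g + 1 by omega, pow_succ,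
          pow_orderOf_eq_one, one_mul]
      exact hne' (mul_inv_eq_iff_eq_mul.2 (h3 ▸ h2.pow_left (m + 1) : Commute g d).eq)
  · -- a quaternion group
    have h1 := pow_orderOf_eq_one i
    rw [hi] at h1
    have h2 : i' ^ 4 = 1 := by rw [show 4 = 2 * 2 from rfl, pow_mul, hi2, ← pow_mul, h1]
    have hcomm : Commute i' i := Subtype.ext
      (h4 _ (hDP i'.2) _ (hDP i.2) (by rw [← Subgroup.coe_pow, h2]; rfl)
        (by rw [← Subgroup.coe_pow, h1]; rfl)).eq
    rw [hcomm.eq, mul_inv_cancel_right] at hii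
    have : i ^ 2 = 1 := by rw [pow_two]; exact eq_inv_iff_mul_eq_one.1 hii
    have := Nat.le_of_dvd two_pos (orderOf_dvd_of_pow_eq_one this)
    omega

theorem no_complement_of_perfect [Group.IsPerfect G] (h2 : 2 ∣ Nat.card G)
    (h : Cfsg.HasNormalPComplement 2 G) : False := by
  haveI : Fact (Nat.Prime 2) := ⟨Nat.prime_two⟩
  obtain ⟨P, N, hN, hPN⟩ := h
  haveI := hN
  haveI := GW.isPerfect_quotient N
  haveI : Group.IsNilpotent (G ⧸ N) :=
    (IsPGroup.of_equiv P.2 (hPN.symm.QuotientMulEquiv.symm)).isNilpotent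
  haveI := GW.subsingleton_of_isPerfect (Y := G ⧸ N) inferInstance
  have hNtop : N = ⊤ := QuotientGroup.subgroup_eq_top_of_subsingleton N ‹_›
  have h1 : Nat.card (P : Subgroup G) = 1 := by
    rw [← hPN.symm.index_eq_card, hNtop, Subgroup.index_top]
  have := P.card_eq_multiplicity
  rw [h1, eq_comm, Nat.pow_eq_one] at this
  have := (Nat.prime_two.dvd_iff_one_le_factorization Nat.card_pos.ne').1 h2
  omega

/-- The Sylow 2-subgroups with a cyclic subgroup of index two of perfect groups. -/
theorem shape_of_perfect [Group.IsPerfect G] (h2 : 2 ∣ Nat.card G) (S : Sylow 2 G)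
    (h : CycIndexTwo (S : Subgroup G)) :
    (∃ n, 2 ≤ n ∧ Nonempty ((S : Subgroup G) ≃* DihedralGroup n)) ∨
      (∃ n, 1 ≤ n ∧ Nonempty ((S : Subgroup G) ≃* QuaternionGroup (2 ^ n))) ∨
      Cfsg.IsQuasiDihedral (S : Subgroup G) := by
  haveI : Fact (Nat.Prime 2) := ⟨Nat.prime_two⟩
  by_cases hcyc : IsCyclic (S : Subgroup G)
  · exact (no_complement_of_perfect h2 (GW.hasNormalPComplement_of_cyclic_two S hcyc)).elim
  obtain ⟨C, hC, hCi⟩ := h
  have hC2 : C.index = 2 := by
    rcases (Nat.dvd_prime Nat.prime_two).1 hCi with h | h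
    · rw [Subgroup.index_eq_one] at h
      subst h
      exact absurd (Subgroup.topEquiv.isCyclic.1 hC) hcyc
    · exact h
  obtain ⟨M, hM⟩ := S.2.exists_card_eq
  obtain ⟨m, rfl⟩ : ∃ m, M = m + 1 := by
    refine ⟨M - 1, ?_⟩
    rcases M with _ | M
    · haveI := (Nat.card_eq_one_iff_unique.1 (hM.trans (pow_zero 2))).1
      exact absurd isCyclic_of_subsingleton hcyc
    · rfl
  obtain ⟨a, b, r, t, hCa, ha, hb, hgen, hab, hbp, -, -⟩ :=
    PGroup.exists_cyclic_index_data hM C hC hC2
  have hidx : (zpowers (a : G)).relIndex (S : Subgroup G) = 2 := by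
    have e : zpowers a = (zpowers (a : G)).subgroupOf (S : Subgroup G) := by
      ext x
      rw [mem_subgroupOf]
      constructor
      · rintro ⟨i, rfl⟩; exact ⟨i, by simp⟩
      · rintro ⟨i, hi⟩; exact ⟨i, Subtype.ext (by simpa using hi)⟩
    rw [Subgroup.relIndex, ← e, ← hCa, hC2]
  by_cases hcomm : ∀ x y : (S : Subgroup G), x * y = y * x
  · rcases lt_or_ge m 2 with hm | hm
    · left
      have hm1 : m = 1 := by
        by_contra h
        obtain rfl : m = 0 := by omega
        exact hcyc (isCyclic_of_prime_card (p := 2) (by rw [hM]; rfl))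
      subst hm1
      refine ⟨2, le_rfl, PGroup.dihedralEquivOfRel ha hb ?_ ?_ (by rw [hM]; rfl)⟩
      · by_contra hne
        refine hcyc (isCyclic_of_orderOf_eq_card b (le_antisymm
          (Nat.le_of_dvd Nat.card_pos (orderOf_dvd_natCard b)) ?_))
        obtain ⟨i, -, hi⟩ := (Nat.dvd_prime_pow Nat.prime_two).1 (hM ▸ orderOf_dvd_natCard b)
        have : 2 ≤ i := by
          by_contra h
          exact hne (orderOf_dvd_iff_pow_eq_one.1 (hi ▸ (pow_dvd_pow 2 (by omega) : 2 ^ i ∣ 2 ^ 1)))
        rw [hM, hi]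
        exact Nat.pow_le_pow_right two_pos this
      · rw [hcomm b a, mul_inv_cancel_right, eq_inv_iff_mul_eq_one, ← pow_two]
        have := pow_orderOf_eq_one a
        rwa [ha, pow_one] at this
    · refine (no_complement_of_perfect h2 (hasNormalPComplement_of_cyclic_index S (k := m - 1)
        (a := (a : G)) (c := (a : G)) ?_ a.2 hidx a.2 (fun x hx => ?_) ?_ fun x hx y hy _ _ => ?_)).elim
      · rw [Subgroup.orderOf_coe, ha]; congr 1; omega
      · exact congrArg Subtype.val (hcomm a ⟨x, hx⟩)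
      · rw [Subgroup.orderOf_coe, ha]
        exact pow_dvd_pow 2 hm
      · exact congrArg Subtype.val (hcomm ⟨x, hx⟩ ⟨y, hy⟩)
  · push Not at hcomm
    have hm : 2 ≤ m := by
      by_contra h
      obtain ⟨x, y, hxy⟩ := hcomm
      refine hxy ?_
      rcases (show m = 0 ∨ m = 1 by omega) with rfl | rfl
      · exact absurd (isCyclic_of_prime_card (p := 2) (by rw [hM]; rfl)) hcyc
      · exact (IsPGroup.commutative_of_card_eq_prime_sq (p := 2) (by rw [hM]) x y)
    obtain ⟨a, b, -, ha, hb, hgen, h⟩ := PGroup.cyclic_index_two hm hM C hC hC2 hcomm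
    have hcard : Nat.card (S : Subgroup G) = 2 * 2 ^ m := by rw [hM, pow_succ']
    rcases h with ⟨hb2, hab⟩ | ⟨hb2, hab⟩ | ⟨hm3, hb2, hab⟩ | ⟨hm3, hb2, hab⟩
    · exact Or.inl ⟨2 ^ m, by
        calc 2 = 2 ^ 1 := rfl
          _ ≤ 2 ^ m := Nat.pow_le_pow_right two_pos (by omega),
        PGroup.dihedralEquivOfRel ha hb hb2 hab hcard⟩
    · refine Or.inr (Or.inl ⟨m - 1, by omega, PGroup.quaternionEquivOfRel ?_ hb hb2 hab ?_⟩)
      · rw [ha, ← pow_succ']; congr 1; omega
      · rw [hM, show m + 1 = m - 1 + 2 by omega, pow_add]; ring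
    · -- modular
      exfalso
      have hr2 : b * a ^ 2 * b⁻¹ = a ^ 2 := by
        rw [← conj_pow, hab, ← pow_mul, show (1 + 2 ^ (m - 1)) * 2 = 2 + 2 ^ m by
          rw [show m = m - 1 + 1 by omega, pow_succ, Nat.add_sub_cancel]; ring,
          pow_add, ← ha, pow_orderOf_eq_one, mul_one]
      have hcen : ∀ x : (S : Subgroup G), Commute (a ^ 2) x := by
        intro x
        have hle : zpowers a ⊔ zpowers b ≤ centralizer ({a ^ 2} : Set (S : Subgroup G)) := by
          refine sup_le (zpowers_le.2 ?_) (zpowers_le.2 ?_) <;> rw [mem_centralizer_singleton_iff]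
          · exact ((Commute.refl a).pow_right 2).eq
          · exact mul_inv_eq_iff_eq_mul.1 hr2
        exact ((mem_centralizer_singleton_iff.1 (hle (hgen ▸ mem_top x))).symm : _)
      have hform : ∀ x : (S : Subgroup G), ∃ n : ℕ, x = a ^ n ∨ x = a ^ n * b := by
        intro x
        by_cases hx : x ∈ zpowers a
        · obtain ⟨n, hn⟩ := mem_powers_iff_mem_zpowers.2 hx
          exact ⟨n, Or.inl hn.symm⟩
        · have hi : (zpowers a).index = 2 := by
            have h1 := (zpowers a).card_mul_index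
            rw [Nat.card_zpowers, ha, hcard, mul_comm 2] at h1
            exact Nat.eq_of_mul_eq_mul_left (pow_pos two_pos m) h1
          have h1 : x * b⁻¹ ∈ zpowers a := (Subgroup.mul_mem_iff_of_index_two hi).2
            ⟨fun h => absurd h hx, fun h => absurd (inv_mem_iff.1 h) hb⟩
          obtain ⟨n, hn⟩ := mem_powers_iff_mem_zpowers.2 h1
          simp only at hn
          exact ⟨n, Or.inr (by rw [hn, inv_mul_cancel_right])⟩
      have heven : ∀ n : ℕ, (a ^ n) ^ 4 = 1 → Even n := by
        intro n hn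
        rw [← pow_mul, ← orderOf_dvd_iff_pow_eq_one, ha] at hn
        rw [even_iff_two_dvd]
        exact Nat.dvd_of_mul_dvd_mul_right (by norm_num : 0 < 4) ((pow_dvd_pow 2 hm3).trans hn)
      have hkey : ∀ x : (S : Subgroup G), x ^ 4 = 1 → ∃ u, (∀ y, Commute u y) ∧ (x = u ∨ x = u * b) := by
        intro x hx
        obtain ⟨n, hn⟩ := hform x
        have hev : Even n := by
          rcases hn with rfl | rfl
          · exact heven n hx
          · refine heven n ?_
            have e1 : (a ^ n * b) ^ 2 = a ^ (n * (2 + 2 ^ (m - 1))) := by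
              have e2 : b * a ^ n * b⁻¹ = a ^ ((1 + 2 ^ (m - 1)) * n) := by
                rw [← conj_pow, hab, ← pow_mul]
              calc (a ^ n * b) ^ 2 = a ^ n * (b * a ^ n * b⁻¹) * b ^ 2 := by rw [pow_two, pow_two]; group
                _ = _ := by rw [e2, hb2, mul_one, ← pow_add]; ring_nf
            rw [show 4 = 2 * 2 from rfl, pow_mul, e1, ← pow_mul,
              show n * (2 + 2 ^ (m - 1)) * 2 = n * (2 * 2) + 2 ^ m * n by
                rw [show m = m - 1 + 1 by omega, pow_succ, Nat.add_sub_cancel]; ring,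
              pow_add, pow_mul a (2 ^ m), ← ha, pow_orderOf_eq_one, one_pow, mul_one, pow_mul] at hx
            exact hx
        obtain ⟨i, rfl⟩ := hev
        refine ⟨a ^ (i + i), fun y => ?_, hn⟩
        rw [← two_mul, pow_mul]
        exact (hcen y).pow_left i
      refine no_complement_of_perfect h2 (hasNormalPComplement_of_cyclic_index S (k := m - 1)
        (a := (a : G)) (c := ((a ^ 2 : (S : Subgroup G)) : G)) ?_ a.2 ?_ (a ^ 2).2
        (fun x hx => congrArg Subtype.val (hcen ⟨x, hx⟩)) ?_ fun x hx y hy h1 h2 => ?_)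
      · rw [Subgroup.orderOf_coe, ha]; congr 1; omega
      · have e : zpowers a = (zpowers (a : G)).subgroupOf (S : Subgroup G) := by
          ext x
          rw [mem_subgroupOf]
          constructor
          · rintro ⟨i, rfl⟩; exact ⟨i, by simp⟩
          · rintro ⟨i, hi⟩; exact ⟨i, Subtype.ext (by simpa using hi)⟩
        have h1 := (zpowers a).card_mul_index
        rw [Nat.card_zpowers, ha, hcard, mul_comm 2] at h1
        rw [Subgroup.relIndex, ← e]
        exact Nat.eq_of_mul_eq_mul_left (pow_pos two_pos m) h1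
      · rw [Subgroup.orderOf_coe, orderOf_pow_of_dvd two_ne_zero (ha ▸ dvd_pow_self 2 (by omega)),
          ha, show m = m - 1 + 1 by omega, pow_succ, Nat.mul_div_cancel _ two_pos]
        exact pow_dvd_pow 2 (show 2 ≤ m - 1 by omega)
      · obtain ⟨u, hu, hxu⟩ := hkey ⟨x, hx⟩ (Subtype.ext h1)
        obtain ⟨v, hv, hyv⟩ := hkey ⟨y, hy⟩ (Subtype.ext h2)
        refine congrArg Subtype.val (show Commute (⟨x, hx⟩ : (S : Subgroup G)) ⟨y, hy⟩ from ?_)
        rcases hxu with h | h <;> rcases hyv with h' | h' <;> rw [h, h']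
        · exact hu _
        · exact hu _
        · exact (hv _).symm
        · exact ((hu v).mul_left (hv b).symm).mul_right ((hu b).mul_left (Commute.refl b))
    · refine Or.inr (Or.inr ⟨m, hm3, hM, a, b, ha, ?_, hab⟩)
      exact orderOf_eq_prime hb2 fun h => hb (h ▸ one_mem _)

end Cfsg.Agent.SDCyclic
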