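import Cfsg.Agent.Lib.SDCyclic.Basics

/-!
# Values of functions induced from the cyclic subgroups

A weight on `L⟨a⟩` is given by a periodic function of the exponent; `sumC` is the unnormalised
induced function of `C = C(z)`, which is also the one of `G` at elements having `z` as a power.
-/

set_option autoImplicit false
set_option linter.style.haveILetI false
set_option linter.unusedSectionVars false

namespace Cfsg.Agent.SDCyclic

open Cfsg
open scoped Classical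

universe u

variable {G : Type u} [Group G] [Fintype G]

/-- The weight with values `f` on the exponents. -/
noncomputable def CycOver.wt {L : Subgroup G} {a : G} {n : ℕ} (c : CycOver L a n) (f : ℕ → ℂ)
    (x : cyc L a) : ℂ := f (c.expo x)

theorem CycOver.wt_apply {L : Subgroup G} {a : G} {n : ℕ} (c : CycOver L a n) {f : ℕ → ℂ}
    (hf : Function.Periodic f n) {x : cyc L a} {k : G} (hk : k ∈ L) {j : ℕ}
    (h : (x : G) = k * a ^ j) : c.wt f x = f j := by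
  rw [CycOver.wt, ← hf.map_mod_nat, c.expo_eq hk h, hf.map_mod_nat]

theorem CycOver.ext_wt {L : Subgroup G} {a : G} {n : ℕ} (c : CycOver L a n) {f : ℕ → ℂ}
    (hf : Function.Periodic f n) {x k : G} (hk : k ∈ L) {j : ℕ} (h : x = k * a ^ j) :
    extendByZero (cyc L a) (c.wt f) x = f j := by
  rw [Char.extendByZero_of_mem _ _ (h ▸ mul_pow_mem_cyc hk j), c.wt_apply hf hk h]

/-- The sum over the centralizer of `z` defining an induced class function. -/
noncomputable def sumC (z : G) (A : Subgroup G) (θ : A → ℂ) (x : G) : ℂ :=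
  ∑ y ∈ Finset.univ.filter (fun y : G => Commute z y), extendByZero A θ (y⁻¹ * x * y)

/-- At elements with `z` as a power the induced function of the whole group is given by `sumC`. -/
theorem sum_eq_sumC {z : G} {A : Subgroup G} (hA : ∀ s ∈ A, s * s = 1 → s = 1 ∨ s = z)
    (hz : z * z = 1) (hz1 : z ≠ 1) (θ : A → ℂ) {x : G} {m : ℕ} (hx : x ^ m = z) :
    indFun A θ x = (Nat.card A : ℂ)⁻¹ * sumC z A θ x := by
  rw [indFun, sumC]
  congr 1
  refine (Finset.sum_subset (Finset.filter_subset _ _) fun y _ hy => ?_).symm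
  refine Char.extendByZero_of_notMem _ _ fun hmem => hy (Finset.mem_filter.2 ⟨Finset.mem_univ _, ?_⟩)
  have h1 : y⁻¹ * z * y ∈ A := by
    have h2 := pow_mem hmem m
    have h3 := conj_pow (i := m) (a := y⁻¹) (b := x)
    rw [inv_inv, hx] at h3
    rwa [h3] at h2
  have h2 : y⁻¹ * z * y * (y⁻¹ * z * y) = 1 := by
    calc _ = y⁻¹ * (z * z) * y := by group
      _ = 1 := by rw [hz]; group
  rcases hA _ h1 h2 with h | h
  · refine absurd ?_ hz1
    calc z = y * (y⁻¹ * z * y) * y⁻¹ := by group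
      _ = 1 := by rw [h]; group
  · show z * y = y * z
    conv_rhs => rw [← h]
    group

variable {z : G}

/-- A function vanishing when no conjugate under `C(z)` lies in the subgroup. -/
theorem sumC_eq_zero {A : Subgroup G} (θ : A → ℂ) {x : G}
    (h : ∀ y, Commute z y → y⁻¹ * x * y ∉ A) : sumC z A θ x = 0 :=
  Finset.sum_eq_zero fun y hy =>
    Char.extendByZero_of_notMem _ _ (h y (Finset.mem_filter.1 hy).2)

/-- The value when the fusion into `L⟨a⟩` is controlled by `A' ∪ A' σ⁻¹`. -/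
theorem sumC_two {L : Subgroup G} {a σ : G} {n r : ℕ} (c : CycOver L a n) {f : ℕ → ℂ}
    (hf : Function.Periodic f n) (A' : Subgroup G) (hA'C : ∀ y ∈ A', Commute z y)
    (hσC : Commute z σ) (hσ : σ ∉ A') {x : G} {i : ℕ}
    (hA' : ∀ y ∈ A', ∃ k ∈ L, y⁻¹ * x * y = k * a ^ i)
    (hσx : ∀ k ∈ L, ∃ k' ∈ L, σ * (k * a ^ i) * σ⁻¹ = k' * a ^ (r * i))
    (hsupp : ∀ y, Commute z y → y⁻¹ * x * y ∈ cyc L a → y ∈ A' ∨ y * σ ∈ A') :
    sumC z (cyc L a) (c.wt f) x = (Nat.card A' : ℂ) * (f i + f (r * i)) := by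
  set F : G → ℂ := fun y => extendByZero (cyc L a) (c.wt f) (y⁻¹ * x * y) with hF
  set S : Finset G := Finset.univ.filter fun y => y ∈ A'
  have h1 : ∀ y ∈ A', F y = f i := fun y hy => by
    obtain ⟨k, hk, e⟩ := hA' y hy
    exact c.ext_wt hf hk e
  have h2 : ∀ y ∈ A', F (y * σ⁻¹) = f (r * i) := fun y hy => by
    obtain ⟨k, hk, e⟩ := hA' y hy
    obtain ⟨k', hk', e'⟩ := hσx k hk
    refine c.ext_wt hf hk' ?_
    rw [← e', ← e]
    group
  have hdisj : Disjoint S (S.image (· * σ⁻¹)) := by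
    refine Finset.disjoint_left.2 fun y hy hy' => ?_
    obtain ⟨w, hw, rfl⟩ := Finset.mem_image.1 hy'
    have hy1 := (Finset.mem_filter.1 hy).2
    have hw1 := (Finset.mem_filter.1 hw).2
    exact hσ (inv_mem_iff.1 ((A'.mul_mem_cancel_left hw1).1 hy1))
  have hsum : sumC z (cyc L a) (c.wt f) x = ∑ y ∈ S ∪ S.image (· * σ⁻¹), F y := by
    refine (Finset.sum_subset (fun y hy => Finset.mem_filter.2 ⟨Finset.mem_univ _, ?_⟩)
      fun y hy hy' => Char.extendByZero_of_notMem _ _ fun hmem => hy' ?_).symm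
    · rcases Finset.mem_union.1 hy with h | h
      · exact hA'C y (Finset.mem_filter.1 h).2
      · obtain ⟨w, hw, rfl⟩ := Finset.mem_image.1 h
        exact (hA'C w (Finset.mem_filter.1 hw).2).mul_right hσC.inv_right
    · rcases hsupp y (Finset.mem_filter.1 hy).2 hmem with h | h
      · exact Finset.mem_union_left _ (Finset.mem_filter.2 ⟨Finset.mem_univ _, h⟩)
      · exact Finset.mem_union_right _ (Finset.mem_image.2
          ⟨y * σ, Finset.mem_filter.2 ⟨Finset.mem_univ _, h⟩, mul_inv_cancel_right y σ⟩)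
  rw [hsum, Finset.sum_union hdisj, Finset.sum_image fun _ _ _ _ h => mul_right_cancel h,
    Finset.sum_congr rfl fun y hy => h1 y (Finset.mem_filter.1 hy).2,
    Finset.sum_congr rfl fun y hy => h2 y (Finset.mem_filter.1 hy).2, Finset.sum_const,
    Finset.sum_const, nsmul_eq_mul, nsmul_eq_mul, ← mul_add]
  congr 2
  rw [Nat.card_eq_fintype_card, Fintype.card_subtype]

namespace Cent

variable {q : ℕ} {η : ℤ} {l g o : ℕ} (d : Cent z q η l g o)
include d

theorem card_centralizer :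
    (Finset.univ.filter fun y : G => Commute z y).card =
      Nat.card (Subgroup.centralizer ({z} : Set G)) := by
  rw [Nat.card_eq_fintype_card, Fintype.card_subtype]
  congr 1
  ext y
  simp only [Finset.mem_filter, Finset.mem_univ, true_and, Subgroup.mem_centralizer_singleton_iff]
  exact ⟨fun h => h.eq.symm, fun h => Commute.symm h⟩

/-- The value on `K`. -/
theorem sumC_K {L : Subgroup G} {a : G} {n : ℕ} (c : CycOver L a n) (hL : d.K ≤ L) {f : ℕ → ℂ}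
    (hf : Function.Periodic f n) {k : G} (hk : k ∈ d.K) :
    sumC z (cyc L a) (c.wt f) k =
      (Nat.card (Subgroup.centralizer ({z} : Set G)) : ℂ) * f 0 := by
  rw [sumC, Finset.sum_congr rfl fun y hy => ?_, Finset.sum_const, d.card_centralizer, nsmul_eq_mul]
  have h1 := d.normK y⁻¹ (Finset.mem_filter.1 hy).2.inv_right k hk
  rw [inv_inv] at h1
  exact c.ext_wt hf (hL h1) (by rw [pow_zero, mul_one])

/-- The value on `zK`. -/
theorem sumC_zK {L : Subgroup G} {a : G} {h : ℕ} (c : CycOver L a (2 * h)) (hL : d.K ≤ L)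
    (hz : a ^ h * z ∈ L) {f : ℕ → ℂ} (hf : Function.Periodic f (2 * h)) {k : G} (hk : k ∈ d.K) :
    sumC z (cyc L a) (c.wt f) (z * k) =
      (Nat.card (Subgroup.centralizer ({z} : Set G)) : ℂ) * f h := by
  rw [sumC, Finset.sum_congr rfl fun y hy => ?_, Finset.sum_const, d.card_centralizer, nsmul_eq_mul]
  have hy' := (Finset.mem_filter.1 hy).2
  have h1 := d.normK y⁻¹ hy'.inv_right k hk
  rw [inv_inv] at h1
  have hcz := d.K_le _ h1
  refine c.ext_wt hf (x := y⁻¹ * (z * k) * y) (k := y⁻¹ * k * y * ((a ^ (2 * h))⁻¹ *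
    (a ^ h * (a ^ h * z) * (a ^ h)⁻¹)))
    (mul_mem (hL h1) (mul_mem (inv_mem c.pow_self_mem) (c.norm_pow h hz))) (j := h) ?_
  calc y⁻¹ * (z * k) * y = z * (y⁻¹ * k * y) := by
        rw [← mul_assoc, ← hy'.inv_right.eq]; group
    _ = (y⁻¹ * k * y) * z := hcz.eq
    _ = _ := by rw [two_mul, pow_add]; group

theorem KT_normal (c : G) (hc : Commute z c) :
    ∀ k ∈ d.K, c * k * c⁻¹ ∈ d.K ⊔ Subgroup.zpowers d.t :=
  fun k hk => Subgroup.mem_sup_left (d.normK c hc k hk)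

/-- Values on `Aw` off `K⟨z⟩`. -/
theorem sumC_Aw {f : ℕ → ℂ} (hf : Function.Periodic f (2 * d.W)) {k : G} (hk : k ∈ d.K) {i : ℕ}
    (hi : ¬ d.W ∣ i) :
    sumC z d.Aw (d.cw.wt f) (k * d.aw ^ i) =
      (Nat.card d.Aw : ℂ) * (f i + f ((d.W - 1) * i)) := by
  refine sumC_two d.cw hf d.Aw (fun y hy => d.comm_Aw hy) d.comm_τ d.τ_notMem
    (fun y hy => d.cw.conj_coset hy hk i)
    (fun x hx => conj_mul_pow d.cw (fun w hw => d.normK _ d.comm_τ w hw) d.τ_conj hx i)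
    fun y hy hmem => d.selfW _ (mul_pow_mem_cyc hk i) (fun h => hi ?_) y hy hmem
  exact (d.mem_KZ_iff d.cw d.zw hk i).1 h

theorem exists_t_coord {y : G} (hy : y ∈ d.K ⊔ Subgroup.zpowers d.t) :
    ∃ k ∈ d.K, y = k ∨ y = k * d.t := by
  obtain ⟨k, hk, j, hj, rfl⟩ := d.ct.existsUnique_coord hy
  refine ⟨k, hk, ?_⟩
  interval_cases j
  · exact Or.inl (by rw [pow_zero, mul_one])
  · exact Or.inr (by rw [pow_one])

theorem conj_K_t : d.t * d.ag * d.t⁻¹ * (d.ag ^ 1)⁻¹ ∈ d.K := by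
  rw [pow_one]
  exact d.t_comm

theorem conj_Bg_of_Ag {y : G} (hy : y ∈ d.Ag) {k : G} (hk : k ∈ d.K) (i : ℕ) :
    ∃ k' ∈ d.K, y⁻¹ * (k * d.ag ^ i) * y = k' * d.ag ^ i := by
  obtain ⟨u, hu, j, -, rfl⟩ := d.cgt.existsUnique_coord hy
  obtain ⟨k₀, hk₀, hu'⟩ := d.exists_t_coord hu
  have h1 : ∀ k' ∈ d.K, ∃ k'' ∈ d.K,
      (d.ag ^ j)⁻¹ * (k' * d.ag ^ i) * d.ag ^ j = k'' * d.ag ^ i := fun k' hk' =>
    d.cg.conj_coset (pow_mem (self_mem_cyc _ _) j) hk' i
  obtain ⟨k₁, hk₁, e1⟩ := d.cg.conj_coset (left_le_cyc _ _ hk₀) hk i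
  rcases hu' with rfl | rfl
  · obtain ⟨k₂, hk₂, e2⟩ := h1 k₁ hk₁
    refine ⟨k₂, hk₂, ?_⟩
    rw [← e2, ← e1]; group
  · obtain ⟨k₂, hk₂, e2⟩ := conj_mul_pow d.cg (fun w hw => d.normK _ d.comm_t w hw) d.conj_K_t
      hk₁ i
    rw [one_mul] at e2
    obtain ⟨k₃, hk₃, e3⟩ := h1 k₂ hk₂
    refine ⟨k₃, hk₃, ?_⟩
    rw [← e3, ← e2, ← e1]
    have : d.t⁻¹ = d.t := inv_eq_of_mul_eq_one_right d.t_sq
    simp only [mul_inv_rev, this, mul_assoc]

theorem ρ_conj' : d.ρ * d.ag * d.ρ⁻¹ * (d.ag ^ (2 * g - 1))⁻¹ ∈ d.K := by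
  have h : (d.ag ^ (2 * g - 1))⁻¹ = d.ag * (d.ag ^ (2 * g))⁻¹ := by
    rw [eq_comm, ← mul_inv_eq_one, inv_inv]
    have hg2 : 2 * g = 2 * g - 1 + 1 := by have := d.g_pos; omega
    nth_rw 1 [hg2]
    rw [pow_succ']
    group
  rw [h, ← mul_assoc]
  exact mul_mem d.ρ_conj (inv_mem d.cg.pow_self_mem)

/-- Values on `Bg` off `K⟨z⟩`. -/
theorem sumC_Bg {f : ℕ → ℂ} (hf : Function.Periodic f (2 * g)) {k : G} (hk : k ∈ d.K) {i : ℕ}
    (hi : ¬ g ∣ i) :
    sumC z d.Bg (d.cg.wt f) (k * d.ag ^ i) =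
      (Nat.card d.Ag : ℂ) * (f i + f ((2 * g - 1) * i)) := by
  refine sumC_two d.cg hf d.Ag (fun y hy => d.comm_Ag hy) d.comm_ρ d.ρ_notMem
    (fun y hy => d.conj_Bg_of_Ag hy hk i)
    (fun x hx => conj_mul_pow d.cg (fun w hw => d.normK _ d.comm_ρ w hw) d.ρ_conj' hx i)
    fun y hy hmem => d.selfG _ (d.Bg_le_Ag (mul_pow_mem_cyc hk i)) (fun h => hi ?_) y hy
      (d.Bg_le_Ag hmem)
  exact (d.mem_KZ_iff d.cg d.zg hk i).1 h

theorem norm_KT_ρ : ∀ u ∈ d.K ⊔ Subgroup.zpowers d.t, ∃ u' ∈ d.K ⊔ Subgroup.zpowers d.t,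
    ∃ e, d.ρ * u * d.ρ⁻¹ = u' * d.ag ^ e ∧ g ∣ e := by
  intro u hu
  obtain ⟨k, hk, hu'⟩ := d.exists_t_coord hu
  have h1 := d.normK _ d.comm_ρ k hk
  rcases hu' with rfl | rfl
  · exact ⟨_, Subgroup.mem_sup_left h1, 0, by rw [pow_zero, mul_one], dvd_zero g⟩
  · obtain ⟨w, hw, hzw⟩ := d.z_eq_coset d.cg d.zg
    have htm : d.t ∈ d.K ⊔ Subgroup.zpowers d.t :=
      Subgroup.mem_sup_right (Subgroup.mem_zpowers _)
    refine ⟨d.ρ * k * d.ρ⁻¹ * (d.ρ * d.t * d.ρ⁻¹ * (z * d.t)) * d.t * w,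
      mul_mem (mul_mem (mul_mem (Subgroup.mem_sup_left h1) (Subgroup.mem_sup_left d.ρ_t)) htm)
        (Subgroup.mem_sup_left hw), g, ?_, dvd_rfl⟩
    rw [mul_assoc _ w, ← hzw]
    calc d.ρ * (k * d.t) * d.ρ⁻¹
        = d.ρ * k * d.ρ⁻¹ * (d.ρ * d.t * d.ρ⁻¹) * (z * (d.t * d.t) * z) := by
          rw [d.t_sq, mul_one, d.z_sq]; group
      _ = _ := by
          rw [show z * (d.t * d.t) * z = z * d.t * (d.t * z) by group]
          group

/-- Values on `Ag` off `K⟨z⟩` of functions trivial on `z`. -/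
theorem sumC_Ag {f : ℕ → ℂ} (hf : Function.Periodic f g) {u : G}
    (hu : u ∈ d.K ⊔ Subgroup.zpowers d.t) {i : ℕ} (hi : u * d.ag ^ i ∉ d.KZ) :
    sumC z d.Ag (d.cgt.wt f) (u * d.ag ^ i) =
      (Nat.card d.Ag : ℂ) * (f i + f ((2 * g - 1) * i)) := by
  set c := d.cgt
  have hf2 : Function.Periodic f (2 * g) := hf.nat_mul 2
  set x := u * d.ag ^ i with hx
  set F : G → ℂ := fun y => extendByZero d.Ag (c.wt f) (y⁻¹ * x * y) with hF
  set S : Finset G := Finset.univ.filter fun y => y ∈ d.Ag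
  have h1 : ∀ y ∈ d.Ag, F y = f i := fun y hy => by
    obtain ⟨k, hk, e⟩ := c.conj_coset hy hu i
    exact c.ext_wt hf2 hk e
  have h2 : ∀ y ∈ d.Ag, F (y * d.ρ⁻¹) = f ((2 * g - 1) * i) := fun y hy => by
    obtain ⟨k, hk, e⟩ := c.conj_coset hy hu i
    obtain ⟨k', hk', e', he, hge⟩ := d.norm_KT_ρ k hk
    obtain ⟨k'', hk'', he''⟩ := conj_mul_pow d.cg (fun w hw => d.normK _ d.comm_ρ w hw)
      d.ρ_conj' (x := 1) d.K.one_mem i
    have e2 : (y * d.ρ⁻¹)⁻¹ * x * (y * d.ρ⁻¹) =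
        k' * (d.ag ^ e' * k'' * (d.ag ^ e')⁻¹) * d.ag ^ (e' + (2 * g - 1) * i) := by
      calc (y * d.ρ⁻¹)⁻¹ * x * (y * d.ρ⁻¹) = d.ρ * (y⁻¹ * x * y) * d.ρ⁻¹ := by group
        _ = d.ρ * k * d.ρ⁻¹ * (d.ρ * (1 * d.ag ^ i) * d.ρ⁻¹) := by rw [e]; group
        _ = k' * d.ag ^ e' * (k'' * d.ag ^ ((2 * g - 1) * i)) := by rw [he, he'']
        _ = _ := by rw [pow_add]; group
    show extendByZero d.Ag (c.wt f) _ = _
    rw [e2, c.ext_wt hf2 (mul_mem hk' (Subgroup.mem_sup_left (d.cg.norm_pow _ hk''))) rfl]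
    obtain ⟨m, rfl⟩ := hge
    rw [add_comm, mul_comm g m]
    exact hf.nat_mul m _
  have hdisj : Disjoint S (S.image (· * d.ρ⁻¹)) := by
    refine Finset.disjoint_left.2 fun y hy hy' => ?_
    obtain ⟨w, hw, rfl⟩ := Finset.mem_image.1 hy'
    exact d.ρ_notMem (inv_mem_iff.1 ((d.Ag.mul_mem_cancel_left (Finset.mem_filter.1 hw).2).1
      (Finset.mem_filter.1 hy).2))
  have hsum : sumC z d.Ag (c.wt f) x = ∑ y ∈ S ∪ S.image (· * d.ρ⁻¹), F y := by
    refine (Finset.sum_subset (fun y hy => Finset.mem_filter.2 ⟨Finset.mem_univ _, ?_⟩)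
      fun y hy hy' => Char.extendByZero_of_notMem _ _ fun hmem => hy' ?_).symm
    · rcases Finset.mem_union.1 hy with h | h
      · exact d.comm_Ag (Finset.mem_filter.1 h).2
      · obtain ⟨w, hw, rfl⟩ := Finset.mem_image.1 h
        exact (d.comm_Ag (Finset.mem_filter.1 hw).2).mul_right d.comm_ρ.inv_right
    · rcases d.selfG _ (mul_pow_mem_cyc hu i) hi y (Finset.mem_filter.1 hy).2 hmem with h | h
      · exact Finset.mem_union_left _ (Finset.mem_filter.2 ⟨Finset.mem_univ _, h⟩)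
      · exact Finset.mem_union_right _ (Finset.mem_image.2
          ⟨y * d.ρ, Finset.mem_filter.2 ⟨Finset.mem_univ _, h⟩, mul_inv_cancel_right y d.ρ⟩)
  rw [hsum, Finset.sum_union hdisj, Finset.sum_image fun _ _ _ _ h => mul_right_cancel h,
    Finset.sum_congr rfl fun y hy => h1 y (Finset.mem_filter.1 hy).2,
    Finset.sum_congr rfl fun y hy => h2 y (Finset.mem_filter.1 hy).2, Finset.sum_const,
    Finset.sum_const, nsmul_eq_mul, nsmul_eq_mul, ← mul_add]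
  congr 2
  rw [Nat.card_eq_fintype_card, Fintype.card_subtype]

/-- The admissible multipliers of `au`. -/
def units (q : ℕ) : Finset ℕ := (Finset.range (2 * q)).filter fun j => Odd j ∧ ¬ q ∣ j

theorem exponent_mem_units {y : G} (hy : Commute z y) {k : G} (hk : k ∈ d.K) {j : ℕ}
    (hj : j < 2 * q) (h : y⁻¹ * d.au * y = k * d.au ^ j) : j ∈ units q := by
  have key : ∀ m, 2 * q ∣ j * m → 2 * q ∣ m := by
    intro m hm
    obtain ⟨k', hk', e⟩ := d.cu.mul_pow_pow hk j m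
    have h1 : (y⁻¹ * d.au * y) ^ m ∈ d.K := by
      rw [h, e]
      exact mul_mem hk' ((d.cu.mem_iff _).2 hm)
    have h2 := conj_pow (i := m) (a := y⁻¹) (b := d.au)
    rw [inv_inv] at h2
    rw [h2] at h1
    have h3 := d.normK y hy _ h1
    rw [← d.cu.mem_iff]
    have e2 : y * (y⁻¹ * d.au ^ m * y) * y⁻¹ = d.au ^ m := by group
    rwa [e2] at h3
  have hq3 := d.three_le_q
  refine Finset.mem_filter.2 ⟨Finset.mem_range.2 hj, ?_, fun hqj => ?_⟩
  · by_contra hodd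
    obtain ⟨m, rfl⟩ := Nat.not_odd_iff_even.1 hodd
    have := Nat.le_of_dvd d.hq.pos (key q ⟨m, by ring⟩)
    omega
  · obtain ⟨m, rfl⟩ := hqj
    have := Nat.le_of_dvd two_pos (key 2 ⟨m, by ring⟩)
    omega

/-- Values on `Au` off `K⟨z⟩`. -/
theorem sumC_Au {f : ℕ → ℂ} (hf : Function.Periodic f (2 * q)) {k : G} (hk : k ∈ d.K) {i : ℕ}
    (hi : ¬ q ∣ i) :
    sumC z d.Au (d.cu.wt f) (k * d.au ^ i) =
      (Nat.card d.Au : ℂ) * ∑ j ∈ units q, f (j * i) := by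
  have hrep : ∀ j ∈ units q, ∃ r, Commute z r ∧ r⁻¹ * d.au * r * (d.au ^ j)⁻¹ ∈ d.K :=
    fun j hj => d.surU j (Finset.mem_filter.1 hj).2.1 (Finset.mem_filter.1 hj).2.2
  choose r hr hrK using hrep
  have hnorm : ∀ j (hj : j ∈ units q) (y : G), y ∈ d.Au → ∀ k ∈ d.K, ∀ i,
      ∃ k' ∈ d.K, (y * r j hj)⁻¹ * (k * d.au ^ i) * (y * r j hj) = k' * d.au ^ (j * i) := by
    intro j hj y hy k hk i
    obtain ⟨k₁, hk₁, e1⟩ := d.cu.conj_coset hy hk i
    obtain ⟨k₂, hk₂, e2⟩ := conj_mul_pow (σ := (r j hj)⁻¹) d.cu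
      (fun w hw => d.normK _ (hr j hj).inv_right w hw) (by rw [inv_inv]; exact hrK j hj) hk₁ i
    refine ⟨k₂, hk₂, ?_⟩
    rw [← e2, ← e1]
    group
  set F : G → ℂ := fun y => extendByZero d.Au (d.cu.wt f) (y⁻¹ * (k * d.au ^ i) * y) with hF
  haveI := Fintype.ofFinite d.Au
  have hsum : sumC z d.Au (d.cu.wt f) (k * d.au ^ i) =
      ∑ p ∈ (units q).attach ×ˢ (Finset.univ : Finset d.Au), F ((p.2 : G) * r p.1.1 p.1.2) := by
    refine Eq.symm (Finset.sum_bij_ne_zero (fun p _ _ => (p.2 : G) * r p.1.1 p.1.2)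
      (fun p _ _ => Finset.mem_filter.2 ⟨Finset.mem_univ _,
        (d.comm_Au p.2.2).mul_right (hr _ p.1.2)⟩) ?_ ?_ fun _ _ _ => rfl)
    · intro p _ _ p' _ _ h
      have h1 : (p.1.1 : ℕ) = p'.1.1 := by
        obtain ⟨k₁, hk₁, e1⟩ := hnorm _ p.1.2 _ p.2.2 1 d.K.one_mem 1
        obtain ⟨k₂, hk₂, e2⟩ := hnorm _ p'.1.2 _ p'.2.2 1 d.K.one_mem 1
        rw [h, e2] at e1
        have := d.cu.pow_mem_cyc_eq hk₂ hk₁ e1
        rw [mul_one, mul_one] at this
        exact (Nat.ModEq.eq_of_lt_of_lt this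
          (Finset.mem_range.1 (Finset.mem_filter.1 p'.1.2).1)
          (Finset.mem_range.1 (Finset.mem_filter.1 p.1.2).1)).symm
      obtain ⟨⟨j, hj⟩, w⟩ := p
      obtain ⟨⟨j', hj'⟩, w'⟩ := p'
      simp only at h1
      subst h1
      exact Prod.ext rfl (Subtype.ext (mul_right_cancel h))
    · intro y hy hne
      have hy' := (Finset.mem_filter.1 hy).2
      have hmem : y⁻¹ * (k * d.au ^ i) * y ∈ d.Au := by
        by_contra h; exact hne (Char.extendByZero_of_notMem _ _ h)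
      have h1 := d.selfU _ (mul_pow_mem_cyc hk i)
        (fun h => hi ((d.mem_KZ_iff d.cu d.zu hk i).1 h)) y hy' hmem
      obtain ⟨k₁, hk₁, j, hj, e⟩ := d.cu.existsUnique_coord h1
      have hju := d.exponent_mem_units hy' hk₁ hj e
      refine ⟨(⟨j, hju⟩, ⟨y * (r j hju)⁻¹, d.kerU _ (hy'.mul_right (hr j hju).inv_right) ?_⟩),
        Finset.mem_product.2 ⟨Finset.mem_attach _ _, Finset.mem_univ _⟩, ?_, ?_⟩
      · have h2 := d.normK _ (hr j hju) _ (mul_mem hk₁ (inv_mem (hrK j hju)))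
        convert h2 using 1
        rw [mul_inv_rev, inv_inv, mul_assoc (r j hju) y⁻¹ d.au, mul_assoc (r j hju),
          show y⁻¹ * d.au * (y * (r j hju)⁻¹) = k₁ * d.au ^ j * (r j hju)⁻¹ by
            rw [← e]; group]
        group
      · show F (y * (r j hju)⁻¹ * r j hju) ≠ 0
        rw [inv_mul_cancel_right]
        exact hne
      · exact inv_mul_cancel_right y _
  rw [hsum, Finset.sum_product, Finset.mul_sum, ← Finset.sum_attach (units q)]
  refine Finset.sum_congr rfl fun p _ => ?_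
  rw [Finset.sum_congr rfl (g := fun _ => f (p.1 * i)) fun y _ => ?_, Finset.sum_const,
    Finset.card_univ, nsmul_eq_mul, Nat.card_eq_fintype_card]
  obtain ⟨k', hk', e⟩ := hnorm _ p.2 _ y.2 k hk i
  exact d.cu.ext_wt hf hk' e

end Cent

end Cfsg.Agent.SDCyclic
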