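import Cfsg.Agent.Lib.SDCyclic.Relation

/-!
# The value of the exceptional character at `z`

`X_apply_z : ε X(z) = E + 2 g D`, from the orthogonality of `y ↦ X(z y)` to the irreducible
characters `± (Ind ν - Ind ρ)` of `C(z)`, whose sums over the odd elements vanish.
-/

set_option autoImplicit false
set_option linter.style.haveILetI false
set_option linter.unusedSectionVars false

namespace Cfsg.Agent.SDCyclic

open Cfsg
open scoped ComplexConjugate Classical

universe u

variable {G : Type u} [Group G] [Fintype G]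

namespace CycOver

variable {L : Subgroup G} {a : G} {n : ℕ} (c : CycOver L a n)
include c

/-- The same data inside a subgroup. -/
theorem restrict (H : Subgroup G) (ha : a ∈ H) : CycOver (L.subgroupOf H) (⟨a, ha⟩ : H) n where
  norm x hx := by
    rw [Subgroup.mem_subgroupOf] at hx ⊢
    exact c.norm _ hx
  pos := c.pos
  mem_iff j := by
    rw [Subgroup.mem_subgroupOf]
    exact c.mem_iff j

theorem mem_restrict {H : Subgroup G} (hL : L ≤ H) (ha : a ∈ H) (y : H) :
    y ∈ cyc (L.subgroupOf H) (⟨a, ha⟩ : H) ↔ (y : G) ∈ cyc L a := by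
  rw [(c.restrict H ha).mem_cyc_iff, c.mem_cyc_iff]
  constructor
  · rintro ⟨x, hx, j, rfl⟩
    exact ⟨x, Subgroup.mem_subgroupOf.1 hx, j, by simp⟩
  · rintro ⟨x, hx, j, e⟩
    exact ⟨⟨x, hL hx⟩, Subgroup.mem_subgroupOf.2 hx, j, Subtype.ext (by simpa using e)⟩

theorem ext_restrict {H : Subgroup G} (hL : L ≤ H) (ha : a ∈ H) {f : ℕ → ℂ}
    (hf : Function.Periodic f n) (y : H) :
    extendByZero (cyc (L.subgroupOf H) (⟨a, ha⟩ : H)) ((c.restrict H ha).wt f) y =
      extendByZero (cyc L a) (c.wt f) (y : G) := by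
  by_cases h : (y : G) ∈ cyc L a
  · obtain ⟨x, hx, j, e⟩ := c.mem_cyc_iff.1 h
    rw [c.ext_wt hf hx e,
      (c.restrict H ha).ext_wt hf (k := ⟨x, hL hx⟩) (Subgroup.mem_subgroupOf.2 hx) (j := j)
        (Subtype.ext (by simpa using e))]
  · rw [Char.extendByZero_of_notMem _ _ h,
      Char.extendByZero_of_notMem _ _ fun h' => h ((c.mem_restrict hL ha y).1 h')]

theorem card_restrict {H : Subgroup G} (hL : L ≤ H) (ha : a ∈ H) :
    Nat.card (cyc (L.subgroupOf H) (⟨a, ha⟩ : H)) = Nat.card (cyc L a) := by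
  rw [(c.restrict H ha).card_cyc, c.card_cyc,
    Nat.card_congr (Subgroup.subgroupOfEquivOfLe hL).toEquiv]

/-- The sum over the odd elements. -/
theorem pregSum_cyc {K : Subgroup G} [Fintype (cyc L a)] {h : ℕ} (hn : n = 2 * h) (hKL : K ≤ L)
    (hodd : ∀ u ∈ L, ∀ i, Odd (orderOf (u * a ^ i)) ↔ u ∈ K ∧ Even i) (Φ : G → ℂ) (V : ℕ → ℂ)
    (hV : ∀ k ∈ K, ∀ i, Even i → Φ (k * a ^ i) = V i) :
    BlockCount.pregSum 2 (fun x : cyc L a => Φ x) =
      (Nat.card K : ℂ) * ∑ m ∈ Finset.range h, V (2 * m) := by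
  haveI := Fintype.ofFinite L
  rw [BlockCount.pregSum, Finset.sum_filter, Finset.sum_congr rfl (g := fun x : cyc L a =>
    (fun y => if ¬ 2 ∣ orderOf y then Φ y else 0) x) fun x _ => by
      simp only [Subgroup.orderOf_coe],
    c.sum_cyc fun y => if ¬ 2 ∣ orderOf y then Φ y else 0, ← sum_range_two_mul V h, ← hn,
    Finset.mul_sum]
  refine Finset.sum_congr rfl fun i _ => ?_
  rw [Finset.sum_congr rfl (g := fun x : L =>
    if (x : G) ∈ K then (if Even i then V i else 0) else 0) fun x _ => ?_]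
  · rw [← Finset.sum_filter, Finset.sum_const, nsmul_eq_mul]
    congr 2
    rw [← Fintype.card_subtype, ← Nat.card_eq_fintype_card]
    exact Nat.card_congr (Equiv.subtypeEquivRight fun _ => Iff.rfl |>.trans Subgroup.mem_subgroupOf.symm)
      |>.trans (Nat.card_congr (Subgroup.subgroupOfEquivOfLe hKL).toEquiv)
  · simp only [ZStar.not_two_dvd_iff_odd, hodd _ x.2 i]
    by_cases h1 : (x : G) ∈ K <;> by_cases h2 : Even i <;> simp [h1, h2, hV]

end CycOver

variable {z : G} {q : ℕ} {η : ℤ} {l g o : ℕ}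

namespace Cent

variable (d : Cent z q η l g o)
include d

/-- Induction to `C(z)` in terms of `sumC`. -/
theorem indC_apply {L : Subgroup G} {a : G} {n : ℕ} (c : CycOver L a n) [Fintype d.C]
    (hL : L ≤ d.C) (ha : a ∈ d.C) {f : ℕ → ℂ} (hf : Function.Periodic f n) (y : d.C) :
    indFun (cyc (L.subgroupOf d.C) (⟨a, ha⟩ : d.C)) ((c.restrict d.C ha).wt f) y =
      (Nat.card (cyc L a) : ℂ)⁻¹ * sumC z (cyc L a) (c.wt f) (y : G) := by
  rw [indFun, c.card_restrict hL ha, sumC]
  congr 1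
  rw [Finset.sum_congr rfl (g := fun x : d.C =>
    extendByZero (cyc L a) (c.wt f) ((x : G)⁻¹ * y * x)) fun x _ => by
      exact (c.ext_restrict hL ha hf _).trans (by simp)]
  refine Finset.sum_bij (fun x _ => (x : G))
    (fun x _ => Finset.mem_filter.2 ⟨Finset.mem_univ _, d.comm_C x⟩)
    (fun _ _ _ _ h => Subtype.ext h)
    (fun y hy => ⟨⟨y, d.mem_C (Finset.mem_filter.1 hy).2⟩, Finset.mem_univ _, rfl⟩) fun _ _ => rfl

theorem index_restrict {L : Subgroup G} {a : G} {n : ℕ} (c : CycOver L a n) (hL : L ≤ d.C)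
    (ha : a ∈ d.C) :
    Nat.card (cyc L a) * (cyc (L.subgroupOf d.C) (⟨a, ha⟩ : d.C)).index =
      4 * q * d.W * g * Nat.card d.K := by
  rw [← c.card_restrict hL ha, Subgroup.card_mul_index]
  exact d.card_C

theorem W_eq' : (d.W : ℂ) = 2 * q - 2 * g := by
  have h1 := d.W_cast
  have h2 := d.hqm
  exact_mod_cast (show (d.W : ℤ) = 2 * q - 2 * g by omega)

theorem eta_sq' : ((q : ℂ) - 2 * g) ^ 2 = 1 := by
  have h2 := d.hqm
  have h3 : ((q : ℤ) - 2 * g) ^ 2 = 1 := by
    rw [show (q : ℤ) - 2 * g = η by omega]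
    rcases d.hη with h | h <;> subst h <;> norm_num
  exact_mod_cast h3

theorem index_Au (ha : d.au ∈ d.C) (hK : d.K ≤ d.C) :
    (cyc (d.K.subgroupOf d.C) (⟨d.au, ha⟩ : d.C)).index = 2 * d.W * g := by
  have h := d.index_restrict d.cu hK ha
  rw [show Nat.card (cyc d.K d.au) = Nat.card d.K * (2 * q) from d.cu.card_cyc] at h
  refine Nat.eq_of_mul_eq_mul_left (Nat.mul_pos Nat.card_pos d.cu.pos) (h.trans ?_)
  ring

theorem index_Ag (ha : d.ag ∈ d.C) (hK : d.K ⊔ Subgroup.zpowers d.t ≤ d.C) :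
    (cyc ((d.K ⊔ Subgroup.zpowers d.t).subgroupOf d.C) (⟨d.ag, ha⟩ : d.C)).index = q * d.W := by
  have h := d.index_restrict d.cgt hK ha
  rw [show Nat.card (cyc (d.K ⊔ Subgroup.zpowers d.t) d.ag) =
    2 * Nat.card d.K * (2 * g) from d.card_Ag] at h
  refine Nat.eq_of_mul_eq_mul_left
    (Nat.mul_pos (Nat.mul_pos two_pos Nat.card_pos) d.cg.pos) (h.trans ?_)
  ring

/-- The odd elements of `Ag` lie in `Bg`. -/
theorem odd_Ag {u : G} (hu : u ∈ d.K ⊔ Subgroup.zpowers d.t) (i : ℕ) :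
    Odd (orderOf (u * d.ag ^ i)) ↔ u ∈ d.K ∧ Even i := by
  refine ⟨fun ho => ?_, fun ⟨hu, hi⟩ => d.odd_pow d.cg d.hg hi hu⟩
  obtain ⟨k, hk, h | h⟩ := d.exists_t_coord hu
  · subst h
    exact ⟨hk, d.even_of_odd_order d.cg hk ho⟩
  · exfalso
    subst h
    set x := k * d.t * d.ag ^ i with hx
    have h2 : x * x ∈ d.Bg := by
      obtain ⟨k₁, hk₁, e₁⟩ :=
        conj_mul_pow d.cg (fun w hw => d.normK _ d.comm_t w hw) d.conj_K_t
          (d.cg.norm_pow i hk) i
      rw [one_mul] at e₁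
      have e : x * x = k * k₁ * d.ag ^ i * d.ag ^ i := by
        rw [hx, mul_assoc k k₁, ← e₁, inv_eq_of_mul_eq_one_right d.t_sq]
        group
      rw [e, mul_assoc _ (d.ag ^ i), ← pow_add]
      exact mul_pow_mem_cyc (mul_mem hk hk₁) _
    obtain ⟨m, hm⟩ := ho
    have h3 : x = (x * x) ^ (m + 1) := by
      rw [← pow_two, ← pow_mul, show 2 * (m + 1) = orderOf x + 1 by omega, pow_succ,
        pow_orderOf_eq_one, one_mul]
    have h4 : x ∈ d.Bg := h3 ▸ pow_mem h2 _
    rw [hx, mul_assoc] at h4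
    have h5 := (d.Bg.mul_mem_cancel_left (left_le_cyc _ _ hk)).1 h4
    exact d.t_notMem ((d.Bg.mul_mem_cancel_right (pow_mem (self_mem_cyc _ _) i)).1 h5)

section Nu

variable {ω ξ : ℂ} (hω : ω ^ g = 1) (hω1 : ω ≠ 1) (hξ : IsPrimitiveRoot ξ q)
include hω hω1 hξ

/-- The generalized character of `C(z)` outside the principal block. -/
noncomputable def Rnu [Fintype d.C] (hag : d.ag ∈ d.C) (hau : d.au ∈ d.C) : d.C → ℂ :=
  indFun (cyc ((d.K ⊔ Subgroup.zpowers d.t).subgroupOf d.C) (⟨d.ag, hag⟩ : d.C))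
      ((d.cgt.restrict d.C hag).wt fun i => ω ^ i) -
    indFun (cyc (d.K.subgroupOf d.C) (⟨d.au, hau⟩ : d.C))
      ((d.cu.restrict d.C hau).wt fun i => ξ ^ i)

theorem sum_units_pow {i : ℕ} (hqi : ¬ q ∣ i) : ∑ j ∈ units q, ξ ^ (j * i) = -1 := by
  have hq := d.hq
  set ω' := ξ ^ i
  have hp : IsPrimitiveRoot ω' q :=
    hξ.pow_of_coprime i ((Nat.coprime_comm.1 ((hq.coprime_iff_not_dvd).2 hqi)))
  have hone : ω' ^ q = 1 := hp.pow_eq_one
  rw [Finset.sum_congr rfl (g := fun j => ω' ^ j) fun j _ => by rw [← pow_mul, mul_comm]]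
  have hne : ω' * ω' ≠ 1 := by
    intro h
    rw [← pow_two, hp.pow_eq_one_iff_dvd] at h
    have := Nat.le_of_dvd two_pos h
    have := d.three_le_q
    omega
  obtain ⟨m, hm⟩ := d.q_odd
  have hall : ∑ j ∈ Finset.range (2 * q), (if Odd j then ω' ^ j else 0) = 0 := by
    have h1 : ∀ n, ∑ j ∈ Finset.range (2 * n), (if Odd j then ω' ^ j else 0) =
        ω' * ∑ s ∈ Finset.range n, (ω' * ω') ^ s := by
      intro n
      induction n with
      | zero => simp
      | succ n ih =>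
        rw [show 2 * (n + 1) = 2 * n + 1 + 1 by ring, Finset.sum_range_succ, Finset.sum_range_succ,
          ih, Finset.sum_range_succ, if_neg (Nat.not_odd_iff_even.2 (even_two_mul n)),
          if_pos (odd_two_mul_add_one n)]
        rw [← pow_two, ← pow_mul, pow_succ]
        ring
    rw [h1, geom_sum_eq hne, mul_pow, hone]
    simp
  rw [← Finset.sum_filter] at hall
  have hsplit : (Finset.range (2 * q)).filter (fun j => Odd j) = insert q (units q) := by
    ext j
    simp only [units, Finset.mem_filter, Finset.mem_insert, Finset.mem_range]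
    constructor
    · rintro ⟨h1, h2⟩
      by_cases h3 : q ∣ j
      · obtain ⟨s, rfl⟩ := h3
        have hs : s < 2 := Nat.lt_of_mul_lt_mul_left (a := q) (by rwa [mul_comm q 2])
        interval_cases s
        · simp at h2
        · exact Or.inl (mul_one _)
      · exact Or.inr ⟨h1, h2, h3⟩
    · rintro (rfl | ⟨h1, h2, -⟩)
      · exact ⟨by omega, d.q_odd⟩
      · exact ⟨h1, h2⟩
  rw [hsplit, Finset.sum_insert (by simp [units])] at hall
  rw [hone] at hall
  linear_combination hall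

theorem periodic_ω : Function.Periodic (fun i => ω ^ i) g := periodic_pow hω

theorem periodic_ξ : Function.Periodic (fun i => ξ ^ i) (2 * q) :=
  periodic_pow (by rw [mul_comm, pow_mul, hξ.pow_eq_one, one_pow])

theorem sum_L_coset {R : Type*} [AddCommMonoid R]
    [Fintype (d.K ⊔ Subgroup.zpowers d.t : Subgroup G)] (Φ : G → R) (A B : R)
    (hA : ∀ u ∈ d.K, Φ u = A) (hB : ∀ u ∈ d.K ⊔ Subgroup.zpowers d.t, u ∉ d.K → Φ u = B) :
    ∑ u : (d.K ⊔ Subgroup.zpowers d.t : Subgroup G), Φ u = Nat.card d.K • (A + B) := by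
  haveI := Fintype.ofFinite d.K
  haveI : Fintype (cyc d.K d.t) := ‹Fintype (d.K ⊔ Subgroup.zpowers d.t : Subgroup G)›
  rw [show ∑ u : (d.K ⊔ Subgroup.zpowers d.t : Subgroup G), Φ u =
      ∑ u : cyc d.K d.t, Φ u from by congr 1; congr 1; exact Subsingleton.elim _ _,
    d.ct.sum_cyc Φ, Finset.sum_range_succ, Finset.sum_range_one, nsmul_add]
  congr 1
  · rw [Finset.sum_congr rfl fun x _ => hA _ (by rw [pow_zero, mul_one]; exact x.2),
      Finset.sum_const, Finset.card_univ, Nat.card_eq_fintype_card]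
  · rw [Finset.sum_congr rfl fun x _ => hB _ (mul_pow_mem_cyc x.2 1) fun h => ?_, Finset.sum_const,
      Finset.card_univ, Nat.card_eq_fintype_card]
    have := (d.ct.mul_pow_mem_iff x.2 1).1 h
    omega

theorem inner_Rnu [Fintype d.C] (hag : d.ag ∈ d.C) (hau : d.au ∈ d.C) :
    classInner (d.Rnu (ω := ω) (ξ := ξ) hag hau) (d.Rnu (ω := ω) (ξ := ξ) hag hau) = 1 := by
  have hKT : d.K ⊔ Subgroup.zpowers d.t ≤ d.C := fun x hx => d.mem_C (d.KT_le x hx)
  have hK : d.K ≤ d.C := fun x hx => d.mem_C (d.K_le x hx)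
  set L := (d.K ⊔ Subgroup.zpowers d.t).subgroupOf d.C
  haveI := Fintype.ofFinite L
  haveI := Fintype.ofFinite (d.K ⊔ Subgroup.zpowers d.t : Subgroup G)
  set cg' := d.cgt.restrict d.C hag
  set cu' := d.cu.restrict d.C hau
  have hf2 : Function.Periodic (fun i => ω ^ i) (2 * g) := (d.periodic_ω hω hω1 hξ).nat_mul 2
  have hfx := d.periodic_ξ hω hω1 hξ
  set A := indFun (cyc L (⟨d.ag, hag⟩ : d.C)) (cg'.wt fun i => ω ^ i) with hA
  set B := indFun (cyc (d.K.subgroupOf d.C) (⟨d.au, hau⟩ : d.C)) (cu'.wt fun i => ξ ^ i) with hB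
  have hmove : ∀ (Φ : d.C → ℂ) (Φ' : G → ℂ) (i : ℕ),
      (∀ y : d.C, Φ y = Φ' y) → ∑ k : L, Φ ((k : d.C) * (⟨d.ag, hag⟩ : d.C) ^ i) =
        ∑ u : (d.K ⊔ Subgroup.zpowers d.t : Subgroup G), Φ' ((u : G) * d.ag ^ i) := by
    intro Φ Φ' i h
    refine Fintype.sum_equiv (Subgroup.subgroupOfEquivOfLe hKT).toEquiv _ _ fun k => ?_
    rw [h]
    simp
  have hcg : (Nat.card d.Ag : ℂ) ≠ 0 := card_ne _
  have hidx : (Nat.card (Subgroup.centralizer ({z} : Set G)) : ℂ) / Nat.card d.Ag = q * d.W := by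
    rw [div_eq_iff hcg, d.card_C, show d.W = 2 ^ l * o from rfl, d.card_Ag]
    push_cast
    ring
  have hcu : (Nat.card d.Au : ℂ) ≠ 0 := card_ne _
  have hidxu : (Nat.card (Subgroup.centralizer ({z} : Set G)) : ℂ) / Nat.card d.Au =
      2 * d.W * g := by
    rw [div_eq_iff hcu, d.card_C, show d.W = 2 ^ l * o from rfl, d.card_Au]
    push_cast
    ring
  -- values on `K⟨z⟩`
  have hzA : ∀ k ∈ d.K, ∀ i, g ∣ i → sumC z d.Ag (d.cgt.wt fun i => ω ^ i) (k * d.ag ^ i) =
      Nat.card (Subgroup.centralizer ({z} : Set G)) := by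
    intro k hk i hi
    obtain ⟨m, rfl⟩ := hi
    obtain ⟨w, hw, e⟩ := d.z_eq_coset d.cg d.zg
    rcases Nat.even_or_odd' m with ⟨j, rfl | rfl⟩
    · rw [d.sumC_K d.cgt le_sup_left hf2 (mul_mem hk ((d.cg.mem_iff _).2 ⟨j, by ring⟩)), pow_zero,
        mul_one]
    · have hk' : k * d.ag ^ (g * (2 * j)) * w⁻¹ ∈ d.K :=
        mul_mem (mul_mem hk ((d.cg.mem_iff _).2 ⟨j, by ring⟩)) (inv_mem hw)
      have e' : k * d.ag ^ (g * (2 * j + 1)) = z * (k * d.ag ^ (g * (2 * j)) * w⁻¹) := by
        rw [(d.K_le _ hk').eq, mul_add, mul_one, pow_add]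
        calc k * (d.ag ^ (g * (2 * j)) * d.ag ^ g)
            = k * d.ag ^ (g * (2 * j)) * w⁻¹ * (w * d.ag ^ g) := by group
          _ = _ := by rw [← e]
      rw [e', d.sumC_zK d.cgt le_sup_left (Subgroup.mem_sup_left d.zg) hf2 hk']
      simp [hω]
  have hzB : ∀ k ∈ d.K, ∀ {a : G} {h : ℕ} (c : CycOver d.K a (2 * h)), a ^ h * z ∈ d.K →
      ∀ i, h ∣ i → sumC z d.Au (d.cu.wt fun i => ξ ^ i) (k * a ^ i) =
        Nat.card (Subgroup.centralizer ({z} : Set G)) := by
    intro k hk a h c hz i hi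
    obtain ⟨m, rfl⟩ := hi
    obtain ⟨w, hw, e⟩ := d.z_eq_coset c hz
    rcases Nat.even_or_odd' m with ⟨j, rfl | rfl⟩
    · rw [d.sumC_K d.cu le_rfl hfx (mul_mem hk ((c.mem_iff _).2 ⟨j, by ring⟩)), pow_zero, mul_one]
    · have hk' : k * a ^ (h * (2 * j)) * w⁻¹ ∈ d.K :=
        mul_mem (mul_mem hk ((c.mem_iff _).2 ⟨j, by ring⟩)) (inv_mem hw)
      have e' : k * a ^ (h * (2 * j + 1)) = z * (k * a ^ (h * (2 * j)) * w⁻¹) := by
        rw [(d.K_le _ hk').eq, mul_add, mul_one, pow_add]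
        calc k * (a ^ (h * (2 * j)) * a ^ h)
            = k * a ^ (h * (2 * j)) * w⁻¹ * (w * a ^ h) := by group
          _ = _ := by rw [← e]
      rw [e', d.sumC_zK d.cu le_rfl d.zu hfx hk']
      simp [hξ.pow_eq_one]
  have hrinv : ω ^ (2 * g - 1) = ω⁻¹ := by
    refine eq_inv_of_mul_eq_one_left ?_
    rw [← pow_succ, Nat.sub_add_cancel (by have := d.g_pos; omega), mul_comm, pow_mul,
      hω, one_pow]
  have hiff : ∀ u ∈ d.K, ∀ i, u * d.ag ^ i ∈ d.KZ ↔ g ∣ i :=
    fun u hu i => d.mem_KZ_iff d.cg d.zg hu i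
  have hnot : ∀ u ∈ d.K ⊔ Subgroup.zpowers d.t, u ∉ d.K → ∀ i, u * d.ag ^ i ∉ d.KZ := by
    intro u hu hu' i h
    obtain ⟨w, hw, e⟩ := d.z_eq_coset d.cg d.zg
    have hKZ : d.KZ ≤ d.Bg := sup_le (left_le_cyc _ _)
      (Subgroup.zpowers_le.2 (by
        have h2 : w * d.ag ^ g ∈ d.Bg := mul_pow_mem_cyc hw g
        rwa [← e] at h2))
    have h1 : u ∈ d.Bg :=
      (d.Bg.mul_mem_cancel_right (pow_mem (self_mem_cyc _ _) i)).1 (hKZ h)
    obtain ⟨k, hk, h2 | h2⟩ := d.exists_t_coord hu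
    · exact hu' (h2 ▸ hk)
    · rw [h2] at h1
      exact d.t_notMem ((d.Bg.mul_mem_cancel_left (left_le_cyc _ _ hk)).1 h1)
  -- the three inner products
  have hAA : classInner A A = 1 + ((q : ℂ) * d.W - 2) / (2 * g) := by
    rw [hA, classInner_wt_avg cg' hf2 (Char.isClassFunction_indFun _ _)
      (V := fun i => (ω ^ i + (ω⁻¹) ^ i) +
        if g ∣ i then ((q : ℂ) * d.W - 2) / 2 else 0) ?_]
    · simp only [map_add, mul_add, Finset.sum_add_distrib, apply_ite (starRingEnd ℂ), map_zero,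
        mul_ite, mul_zero]
      have hn : (2 * g : ℕ) ≠ 0 := by have := d.g_pos; omega
      have h1 : ω ^ (2 * g) = 1 := by rw [mul_comm, pow_mul, hω, one_pow]
      have hne : ω ≠ ω⁻¹ := by
        intro h
        refine hω1 ?_
        have h2 : ω ^ 2 = 1 := by
          rw [pow_two]
          nth_rw 2 [h]
          exact mul_inv_cancel₀ fun h0 => by simp [h0, zero_pow d.g_pos.ne'] at hω
        obtain ⟨m, hm⟩ := d.hg
        calc ω = ω ^ g := by rw [hm, pow_succ, pow_mul, h2, one_pow, one_mul]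
          _ = 1 := hω
      rw [sum_pow_conj hn h1 h1, sum_pow_conj hn h1 (by rw [inv_pow, h1, inv_one]), if_pos rfl,
        if_neg hne, Finset.sum_ite, Finset.sum_const_zero, add_zero, mul_zero, add_zero]
      have hfil : (Finset.range (2 * g)).filter (fun i => g ∣ i) = {0, g} := by
        ext i
        simp only [Finset.mem_filter, Finset.mem_range, Finset.mem_insert, Finset.mem_singleton]
        constructor
        · rintro ⟨h1, m, rfl⟩
          have hs : m < 2 := Nat.lt_of_mul_lt_mul_left (a := g) (by rwa [mul_comm g 2])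
          interval_cases m
          · exact Or.inl (mul_zero _)
          · exact Or.inr (mul_one _)
        · rintro (rfl | rfl)
          · exact ⟨by have := d.g_pos; omega, dvd_zero _⟩
          · exact ⟨by have := d.g_pos; omega, dvd_rfl⟩
      rw [hfil, Finset.sum_pair d.g_pos.ne, pow_zero, hω]
      simp only [map_div₀, map_sub, map_mul, map_natCast,
        show conj (2 : ℂ) = 2 from map_ofNat _ 2]
      have hg0 : (g : ℂ) ≠ 0 := Nat.cast_ne_zero.2 d.g_pos.ne'
      generalize d.W = W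
      push_cast
      field_simp
      ring
    · intro i hi
      rw [hmove A (fun x => (Nat.card d.Ag : ℂ)⁻¹ * sumC z d.Ag (d.cgt.wt fun i => ω ^ i) x) i
          fun y => d.indC_apply d.cgt hKT hag hf2 y,
        Nat.card_congr (Subgroup.subgroupOfEquivOfLe hKT).toEquiv, d.card_KT,
        d.sum_L_coset hω hω1 hξ
          (fun u => (Nat.card d.Ag : ℂ)⁻¹ * sumC z d.Ag (d.cgt.wt fun i => ω ^ i) (u * d.ag ^ i))
          (if g ∣ i then (q : ℂ) * d.W else ω ^ i + (ω⁻¹) ^ i) (ω ^ i + (ω⁻¹) ^ i) ?_ ?_]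
      · rw [nsmul_eq_mul]
        push_cast
        split_ifs with hgi
        · obtain ⟨m, rfl⟩ := hgi
          rw [pow_mul, pow_mul, hω, one_pow, inv_pow, hω, inv_one, one_pow]
          ring
        · ring
      · intro u hu
        split_ifs with hgi
        · rw [hzA u hu i hgi, inv_mul_eq_div, hidx]
        · rw [d.sumC_Ag (d.periodic_ω hω hω1 hξ) (Subgroup.mem_sup_left hu)
            (fun h => hgi ((hiff u hu i).1 h)), ← mul_assoc, inv_mul_cancel₀ hcg, one_mul, pow_mul,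
            hrinv]
      · intro u hu hu'
        rw [d.sumC_Ag (d.periodic_ω hω hω1 hξ) hu (hnot u hu hu' i), ← mul_assoc,
          inv_mul_cancel₀ hcg, one_mul, pow_mul, hrinv]
  have hAB : classInner A B = d.W := by
    rw [hA, classInner_wt_avg cg' hf2 (Char.isClassFunction_indFun _ _)
      (V := fun i => if g ∣ i then (d.W * g : ℂ) else 0) ?_]
    · simp only [apply_ite (starRingEnd ℂ), map_zero, mul_ite, mul_zero, Finset.sum_ite,
        Finset.sum_const_zero, add_zero, map_mul, map_natCast]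
      have hfil : (Finset.range (2 * g)).filter (fun i => g ∣ i) = {0, g} := by
        ext i
        simp only [Finset.mem_filter, Finset.mem_range, Finset.mem_insert, Finset.mem_singleton]
        constructor
        · rintro ⟨h1, m, rfl⟩
          have hs : m < 2 := Nat.lt_of_mul_lt_mul_left (a := g) (by rwa [mul_comm g 2])
          interval_cases m
          · exact Or.inl (mul_zero _)
          · exact Or.inr (mul_one _)
        · rintro (rfl | rfl)
          · exact ⟨by have := d.g_pos; omega, dvd_zero _⟩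
          · exact ⟨by have := d.g_pos; omega, dvd_rfl⟩
      rw [hfil, Finset.sum_pair d.g_pos.ne, pow_zero, hω]
      have hg0 : (g : ℂ) ≠ 0 := Nat.cast_ne_zero.2 d.g_pos.ne'
      generalize d.W = W
      push_cast
      field_simp
      ring
    · intro i hi
      rw [hmove B (fun x => (Nat.card d.Au : ℂ)⁻¹ * sumC z d.Au (d.cu.wt fun i => ξ ^ i) x) i
          fun y => d.indC_apply d.cu hK hau hfx y,
        Nat.card_congr (Subgroup.subgroupOfEquivOfLe hKT).toEquiv, d.card_KT,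
        d.sum_L_coset hω hω1 hξ
          (fun u => (Nat.card d.Au : ℂ)⁻¹ * sumC z d.Au (d.cu.wt fun i => ξ ^ i) (u * d.ag ^ i))
          (if g ∣ i then 2 * (d.W : ℂ) * g else 0) 0 ?_ ?_]
      · rw [nsmul_eq_mul]
        push_cast
        split_ifs <;> ring
      all_goals
        have key : ∀ x : G, x ∈ d.Ag → x ∉ d.KZ → sumC z d.Au (d.cu.wt fun i => ξ ^ i) x = 0 := by
          intro x hx hx'
          refine sumC_eq_zero _ fun y hy hmem => ?_
          refine d.crossUG _ hmem ?_ y⁻¹ hy.inv_right (by rwa [show (y⁻¹)⁻¹ * (y⁻¹ * x * y) * y⁻¹ = x by group])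
          intro h
          refine hx' ?_
          change y⁻¹ * x * y ∈ cyc d.K z at h
          change x ∈ cyc d.K z
          rw [d.cz.mem_cyc_iff] at h ⊢
          obtain ⟨k, hk, j, e⟩ := h
          refine ⟨y * k * y⁻¹, d.normK y hy k hk, j, ?_⟩
          calc x = y * (y⁻¹ * x * y) * y⁻¹ := by group
            _ = y * k * (z ^ j * y⁻¹) := by rw [e]; group
            _ = _ := by rw [((hy.inv_right).pow_left j).eq]; group
      · intro u hu
        split_ifs with hgi
        · rw [hzB u hu d.cg d.zg i hgi, inv_mul_eq_div, hidxu]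
        · rw [key _ (mul_pow_mem_cyc (Subgroup.mem_sup_left hu) i)
            (fun h => hgi ((hiff u hu i).1 h)), mul_zero]
      · intro u hu hu'
        rw [key _ (mul_pow_mem_cyc hu i) (hnot u hu hu' i), mul_zero]
  have hBB : classInner B B = q := by
    rw [hB, classInner_wt cu' hfx (Char.isClassFunction_indFun _ _)
      (V := fun i => if q ∣ i then 2 * (d.W : ℂ) * g else -1) ?_]
    · have h1 : ξ ^ (2 * q) = 1 := by rw [mul_comm, pow_mul, hξ.pow_eq_one, one_pow]
      have hsum : ∑ i ∈ Finset.range (2 * q), ξ ^ i = 0 := by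
        rw [sum_pow_root h1, if_neg (hξ.ne_one d.hq.one_lt)]
      have hfil : (Finset.range (2 * q)).filter (fun i => q ∣ i) = {0, q} := by
        ext i
        simp only [Finset.mem_filter, Finset.mem_range, Finset.mem_insert, Finset.mem_singleton]
        constructor
        · rintro ⟨h1, m, rfl⟩
          have hs : m < 2 := Nat.lt_of_mul_lt_mul_left (a := q) (by rwa [mul_comm q 2])
          interval_cases m
          · exact Or.inl (mul_zero _)
          · exact Or.inr (mul_one _)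
        · rintro (rfl | rfl)
          · exact ⟨by have := d.hq.pos; omega, dvd_zero _⟩
          · exact ⟨by have := d.hq.pos; omega, dvd_rfl⟩
      rw [Finset.sum_congr rfl (g := fun i => -ξ ^ i +
        if q ∣ i then ξ ^ i * (2 * (d.W : ℂ) * g + 1) else 0) fun i _ => ?_,
        Finset.sum_add_distrib, Finset.sum_neg_distrib, hsum, Finset.sum_ite,
        Finset.sum_const_zero, add_zero, hfil, Finset.sum_pair (by have := d.hq.pos; omega),
        pow_zero, hξ.pow_eq_one]
      · have hW := d.W_eq' 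
        have hη := d.eta_sq'
        have hq0 : (q : ℂ) ≠ 0 := Nat.cast_ne_zero.2 d.hq.ne_zero
        generalize d.W = W at *
        push_cast
        rw [hW]
        field_simp
        linear_combination (-2) * hη
      · split_ifs
        · simp only [map_mul, map_natCast, show conj (2 : ℂ) = 2 from map_ofNat _ 2]
          ring
        · simp
    · intro i hi hne k hk
      rw [d.indC_apply d.cu hK hau hfx, Subgroup.coe_mul, SubmonoidClass.coe_pow]
      split_ifs with hqi
      · rw [hzB _ (Subgroup.mem_subgroupOf.1 hk) d.cu d.zu i hqi, inv_mul_eq_div, hidxu]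
      · rw [d.sumC_Au hfx (Subgroup.mem_subgroupOf.1 hk) hqi, ← mul_assoc, inv_mul_cancel₀ hcu,
          one_mul, d.sum_units_pow hω hω1 hξ hqi]
  rw [Rnu, ← hA, ← hB, Char.classInner_sub_left, Char.classInner_sub_right,
    Char.classInner_sub_right, hAA, hAB, hBB, ← Char.conj_classInner A B, hAB, map_natCast]
  have hW := d.W_eq'
  have hη := d.eta_sq'
  have hg0 : (g : ℂ) ≠ 0 := Nat.cast_ne_zero.2 d.g_pos.ne'
  generalize d.W = W at *
  rw [hW]
  field_simp
  linear_combination hη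

theorem exists_irr_Rnu [Fintype d.C] {M : Ideal AlgInt} (hM : IsPModular 2 M)
    (hag : d.ag ∈ d.C) (hau : d.au ∈ d.C) :
    ∃ ψ : IrrCharacter d.C, ψ ∉ principalBlock M d.C ∧
      (d.Rnu (ω := ω) (ξ := ξ) hag hau = ψ.1 ∨ d.Rnu (ω := ω) (ξ := ξ) hag hau = -ψ.1) := by
  haveI : Fact (Nat.Prime 2) := ⟨Nat.prime_two⟩
  have hKT : d.K ⊔ Subgroup.zpowers d.t ≤ d.C := fun x hx => d.mem_C (d.KT_le x hx)
  have hK : d.K ≤ d.C := fun x hx => d.mem_C (d.K_le x hx)
  set cg' := d.cgt.restrict d.C hag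
  set cu' := d.cu.restrict d.C hau
  have hn1 : ω ^ (2 * g) = 1 := by rw [mul_comm, pow_mul, hω, one_pow]
  have hn2 : ξ ^ (2 * q) = 1 := by rw [mul_comm, pow_mul, hξ.pow_eq_one, one_pow]
  have hgen : IsGeneralizedCharacter d.C (d.Rnu (ω := ω) (ξ := ξ) hag hau) :=
    Char.IsGeneralizedCharacter.sub
      (Char.IsCharacter.isGeneralized (Char.isCharacter_indFun _ (θ := fun x => cg'.lam hn1 x)
        (Char.IsIrrCharacter.isCharacter (Char.isIrrCharacter_of_monoidHom _))))
      (Char.IsCharacter.isGeneralized (Char.isCharacter_indFun _ (θ := fun x => cu'.lam hn2 x)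
        (Char.IsIrrCharacter.isCharacter (Char.isIrrCharacter_of_monoidHom _))))
  obtain ⟨ψ, hψ⟩ := Char.IsGeneralizedCharacter.irr_or_neg_of_norm_one hgen
    (d.inner_Rnu hω hω1 hξ hag hau)
  refine ⟨ψ, fun hmem => ?_, hψ⟩
  have h0 : BlockCount.pregSum 2 (d.Rnu (ω := ω) (ξ := ξ) hag hau) = 0 := by
    haveI := Fintype.ofFinite (cyc ((d.K ⊔ Subgroup.zpowers d.t).subgroupOf d.C) (⟨d.ag, hag⟩ : d.C))
    haveI := Fintype.ofFinite (cyc (d.K.subgroupOf d.C) (⟨d.au, hau⟩ : d.C))
    have hsum : ∀ {n : ℕ} {ρ : ℂ}, ρ ^ n = 1 → Odd n → ρ ≠ 1 →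
        ∑ m ∈ Finset.range n, ρ ^ (2 * m) = 0 := by
      intro n ρ hρ hn hne
      have hne2 : ρ ^ 2 ≠ 1 := by
        intro h
        obtain ⟨j, rfl⟩ := hn
        exact hne (by rwa [pow_succ, pow_mul, h, one_pow, one_mul] at hρ)
      simp only [pow_mul]
      rw [geom_sum_eq hne2, ← pow_mul, mul_comm, pow_mul, hρ, one_pow, sub_self, zero_div]
    rw [Rnu, show ∀ a b : d.C → ℂ, BlockCount.pregSum 2 (a - b) =
      BlockCount.pregSum 2 a - BlockCount.pregSum 2 b from fun a b => by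
        simp only [BlockCount.pregSum, Pi.sub_apply, Finset.sum_sub_distrib],
      BlockCount.pregSum_indFun, BlockCount.pregSum_indFun]
    have e1 := cg'.pregSum_cyc (K := d.K.subgroupOf d.C) rfl
      (Subgroup.comap_mono le_sup_left) (fun u hu i => by
        rw [← Subgroup.orderOf_coe, Subgroup.mem_subgroupOf, Subgroup.coe_mul,
          SubmonoidClass.coe_pow]
        exact d.odd_Ag (Subgroup.mem_subgroupOf.1 hu) i)
      (extendByZero _ (cg'.wt fun i => ω ^ i)) (fun i => ω ^ i)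
      (fun k hk i _ => cg'.ext_wt (periodic_pow hn1) (Subgroup.comap_mono le_sup_left hk) rfl)
    have e2 := cu'.pregSum_cyc (K := d.K.subgroupOf d.C) rfl le_rfl (fun u hu i => by
        rw [← Subgroup.orderOf_coe, Subgroup.mem_subgroupOf, Subgroup.coe_mul,
          SubmonoidClass.coe_pow]
        rw [Subgroup.mem_subgroupOf] at hu
        exact ⟨fun h => ⟨hu, d.even_of_odd_order d.cu hu h⟩,
          fun h => d.odd_pow d.cu d.q_odd h.2 hu⟩)
      (extendByZero _ (cu'.wt fun i => ξ ^ i)) (fun i => ξ ^ i)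
      (fun k hk i _ => cu'.ext_wt (periodic_pow hn2) hk rfl)
    simp only [Char.extendByZero_coe] at e1 e2
    rw [hsum hω d.hg hω1, mul_zero] at e1
    rw [hsum hξ.pow_eq_one d.q_odd (hξ.ne_one d.hq.one_lt), mul_zero] at e2
    rw [e1, e2, mul_zero, mul_zero, sub_zero]
  refine BlockCount.pregSum_ne_zero hM hmem ?_
  rcases hψ with h | h <;> rw [h] at h0
  · exact h0
  · simpa [BlockCount.pregSum] using h0

end Nu

end Cent

end Cfsg.Agent.SDCyclic
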